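import Cfsg.Agent.Lib.Recog.UFourThree.SwapDefs

set_option autoImplicit false
set_option maxRecDepth 100000
set_option Elab.async false

/-! Fusion of the involutions of the centraliser (owner: helper22). -/

namespace CfsgLib.Recog.UFourThree

/-- every entry is conjugate to a reached one by a generator or the swapping element, and all involutions are reached -/
def fusClosed : List (ℕ × ℕ × ℕ) → ℕ → Bool
  | [], m => (List.range 1152).all fun x => Nat.beq x 0 || (Bool.not (Nat.beq (mul x x) 0) || Nat.testBit m x)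
  | (y, p, j) :: t, m => Nat.testBit m p && Nat.blt p 1152 &&
      ((Nat.blt j 5 && Nat.beq (cj (cgens.getD j 0) p) y) || (Nat.beq j 5 && (tList.contains p && Nat.beq (sig p) y))) &&
      fusClosed t (Nat.lor m (Nat.pow 2 y))

theorem fusion_check : fusClosed fusion (Nat.pow 2 48) = true := by decide +kernel

theorem fus_induction {P : ℕ → Prop} (hj : ∀ p j, p < 1152 → j < 5 → P p → P (cj (cgens.getD j 0) p))
    (hs : ∀ p, p ∈ tList → P p → P (sig p)) :
    ∀ {T : List (ℕ × ℕ × ℕ)} {m : ℕ}, fusClosed T m = true → (∀ i, Nat.testBit m i = true → P i) →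
      ∀ x < 1152, x ≠ 0 → mul x x = 0 → P x
  | [], m, hc, hm, x, hx, hx0, hxx => by
    simp only [fusClosed, List.all_eq_true, List.mem_range, Bool.or_eq_true, Bool.not_eq_true', Nat.beq_eq] at hc
    rcases hc x hx with h | h | h
    · exact absurd h hx0
    · rw [hxx] at h; exact absurd h (by decide)
    · exact hm x h
  | (y, p, j) :: T, m, hc, hm, x, hx, hx0, hxx => by
    simp only [fusClosed, Bool.and_eq_true, Bool.or_eq_true, Nat.beq_eq, Nat.blt_eq, List.contains_iff_mem] at hc
    obtain ⟨⟨⟨h1, h2⟩, h3⟩, h4⟩ := hc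
    refine fus_induction hj hs h4 (fun i hi => ?_) x hx hx0 hxx
    rw [show Nat.lor m (Nat.pow 2 y) = m ||| 2 ^ y from rfl, Nat.testBit_or, Bool.or_eq_true] at hi
    rcases hi with hi | hi
    · exact hm i hi
    · rw [Nat.testBit_two_pow, decide_eq_true_eq] at hi
      rw [← hi]
      rcases h3 with ⟨h5, h6⟩ | ⟨-, h5, h6⟩
      · exact h6 ▸ hj p j h2 h5 (hm p h1)
      · exact h6 ▸ hs p h5 (hm p h1)

theorem involution_induction {P : ℕ → Prop} (h0 : P 48)
    (hj : ∀ p j, p < 1152 → j < 5 → P p → P (cj (cgens.getD j 0) p)) (hs : ∀ p, p ∈ tList → P p → P (sig p)) :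
    ∀ x < 1152, x ≠ 0 → mul x x = 0 → P x :=
  fus_induction hj hs fusion_check fun i hi => by
    rw [show Nat.pow 2 48 = 2 ^ 48 from rfl, Nat.testBit_two_pow, decide_eq_true_eq] at hi
    exact hi ▸ h0

end CfsgLib.Recog.UFourThree
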