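import Cfsg.Agent.Lib.Recog.UFourThree.Model

set_option autoImplicit false
set_option maxRecDepth 100000
set_option Elab.async false

/-! The five generators give the whole centraliser (owner: helper22). -/

namespace CfsgLib.Recog.UFourThree

/-- every entry continues a reached one, and all are reached; the reached ones are marked by bits -/
def bitClosed : List (ℕ × ℕ × ℕ) → ℕ → Bool
  | [], m => Nat.beq m (Nat.pow 2 1152 - 1)
  | (y, p, j) :: t, m => Nat.testBit m p && Nat.blt p 1152 && Nat.blt j 5 &&
      Nat.beq (mul p (cgens.getD j 0)) y && bitClosed t (Nat.lor m (Nat.pow 2 y))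

theorem cTree_check : bitClosed cTree 1 = true := by decide +kernel

theorem bit_induction {P : ℕ → Prop} (hs : ∀ p j, p < 1152 → j < 5 → P p → P (mul p (cgens.getD j 0))) :
    ∀ {T : List (ℕ × ℕ × ℕ)} {m : ℕ}, bitClosed T m = true → (∀ i, Nat.testBit m i = true → P i) →
      ∀ x < 1152, P x
  | [], m, hc, hm, x, hx => hm x (by
      simp only [bitClosed, Nat.beq_eq] at hc
      rw [hc, show Nat.pow 2 1152 = 2 ^ 1152 from rfl, Nat.testBit_two_pow_sub_one]
      simpa using hx)
  | (y, p, j) :: T, m, hc, hm, x, hx => by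
    simp only [bitClosed, Bool.and_eq_true, Nat.beq_eq, Nat.blt_eq] at hc
    obtain ⟨⟨⟨⟨h1, h2⟩, h3⟩, h4⟩, h5⟩ := hc
    refine bit_induction hs h5 (fun i hi => ?_) x hx
    rw [show Nat.lor m (Nat.pow 2 y) = m ||| 2 ^ y from rfl, Nat.testBit_or, Bool.or_eq_true] at hi
    rcases hi with hi | hi
    · exact hm i hi
    · rw [Nat.testBit_two_pow, decide_eq_true_eq] at hi
      rw [← hi, ← h4]
      exact hs p j h2 h3 (hm p h1)

/-- induction over the centraliser -/
theorem cent_induction {P : ℕ → Prop} (h0 : P 0) (hs : ∀ p j, p < 1152 → j < 5 → P p → P (mul p (cgens.getD j 0))) :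
    ∀ x < 1152, P x :=
  bit_induction hs cTree_check fun i hi => by
    rcases i with _ | i
    · exact h0
    · simp [Nat.testBit_succ] at hi

end CfsgLib.Recog.UFourThree
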