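import Cfsg.Agent.Lib.Known.U43Mult.Points
import Cfsg.Agent.Lib.Recog.UFourThree.ImageData
import Cfsg.Agent.Lib.Recog.SporBound.U43C.Data
import Cfsg.Agent.Lib.Recog.SporBound.U43Top.Data

set_option autoImplicit false
set_option maxRecDepth 100000
set_option Elab.async false

/-! Checks on the six involutions of PSU(4,3) (owner: helper22). -/

namespace CfsgLib.Recog.UFourThree

open CfsgLib.Schur.Cert CfsgLib.Sporadic CfsgLib.Recog.SporBound

/-- the image of a point under a word in the involutions -/
noncomputable def imgW (w : List ℕ) (x : ℕ) : ℕ := w.foldr (fun c y => pgetN (imPerm.getD c 0) y) x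

theorem imWords_check : (Nat.beq imWords.length 6 && Nat.beq imPerm.length 6 &&
    (List.range 6).all fun c => (imWords.getD c []).all (fun l => Nat.blt l.1 2) &&
      (List.range 126).all fun x =>
        Nat.beq (wordImgN Known.U43Mult.gperm Known.U43Mult.ginv (imWords.getD c []) x) (pgetN (imPerm.getD c 0) x)) = true := by
  decide +kernel

theorem imRels_check : (U43Top.cert.rels.all fun r => r.all (fun c => Nat.blt c 6) &&
    (List.range 126).all fun x => Nat.beq (imgW r x) x) = true := by decide +kernel

theorem genWords_check : ((List.range 2).all fun j => (genWords.getD j []).all (fun c => Nat.blt c 6) &&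
    (List.range 126).all fun x => Nat.beq (imgW (genWords.getD j []) x) (pgetN (Known.U43Mult.gperm.getD j 0) x)) = true := by
  decide +kernel

theorem crels_check : (U43C.cert.rels.all fun r => U43Top.cert.rels.contains r) = true := by decide +kernel

theorem cert_shape : ((U43Top.cert.subs == [[0], [1], [2], [3], [4]]) && (U43Top.cert.kl == [0, 1, 2, 3, 4, 5]) &&
    (U43C.cert.subs == []) && (U43C.cert.kl == [0, 1, 2, 3, 4]) && Nat.beq U43Top.cert.n 2835 &&
    Nat.beq U43C.cert.n 1152) = true := by decide +kernel

end CfsgLib.Recog.UFourThree
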