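import Cfsg.Agent.Lib.Recog.UFourThree.IdentDefs

set_option autoImplicit false
set_option maxRecDepth 100000
set_option Elab.async false

/-! One candidate extension fails the counting test (owner: helper22). -/

namespace CfsgLib.Recog.UFourThree

theorem excludeA : excludeB false false true = true := by decide +kernel

end CfsgLib.Recog.UFourThree
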