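import Mathlib
import Cfsg.Agent.Lib.Recog.UFourThree.IdentCheckA
import Cfsg.Agent.Lib.Recog.UFourThree.IdentCheckB

set_option autoImplicit false
set_option maxRecDepth 100000
set_option Elab.async false

/-!
# The centraliser is the model

The squares and the commutator of the outer elements are determined by counting pairs in the two subgroups of order 16
exchanged by the swapping element (owner: helper22).
-/

namespace CfsgLib.Recog.UFourThree

open CfsgLib.Sporadic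

theorem sq_check : ([(false, false, false), (false, true, false), (true, false, false), (true, true, false),
    (true, true, true)].all fun e => Bool.not (Nat.beq (sqCount e.1 e.2.1 e.2.2 48) (sqCount e.1 e.2.1 e.2.2 iu))) = true := by
  decide +kernel

theorem ne_of_not_beq {a b : ℕ} (h : Bool.not (Nat.beq a b) = true) : a ≠ b := fun e => by
  have h2 : Nat.beq a b = true := e ▸ Nat.beq_refl a
  rw [h2] at h
  exact Bool.noConfusion h

theorem exclude_check (e₁ e₂ e₃ : Bool) (h : (e₁, e₂, e₃) ≠ (true, false, true)) :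
    excludeB e₁ e₂ e₃ = true ∨ sqCount e₁ e₂ e₃ 48 ≠ sqCount e₁ e₂ e₃ iu := by
  have aux : ∀ e : Bool × Bool × Bool, e ∈ [(false, false, false), (false, true, false), (true, false, false),
      (true, true, false), (true, true, true)] → sqCount e.1 e.2.1 e.2.2 48 ≠ sqCount e.1 e.2.1 e.2.2 iu :=
    fun e he => ne_of_not_beq (List.all_eq_true.1 sq_check e he)
  cases e₁ <;> cases e₂ <;> cases e₃
  · exact Or.inr (aux (false, false, false) (by simp))
  · exact Or.inl excludeA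
  · exact Or.inr (aux (false, true, false) (by simp))
  · exact Or.inl excludeB_two
  · exact Or.inr (aux (true, false, false) (by simp))
  · exact absurd rfl h
  · exact Or.inr (aux (true, true, false) (by simp))
  · exact Or.inr (aux (true, true, true) (by simp))

theorem outer_check : ((List.range 288).all fun k => [1, 2, 3].all fun w =>
    Bool.not (kgens.all fun q => Nat.beq (kmul (kmul (4 * k) q) (kinv (4 * k))) (act w q))) = true := by
  decide +kernel

theorem gen_act_check : (kgens.all fun q => Nat.beq (act 1 (act 1 q)) q && Nat.beq (act 2 (act 2 q)) q &&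
    Nat.beq (act 1 (act 2 q)) (act 2 (act 1 q)) && Nat.beq (act 0 q) q &&
    ((List.range 4).all fun w => (List.range 4).all fun v => Nat.beq (act w (act v q)) (act (wx w v) q))) = true := by
  decide +kernel

theorem mul_w : ∀ e₁ e₂ e₃ : Bool, ∀ x : Fin 4, ∀ y : Fin 4,
    mulE e₁ e₂ e₃ x y = cond (coc e₁ e₂ e₃ x y) (mulE e₁ e₂ e₃ 48 (wx x y)) (wx x y) := by decide +kernel

namespace Base

variable {G : Type*} [Group G] (B : Base G)

/-- outer elements -/
structure Outer where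
  /-- the first element -/
  t : G
  /-- the second element -/
  s : G
  /-- first square -/
  e₁ : Bool
  /-- second square -/
  e₂ : Bool
  /-- commutator -/
  e₃ : Bool
  ht : t * B.z = B.z * t
  hs : s * B.z = B.z * s
  t_act : ∀ x, IsK x → t * B.kx x * t⁻¹ = B.kx (act 1 x)
  s_act : ∀ x, IsK x → s * B.kx x * s⁻¹ = B.kx (act 2 x)
  t_sq : t * t = B.kx (zp e₁)
  s_sq : s * s = B.kx (zp e₂)
  st : s * t = B.kx (zp e₃) * (t * s)

theorem exists_outer' : Nonempty B.Outer := by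
  obtain ⟨t, s, ⟨ht, hs⟩, h⟩ := B.exists_outer
  have hg : ∀ j < 4, IsK (kgens.getD j 0) := fun j hj => kgens_isK (kgens_mem hj)
  have hc := gen_act_check
  simp only [Bool.and_eq_true, List.all_eq_true, Nat.beq_eq] at hc
  have key : ∀ c : G, c * B.z = B.z * c → (∀ j < 4, c * B.kx (kgens.getD j 0) * c⁻¹ = B.kx (kgens.getD j 0)) →
      ∃ e, c = B.kx (zp e) := by
    intro c hcz hcj
    rcases B.cent_of_gens hcz (fun j hj => mul_inv_eq_iff_eq_mul.1 (hcj j hj)) with h | h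
    · exact ⟨false, by rw [h]; exact B.kx_one.symm⟩
    · exact ⟨true, by rw [h]; exact B.kx_z.symm⟩
  have ha : ∀ j (hj : j < 4), IsK (act 1 (kgens.getD j 0)) ∧ IsK (act 2 (kgens.getD j 0)) := fun j hj =>
    ⟨isK_act (hg j hj).1 1, isK_act (hg j hj).1 2⟩
  obtain ⟨e₁, h1⟩ := key (t * t) (Commute.mul_left ht ht).eq fun j hj => by
    calc t * t * B.kx (kgens.getD j 0) * (t * t)⁻¹ = t * (t * B.kx (kgens.getD j 0) * t⁻¹) * t⁻¹ := by group
      _ = _ := by rw [(h _ (hg j hj)).1, (h _ (ha j hj).1).1, (hc _ (kgens_mem hj)).1.1.1.1]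
  obtain ⟨e₂, h2⟩ := key (s * s) (Commute.mul_left hs hs).eq fun j hj => by
    calc s * s * B.kx (kgens.getD j 0) * (s * s)⁻¹ = s * (s * B.kx (kgens.getD j 0) * s⁻¹) * s⁻¹ := by group
      _ = _ := by rw [(h _ (hg j hj)).2, (h _ (ha j hj).2).2, (hc _ (kgens_mem hj)).1.1.1.2]
  obtain ⟨e₃, h3⟩ := key (s * t * (t * s)⁻¹)
      ((Commute.mul_left hs ht).mul_left (Commute.mul_left ht hs).inv_left).eq fun j hj => by
    have e1 : s * t * B.kx (kgens.getD j 0) * (s * t)⁻¹ = t * s * B.kx (kgens.getD j 0) * (t * s)⁻¹ := by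
      calc s * t * B.kx (kgens.getD j 0) * (s * t)⁻¹ = s * (t * B.kx (kgens.getD j 0) * t⁻¹) * s⁻¹ := by group
        _ = B.kx (act 2 (act 1 (kgens.getD j 0))) := by rw [(h _ (hg j hj)).1, (h _ (ha j hj).1).2]
        _ = B.kx (act 1 (act 2 (kgens.getD j 0))) := by rw [(hc _ (kgens_mem hj)).1.1.2]
        _ = t * (s * B.kx (kgens.getD j 0) * s⁻¹) * t⁻¹ := by rw [(h _ (hg j hj)).2, (h _ (ha j hj).2).1]
        _ = _ := by group
    -- the conjugation by `(t * s)⁻¹` then by `s * t`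
    obtain ⟨p, hp, hpe⟩ := B.conj_kx (Commute.mul_left ht hs).inv_left.eq (kgens.getD j 0)
    have e2 : ∀ x, IsK x → s * t * B.kx x * (s * t)⁻¹ = t * s * B.kx x * (t * s)⁻¹ := by
      intro x hx
      refine kx_induction (P := fun x => s * t * B.kx x * (s * t)⁻¹ = t * s * B.kx x * (t * s)⁻¹) ?_ ?_ hx
      · simp [B.kx_one]
      · intro q i hq hi hP
        rw [B.kx_mul hq (hg i hi)]
        have e1' : s * t * B.kx (kgens.getD i 0) * (s * t)⁻¹ = t * s * B.kx (kgens.getD i 0) * (t * s)⁻¹ := by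
          calc s * t * B.kx (kgens.getD i 0) * (s * t)⁻¹ = s * (t * B.kx (kgens.getD i 0) * t⁻¹) * s⁻¹ := by group
            _ = B.kx (act 2 (act 1 (kgens.getD i 0))) := by rw [(h _ (hg i hi)).1, (h _ (ha i hi).1).2]
            _ = B.kx (act 1 (act 2 (kgens.getD i 0))) := by rw [(hc _ (kgens_mem hi)).1.1.2]
            _ = t * (s * B.kx (kgens.getD i 0) * s⁻¹) * t⁻¹ := by rw [(h _ (hg i hi)).2, (h _ (ha i hi).2).1]
            _ = _ := by group
        calc s * t * (B.kx q * B.kx (kgens.getD i 0)) * (s * t)⁻¹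
            = (s * t * B.kx q * (s * t)⁻¹) * (s * t * B.kx (kgens.getD i 0) * (s * t)⁻¹) := by group
          _ = _ := by rw [hP, e1']; group
    calc s * t * (t * s)⁻¹ * B.kx (kgens.getD j 0) * (s * t * (t * s)⁻¹)⁻¹
        = s * t * ((t * s)⁻¹ * B.kx (kgens.getD j 0) * (t * s)⁻¹⁻¹) * (s * t)⁻¹ := by group
      _ = t * s * ((t * s)⁻¹ * B.kx (kgens.getD j 0) * (t * s)⁻¹⁻¹) * (t * s)⁻¹ := by rw [hpe, e2 p hp]
      _ = _ := by group
  exact ⟨⟨t, s, e₁, e₂, e₃, ht, hs, fun x hx => (h x hx).1, fun x hx => (h x hx).2, h1, h2,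
    mul_inv_eq_iff_eq_mul.1 h3⟩⟩

namespace Outer

variable {B} (O : B.Outer)

/-- outer representatives -/
def y (w : ℕ) : G := cond (Nat.blt w 2) (cond (Nat.beq w 1) O.t 1) (cond (Nat.beq w 3) (O.t * O.s) O.s)

/-- the map from the model -/
def psi (x : ℕ) : G := B.kx x * O.y (xw x)

theorem y_comm_z (w : ℕ) : O.y w * B.z = B.z * O.y w := by
  unfold y
  cases Nat.blt w 2 <;> cases Nat.beq w 1 <;> cases Nat.beq w 3 <;>
    first
      | exact O.ht
      | exact O.hs
      | exact (Commute.mul_left O.ht O.hs).eq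
      | simp

theorem y_act {w x : ℕ} (hw : w < 4) (hx : IsK x) : O.y w * B.kx x * (O.y w)⁻¹ = B.kx (act w x) := by
  have h3 : act 3 x = act 1 (act 2 x) ∧ act 0 x = x := by
    have : ∀ k : Fin 288, act 3 (4 * k) = act 1 (act 2 (4 * k)) ∧ act 0 (4 * k) = 4 * k := by decide +kernel
    obtain ⟨k, hk, rfl⟩ := isK_eq hx
    exact this ⟨k, hk⟩
  interval_cases w
  · rw [h3.2]; show 1 * _ * (1 : G)⁻¹ = _; group
  · exact O.t_act x hx
  · exact O.s_act x hx
  · show O.t * O.s * B.kx x * (O.t * O.s)⁻¹ = _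
    rw [h3.1, ← O.t_act _ (isK_act hx.1 2), ← O.s_act x hx]
    group

theorem zp_comm (e : Bool) (c : G) (hc : c * B.z = B.z * c) : c * B.kx (zp e) = B.kx (zp e) * c := by
  cases e
  · rw [zp, cond_false, B.kx_one, mul_one, one_mul]
  · rw [zp, cond_true, B.kx_z, hc]

theorem y_mul (w v : Fin 4) :
    O.y w * O.y v = B.kx (zp (coc O.e₁ O.e₂ O.e₃ w v)) * O.y (wx w v) := by
  have yv : O.y 0 = 1 ∧ O.y 1 = O.t ∧ O.y 2 = O.s ∧ O.y 3 = O.t * O.s := ⟨rfl, rfl, rfl, rfl⟩
  have hwx : ∀ a b : Fin 4, wx a b = [0, 1, 2, 3, 1, 0, 3, 2, 2, 3, 0, 1, 3, 2, 1, 0].getD (4 * a + b) 0 := by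
    decide
  have hcoc : ∀ e₁ e₂ e₃ : Bool, ∀ a b : Fin 4, coc e₁ e₂ e₃ a b = [false, false, false, false,
      false, e₁, false, e₁, false, e₃, e₂, Bool.xor e₂ e₃,
      false, Bool.xor e₁ e₃, e₂, Bool.xor (Bool.xor e₁ e₂) e₃].getD (4 * a + b) false := by decide
  have hx : ∀ a b : Bool, B.kx (zp (Bool.xor a b)) = B.kx (zp a) * B.kx (zp b) := by
    intro a b
    cases a <;> cases b <;> simp [zp, B.kx_one, B.kx_z, B.z_sq]
  have hn : B.kx (zp false) = 1 := B.kx_one
  have hT : ∀ e X, O.t * (B.kx (zp e) * X) = B.kx (zp e) * (O.t * X) := fun e X => by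
    rw [← mul_assoc, zp_comm e O.t O.ht, mul_assoc]
  have hS : ∀ e X, O.s * (B.kx (zp e) * X) = B.kx (zp e) * (O.s * X) := fun e X => by
    rw [← mul_assoc, zp_comm e O.s O.hs, mul_assoc]
  have t2 : ∀ X, O.t * (O.t * X) = B.kx (zp O.e₁) * X := fun X => by rw [← mul_assoc, O.t_sq]
  have s2 : ∀ X, O.s * (O.s * X) = B.kx (zp O.e₂) * X := fun X => by rw [← mul_assoc, O.s_sq]
  have st : ∀ X, O.s * (O.t * X) = B.kx (zp O.e₃) * (O.t * (O.s * X)) := fun X => by
    rw [← mul_assoc, O.st, mul_assoc, mul_assoc]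
  rw [hwx, hcoc]
  suffices h : ∀ X, O.y w * (O.y v * X) = B.kx (zp ([false, false, false, false,
      false, O.e₁, false, O.e₁, false, O.e₃, O.e₂, Bool.xor O.e₂ O.e₃,
      false, Bool.xor O.e₁ O.e₃, O.e₂, Bool.xor (Bool.xor O.e₁ O.e₂) O.e₃].getD (4 * w + v) false)) *
      (O.y ([0, 1, 2, 3, 1, 0, 3, 2, 2, 3, 0, 1, 3, 2, 1, 0].getD (4 * w + v) 0) * X) by
    simpa using h 1
  intro X
  have hcm : ∀ a b : Bool, Bool.xor a b = Bool.xor b a := by decide
  fin_cases w <;> fin_cases v <;>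
    simp [yv.1, yv.2.1, yv.2.2.1, yv.2.2.2, hn, hx, mul_assoc, t2, s2, st, hT, hS]
  all_goals
    cases O.e₁ <;> cases O.e₂ <;> cases O.e₃ <;> simp [zp, B.kx_one, B.kx_z]

theorem psi_mul {x y : ℕ} (hx : x < 1152) (hy : y < 1152) :
    O.psi (mulE O.e₁ O.e₂ O.e₃ x y) = O.psi x * O.psi y := by
  have hxa : xa x < 24 := (xa_lt hx).trans (by norm_num)
  have hya : xa y < 24 := (xa_lt hy).trans (by norm_num)
  have hp := actP_lt hya (xb_lt y) (xw x)
  have h1 := sl_mul hxa hp.1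
  have h2 := sl_mul (xb_lt x) hp.2
  set b := cond (coc O.e₁ O.e₂ O.e₃ (xw x) (xw y)) (ng (m24 (xb x) (actP (xw x) (xa y) (xb y)).2))
    (m24 (xb x) (actP (xw x) (xa y) (xb y)).2) with hb
  have hb24 : b < 24 := by
    rw [hb]; cases coc O.e₁ O.e₂ O.e₃ (xw x) (xw y)
    · exact h2.1
    · exact ng_lt _
  have hm : mulE O.e₁ O.e₂ O.e₃ x y = can (m24 (xa x) (actP (xw x) (xa y) (xb y)).1) b (wx (xw x) (xw y)) := rfl
  have hkb : B.kx (mulE O.e₁ O.e₂ O.e₃ x y) = B.kx x *
      B.kx (can (actP (xw x) (xa y) (xb y)).1 (actP (xw x) (xa y) (xb y)).2 0) *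
      B.kx (zp (coc O.e₁ O.e₂ O.e₃ (xw x) (xw y))) := by
    rw [hm, B.kx_can h1.1 hb24 _ (wx_lt _ _), B.kx_can hp.1 hp.2 0 (by norm_num), kx_def, ← map_mul, h1.2, hb]
    cases coc O.e₁ O.e₂ O.e₃ (xw x) (xw y)
    · rw [cond_false, zp, cond_false, B.kx_one, mul_one, h2.2]; rfl
    · rw [cond_true, zp, cond_true, sl_ng h2.1, h2.2, B.kx_z, ← B.phi_z, ← map_mul]
      simp
  have hw : xw (mulE O.e₁ O.e₂ O.e₃ x y) = wx (xw x) (xw y) := by
    rw [hm]; exact (can_spec h1.1 hb24 (wx_lt _ _)).2.1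
  have hk : B.kx y = B.kx ((xa y * 24 + xb y) * 4 + 0) := by
    rw [kx_def, kx_def]
    congr 3 <;> simp only [xa, xb] <;> omega
  have hyk : IsK ((xa y * 24 + xb y) * 4 + 0) := by
    have := xa_lt hy
    have := xb_lt y
    exact ⟨by omega, by simp only [xw]; omega⟩
  have hact : O.y (xw x) * B.kx y * (O.y (xw x))⁻¹ =
      B.kx (can (actP (xw x) (xa y) (xb y)).1 (actP (xw x) (xa y) (xb y)).2 0) := by
    rw [hk, O.y_act (xw_lt x) hyk, act]
    have e1 : xa ((xa y * 24 + xb y) * 4 + 0) = xa y := by simp only [xa, xb]; omega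
    have e2 : xb ((xa y * 24 + xb y) * 4 + 0) = xb y := by simp only [xa, xb]; omega
    rw [e1, e2]
  have hy' := O.y_mul ⟨xw x, xw_lt x⟩ ⟨xw y, xw_lt y⟩
  dsimp only at hy'
  unfold psi
  rw [hw, hkb, ← hact, mul_assoc _ (B.kx (zp _)), ← hy']
  group

theorem psi_kx {x : ℕ} (hx : IsK x) : O.psi x = B.kx x := by
  rw [psi, hx.2]
  exact mul_one _

theorem psi_zero : O.psi 0 = 1 := by rw [O.psi_kx isK_zero, B.kx_one]

theorem psi_z : O.psi 48 = B.z := by rw [O.psi_kx isK_z, B.kx_z]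

theorem psi_u : O.psi iu = B.u := O.psi_kx iu_isK

theorem psi_comm_z (x : ℕ) : O.psi x * B.z = B.z * O.psi x :=
  (Commute.mul_left (B.kx_comm_z x) (O.y_comm_z (xw x))).eq

/-- the part in the product of the two factors -/
theorem kpart {x : ℕ} (hx : x < 1152) : IsK (x - xw x) ∧ B.kx x = B.kx (x - xw x) := by
  refine ⟨⟨by omega, by simp only [xw]; omega⟩, ?_⟩
  rw [kx_def, kx_def]
  congr 3 <;> simp only [xa, xb, xw] <;> omega

theorem psi_inj {x x' : ℕ} (hx : x < 1152) (hx' : x' < 1152) (h : O.psi x = O.psi x') : x = x' := by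
  obtain ⟨hk, hke⟩ := kpart (B := B) hx
  obtain ⟨hk', hke'⟩ := kpart (B := B) hx'
  unfold psi at h
  by_cases hw : xw x = xw x'
  · rw [hw, mul_left_inj, hke, hke'] at h
    have := B.kx_inj hk hk' h
    simp only [xw] at hw this
    omega
  exfalso
  rw [hke, hke'] at h
  set k := kmul (kinv (x' - xw x')) (x - xw x) with hkdef
  have hkK : IsK k := isK_kmul (isK_kinv hk') hk
  have hy : O.y (xw x') = B.kx k * O.y (xw x) := by
    rw [hkdef, B.kx_mul (isK_kinv hk') hk, B.kx_inv hk', mul_assoc, h, inv_mul_cancel_left]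
  obtain ⟨n, hn, hne⟩ := isK_eq hkK
  have hchk := outer_check
  simp only [List.all_eq_true, List.mem_range, Bool.not_eq_true', List.all_eq_false] at hchk
  have hv : wx (xw x') (xw x) ∈ [1, 2, 3] := by
    have h1 := xw_lt x
    have h2 := xw_lt x'
    have hd : ∀ a b : Fin 4, a ≠ b → wx b a ∈ [1, 2, 3] := by decide
    exact hd ⟨_, h1⟩ ⟨_, h2⟩ (fun e => hw (congrArg Fin.val e))
  obtain ⟨q, hq, hqn⟩ := hchk n hn _ hv
  refine hqn (Nat.beq_eq ▸ ?_)
  rw [← hne]
  have hqK := kgens_isK hq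
  have hc := gen_act_check
  simp only [Bool.and_eq_true, List.all_eq_true, List.mem_range, Nat.beq_eq] at hc
  obtain ⟨⟨-, hc0⟩, hcc⟩ := hc q hq
  have haK := isK_act hqK.1 (xw x)
  refine B.kx_inj (isK_kmul (isK_kmul hkK hqK) (isK_kinv hkK)) (isK_act hqK.1 _) ?_
  rw [B.kx_mul (isK_kmul hkK hqK) (isK_kinv hkK), B.kx_mul hkK hqK, B.kx_inv hkK,
    ← hcc (xw x') (xw_lt x') (xw x) (xw_lt x), ← O.y_act (xw_lt x') haK, hy]
  have h2 : O.y (xw x) * B.kx (act (xw x) q) * (O.y (xw x))⁻¹ = B.kx q := by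
    rw [O.y_act (xw_lt x) haK, hcc (xw x) (xw_lt x) (xw x) (xw_lt x),
      show wx (xw x) (xw x) = 0 by simp only [wx]; omega, hc0]
  calc B.kx k * B.kx q * (B.kx k)⁻¹
      = B.kx k * (O.y (xw x) * B.kx (act (xw x) q) * (O.y (xw x))⁻¹) * (B.kx k)⁻¹ := by rw [h2]
    _ = _ := by group

theorem psi_surj {c : G} (hc : c * B.z = B.z * c) : ∃ x < 1152, O.psi x = c := by
  have hmem : ∀ x : Fin 1152, O.psi x ∈ Subgroup.centralizer ({B.z} : Set G) := fun x =>
    Subgroup.mem_centralizer_singleton_iff.2 (O.psi_comm_z x)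
  let f : Fin 1152 → Subgroup.centralizer ({B.z} : Set G) := fun x => ⟨O.psi x, hmem x⟩
  have hfin : Finite (Subgroup.centralizer ({B.z} : Set G)) :=
    Nat.finite_of_card_ne_zero (by rw [B.card_cent]; norm_num)
  have hf : Function.Bijective f := by
    refine (Nat.bijective_iff_injective_and_card f).2 ⟨fun a b h => Fin.ext ?_, ?_⟩
    · exact O.psi_inj a.2 b.2 (congrArg Subtype.val h)
    · rw [B.card_cent, Nat.card_fin]
  obtain ⟨x, hx⟩ := hf.2 ⟨c, Subgroup.mem_centralizer_singleton_iff.2 hc⟩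
  exact ⟨x, x.2, congrArg Subtype.val hx⟩

theorem model : (O.e₁, O.e₂, O.e₃) = (true, false, true) := by
  classical
  by_contra hne
  have hex := exclude_check _ _ _ hne
  set E := mulE O.e₁ O.e₂ O.e₃ with hE
  have hmul : ∀ {a b : ℕ}, a < 1152 → b < 1152 → O.psi (E a b) = O.psi a * O.psi b := fun ha hb => O.psi_mul ha hb
  have hlt : ∀ {a b : ℕ}, a < 1152 → b < 1152 → E a b < 1152 := fun ha hb => mulE_lt _ _ _ ha hb
  have heq : ∀ {a b : ℕ}, a < 1152 → b < 1152 → (O.psi a = O.psi b ↔ a = b) := fun ha hb =>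
    ⟨O.psi_inj ha hb, fun h => h ▸ rfl⟩
  have hr : ∀ r ∈ rList, r < 1152 := fun r h => (r_isK h).1
  -- the conjugate subgroup
  choose! f hf1 hf2 using fun s (hs : s ∈ rList) => O.psi_surj (B.kg_comm_z hs)
  have hgr : ∀ r ∈ rList, ∃ t ∈ rList, B.g * B.kg r * B.g⁻¹ = B.kx t := by
    intro r hr'
    have hgz : B.g * B.g * B.z = B.z * (B.g * B.g) := by
      calc B.g * B.g * B.z = B.g * (B.g * B.z * B.g⁻¹) * B.g⁻¹ * (B.g * B.g) := by group
        _ = _ := by rw [B.g_z_eq, B.g_u_eq]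
    obtain ⟨t, ht, hte⟩ := B.conj_q hgz (r_mem_q hr').1
    have hte' : B.g * B.kg r * B.g⁻¹ = B.kx t := by rw [← hte, kg]; group
    refine ⟨t, ?_, hte'⟩
    have hu : B.kx t * B.u = B.u * B.kx t := by
      rw [← hte', ← B.g_z_eq]
      calc B.g * B.kg r * B.g⁻¹ * (B.g * B.z * B.g⁻¹) = B.g * (B.kg r * B.z) * B.g⁻¹ := by group
        _ = _ := by rw [B.kg_comm_z hr']; group
    rw [u, ← B.kx_mul (q_isK ht) iu_isK, ← B.kx_mul iu_isK (q_isK ht)] at hu
    have h := B.kx_inj (isK_kmul (q_isK ht) iu_isK) (isK_kmul iu_isK (q_isK ht)) hu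
    have hc := isK_check
    simp only [Bool.and_eq_true, List.all_eq_true, Bool.or_eq_true, Bool.not_eq_true', List.contains_iff_mem] at hc
    refine (hc.1.1.1.2 t ht).resolve_left ?_
    rw [h]
    simp
  have hv : ∀ v ∈ vList, v < 1152 := fun v h => hr v (v_mem_r h)
  have hfinj : ∀ r ∈ rList, ∀ s ∈ rList, f r = f s → r = s := by
    intro r hr' s hs h
    have := congrArg O.psi h
    rw [hf2 r hr', hf2 s hs, kg, kg] at this
    exact B.kx_inj (r_isK hr') (r_isK hs) (mul_left_cancel (mul_right_cancel this))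
  -- each class of the four group meets it four times
  have hfib : ∀ r ∈ rList, ∀ s ∈ rList, xw (f r) = xw (f s) → ∃ v ∈ vList, f r = E v (f s) := by
    intro r hr' s hs h
    have hw : B.kg r * (B.kg s)⁻¹ = B.kx (kmul (f r - xw (f r)) (kinv (f s - xw (f s)))) := by
      obtain ⟨k1, e1⟩ := kpart (B := B) (hf1 r hr')
      obtain ⟨k2, e2⟩ := kpart (B := B) (hf1 s hs)
      rw [B.kx_mul k1 (isK_kinv k2), B.kx_inv k2, ← e1, ← e2, ← hf2 r hr', ← hf2 s hs, psi, psi, h]
      group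
    set k := kmul (f r - xw (f r)) (kinv (f s - xw (f s))) with hk
    have hkK : IsK k := isK_kmul (kpart (B := B) (hf1 r hr')).1 (isK_kinv (kpart (B := B) (hf1 s hs)).1)
    have hrs : ∀ a ∈ rList, ∀ b ∈ rList, kmul a (kinv b) ∈ qList := by decide +kernel
    have hkg : B.g * B.kx (kmul r (kinv s)) * B.g⁻¹ = B.kx k := by
      rw [← hw, B.kx_mul (r_isK hr') (isK_kinv (r_isK hs)), B.kx_inv (r_isK hs), kg, kg]
      group
    have hkq : k ∈ qList := by
      have hb := base_checks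
      simp only [Bool.and_eq_true, List.all_eq_true, List.mem_range, Bool.or_eq_true, Bool.not_eq_true',
        List.contains_iff_mem, Nat.beq_eq] at hb
      obtain ⟨⟨⟨⟨⟨⟨⟨⟨⟨-, hq⟩, hq4⟩, -⟩, -⟩, -⟩, -⟩, -⟩, -⟩, -⟩ := hb
      obtain ⟨n, hn, hne'⟩ := isK_eq hkK
      rw [hne'] at hkg hkK ⊢
      refine (hq n hn).resolve_left fun hcon => ?_
      have hx := hrs r hr' s hs
      have hxK := q_isK hx
      have h4 : B.kx (kmul (kmul (4 * n) (4 * n)) (kmul (4 * n) (4 * n))) = B.kx 0 := by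
        rw [B.kx_mul (isK_kmul hkK hkK) (isK_kmul hkK hkK), B.kx_mul hkK hkK, ← hkg]
        have := congrArg B.kx (hq4 _ hx)
        rw [B.kx_mul (isK_kmul hxK hxK) (isK_kmul hxK hxK), B.kx_mul hxK hxK] at this
        calc _ = B.g * (B.kx (kmul r (kinv s)) * B.kx (kmul r (kinv s)) *
            (B.kx (kmul r (kinv s)) * B.kx (kmul r (kinv s)))) * B.g⁻¹ := by group
          _ = _ := by rw [this, B.kx_one]; group
      rw [B.kx_inj (isK_kmul (isK_kmul hkK hkK) (isK_kmul hkK hkK)) isK_zero h4] at hcon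
      simp at hcon
    refine ⟨k, ?_, (heq (hf1 r hr') (hlt hkK.1 (hf1 s hs))).1 ?_⟩
    · simpa [vList] using B.inter _ (hrs r hr' s hs) k hkq hkg
    · rw [hmul hkK.1 (hf1 s hs), O.psi_kx hkK, hf2 r hr', hf2 s hs, ← hw, inv_mul_cancel_right]
  have hl := tree_check
  simp only [Bool.and_eq_true, Nat.beq_eq, decide_eq_true_eq] at hl
  set RF := rList.toFinset with hRF
  have hcard : RF.card = 16 := by rw [hRF, List.toFinset_card_of_nodup hl.2, hl.1.2]
  have hex2 : ∀ w < 4, ∃ r ∈ rList, xw (f r) = w := by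
    by_contra hno
    push Not at hno
    obtain ⟨w, hw, hno⟩ := hno
    have hsub : RF.image (fun r => xw (f r)) ⊆ (Finset.range 4).erase w := fun a ha => by
      obtain ⟨r, hr', rfl⟩ := Finset.mem_image.1 ha
      exact Finset.mem_erase.2 ⟨hno r (List.mem_toFinset.1 hr'), Finset.mem_range.2 (xw_lt _)⟩
    have h1 := Finset.card_le_mul_card_image (f := fun r => xw (f r)) RF 4 fun a ha => by
      obtain ⟨s, hs, rfl⟩ := Finset.mem_image.1 ha
      refine le_trans (Finset.card_le_card_of_injOn f (t := vList.toFinset.image fun v => E v (f s)) ?_ ?_)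
        (Finset.card_image_le.trans ((List.toFinset_card_le _).trans (by rfl)))
      · intro r hr'
        simp only [Finset.mem_coe, Finset.mem_filter, hRF, List.mem_toFinset] at hr'
        obtain ⟨v, hv', he⟩ := hfib r hr'.1 s (List.mem_toFinset.1 hs) hr'.2
        simp only [Finset.mem_coe, Finset.mem_image, List.mem_toFinset]
        exact ⟨v, hv', he.symm⟩
      · intro r hr' r' hr'' h
        simp only [Finset.mem_coe, Finset.mem_filter, hRF, List.mem_toFinset] at hr' hr''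
        exact hfinj r hr'.1 r' hr''.1 h
    have h2 := Finset.card_le_card hsub
    rw [Finset.card_erase_of_mem (Finset.mem_range.2 hw), Finset.card_range] at h2
    omega
  obtain ⟨ra, hra, hwa⟩ := hex2 1 (by norm_num)
  obtain ⟨rb, hrb, hwb⟩ := hex2 2 (by norm_num)
  set a := f ra with ha
  set b := f rb with hb
  set ab := E a b with hab
  have hE0 : O.psi 0 = 1 := O.psi_zero
  set L := sList' O.e₁ O.e₂ O.e₃ a b with hL
  have hrc : ∀ r ∈ rList, ∀ s ∈ rList, kmul r s ∈ rList := by decide +kernel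
  have hkg_mul : ∀ r ∈ rList, ∀ s ∈ rList, f (kmul r s) = E (f r) (f s) := by
    intro r hr' s hs
    refine (heq (hf1 _ (hrc r hr' s hs)) (hlt (hf1 r hr') (hf1 s hs))).1 ?_
    rw [hmul (hf1 r hr') (hf1 s hs), hf2 _ (hrc r hr' s hs), hf2 r hr', hf2 s hs, kg, kg, kg,
      B.kx_mul (r_isK hr') (r_isK hs)]
    group
  have hvf : ∀ v ∈ vList, ∃ r ∈ rList, f r = v := by
    have hvg : ∀ v ∈ vList, ∃ r ∈ rList, B.kg r = B.kx v := by
      have hzg : B.kg iu = B.kx 48 := by rw [B.kx_z]; exact B.g_u_eq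
      have hug : B.kg 48 = B.kx iu := by rw [kg, B.kx_z]; exact B.g_z_eq
      intro v hv'
      simp only [vList, List.mem_cons, List.not_mem_nil, or_false] at hv'
      rcases hv' with rfl | rfl | rfl | rfl
      · exact ⟨0, by decide +kernel, by rw [kg, B.kx_one]; group⟩
      · exact ⟨iu, iu_mem, hzg⟩
      · exact ⟨48, forty_mem, hug⟩
      · refine ⟨kmul iu 48, hrc _ iu_mem _ forty_mem, ?_⟩
        have : mul 48 iu = kmul 48 iu := by decide +kernel
        rw [this, B.kx_mul isK_z iu_isK, ← hzg, ← hug, kg, kg, kg, B.kx_mul iu_isK isK_z]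
        group
    intro v hv'
    obtain ⟨r, hr', he⟩ := hvg v hv'
    refine ⟨r, hr', (heq (hf1 r hr') (hv v hv')).1 ?_⟩
    rw [hf2 r hr', he, O.psi_kx (r_isK (v_mem_r hv'))]
  have himg : ∀ y ∈ L, ∃ r ∈ rList, f r = y := by
    intro y hy
    simp only [hL, sList', List.mem_flatMap, List.mem_map] at hy
    obtain ⟨v, hv', w, hw, rfl⟩ := hy
    obtain ⟨rv, hrv, hrve⟩ := hvf v hv'
    obtain ⟨r0, hr0, hr0e⟩ := hvf 0 (by simp [vList])
    simp only [List.mem_cons, List.not_mem_nil, or_false] at hw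
    have hrw : ∃ r ∈ rList, f r = w := by
      rcases hw with rfl | rfl | rfl | rfl
      · exact ⟨r0, hr0, hr0e⟩
      · exact ⟨ra, hra, rfl⟩
      · exact ⟨rb, hrb, rfl⟩
      · exact ⟨kmul ra rb, hrc _ hra _ hrb, hkg_mul _ hra _ hrb⟩
    obtain ⟨rw', hrw', hrwe⟩ := hrw
    exact ⟨kmul rv rw', hrc _ hrv _ hrw', by rw [hkg_mul _ hrv _ hrw', hrve, hrwe]⟩
  have hall : ∀ r ∈ rList, f r ∈ L := by
    intro r hr'
    obtain ⟨r0, hr0, hr0e⟩ := hvf 0 (by simp [vList])
    have hex3 : ∃ s ∈ rList, xw (f r) = xw (f s) ∧ f s ∈ [0, a, b, ab] := by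
      have h4 := xw_lt (f r)
      have hwab : xw ab = 3 := by
        have hp := actP_lt ((xa_lt (hf1 rb hrb)).trans (by norm_num)) (xb_lt b) (xw a)
        rw [hab, hE, mulE, (can_spec (sl_mul ((xa_lt (hf1 ra hra)).trans (by norm_num)) hp.1).1 ?_
          (wx_lt _ _)).2.1, hwa, hwb]
        · rfl
        · cases coc O.e₁ O.e₂ O.e₃ (xw a) (xw b)
          · exact (sl_mul (xb_lt a) hp.2).1
          · exact ng_lt _
      interval_cases hx : xw (f r)
      · exact ⟨r0, hr0, by rw [hr0e]; rfl, by simp [hr0e]⟩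
      · exact ⟨ra, hra, hwa.symm, by simp [← ha]⟩
      · exact ⟨rb, hrb, hwb.symm, by simp [← hb]⟩
      · exact ⟨kmul ra rb, hrc _ hra _ hrb, by rw [hkg_mul _ hra _ hrb]; exact hwab.symm,
          by simp [hkg_mul _ hra _ hrb, hab, ← ha, ← hb]⟩
    obtain ⟨s, hs, hws, hsm⟩ := hex3
    obtain ⟨v, hv', he⟩ := hfib r hr' s hs hws
    simp only [hL, sList', List.mem_flatMap, List.mem_map]
    exact ⟨v, hv', f s, hsm, he.symm⟩
  have hLset : L.toFinset = RF.image f := by
    ext y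
    simp only [List.mem_toFinset, Finset.mem_image, hRF]
    exact ⟨himg y, fun ⟨r, hr', he⟩ => he ▸ hall r hr'⟩
  have hLnd : L.Nodup := by
    have h := congrArg Finset.card hLset
    rw [Finset.card_image_of_injOn (fun x hx y hy => hfinj x (List.mem_toFinset.1 hx) y (List.mem_toFinset.1 hy)),
      hcard, List.card_toFinset] at h
    refine List.dedup_eq_self.1 ((List.dedup_sublist L).eq_of_length ?_)
    rw [h]
    rfl
  have hLlt : ∀ y ∈ L, y < 1152 := fun y hy => by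
    obtain ⟨r, hr', he⟩ := himg y hy
    exact he ▸ hf1 r hr'
  -- counts
  let cnt : G → G → G → ℕ := fun p q c => ((RF ×ˢ RF).filter fun e =>
    B.kx e.1 * B.kx e.1 = p ∧ B.kg e.2 * B.kg e.2 = q ∧ B.kx e.1 * B.kg e.2 = c * (B.kg e.2 * B.kx e.1)).card
  have hcount : ∀ p q c : ℕ, p < 1152 → q < 1152 → c < 1152 →
      countB O.e₁ O.e₂ O.e₃ L p q c = cnt (O.psi p) (O.psi q) (O.psi c) := by
    intro p q c hp hq hc
    have hnd : (rList.flatMap fun x => L.map fun y => (x, y)).Nodup := by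
      have : (rList.flatMap fun x => L.map fun y => (x, y)) = rList ×ˢ L := rfl
      rw [this]
      exact hl.2.product hLnd
    rw [countB, List.countP_eq_length_filter, ← List.toFinset_card_of_nodup (hnd.filter _)]
    symm
    refine Finset.card_bij (fun e _ => (e.1, f e.2)) ?_ ?_ ?_
    · intro e he
      simp only [Finset.mem_filter, Finset.mem_product, hRF, List.mem_toFinset] at he
      obtain ⟨⟨h1, h2⟩, hp', hq', hc'⟩ := he
      simp only [List.mem_toFinset, List.mem_filter, List.mem_flatMap, List.mem_map, pairsB, Bool.and_eq_true,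
        Nat.beq_eq]
      refine ⟨⟨e.1, h1, f e.2, hall _ h2, rfl⟩, (heq (hlt (hr _ h1) (hr _ h1)) hp).1 ?_,
        (heq (hlt (hf1 _ h2) (hf1 _ h2)) hq).1 ?_,
        (heq (hlt (hr _ h1) (hf1 _ h2)) (hlt hc (hlt (hf1 _ h2) (hr _ h1)))).1 ?_⟩
      · rw [hmul (hr _ h1) (hr _ h1), O.psi_kx (r_isK h1), hp']
      · rw [hmul (hf1 _ h2) (hf1 _ h2), hf2 _ h2, hq']
      · rw [hmul (hr _ h1) (hf1 _ h2), hmul hc (hlt (hf1 _ h2) (hr _ h1)), hmul (hf1 _ h2) (hr _ h1),
          O.psi_kx (r_isK h1), hf2 _ h2, hc']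
    · intro e he e' he' h
      simp only [Finset.mem_filter, Finset.mem_product, hRF, List.mem_toFinset] at he he'
      simp only [Prod.mk.injEq] at h
      exact Prod.ext h.1 (hfinj _ he.1.2 _ he'.1.2 h.2)
    · intro e he
      simp only [List.mem_toFinset, List.mem_filter, List.mem_flatMap, List.mem_map, pairsB, Bool.and_eq_true,
        Nat.beq_eq] at he
      obtain ⟨⟨x, hx, y, hy, rfl⟩, h1, h2, h3⟩ := he
      obtain ⟨r, hr', rfl⟩ := himg y hy
      refine ⟨(x, r), ?_, rfl⟩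
      simp only [Finset.mem_filter, Finset.mem_product, hRF, List.mem_toFinset]
      refine ⟨⟨hx, hr'⟩, ?_, ?_, ?_⟩
      · rw [← O.psi_kx (r_isK hx), ← hmul (hr _ hx) (hr _ hx)]
        exact congrArg O.psi h1
      · rw [← hf2 r hr', ← hmul (hf1 _ hr') (hf1 _ hr')]
        exact congrArg O.psi h2
      · rw [← O.psi_kx (r_isK hx), ← hf2 r hr', ← hmul (hf1 _ hr') (hr _ hx),
          ← hmul hc (hlt (hf1 _ hr') (hr _ hx)), ← hmul (hr _ hx) (hf1 _ hr')]
        exact congrArg O.psi h3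
  choose! h2 h2m h2e using hgr
  have hsw : ∀ p q c : G, c * c = 1 → cnt p q c = cnt (B.g * q * B.g⁻¹) (B.g * p * B.g⁻¹) (B.g * c * B.g⁻¹) := by
    intro p q c hc
    have h2inj : ∀ r ∈ rList, ∀ s ∈ rList, h2 r = h2 s → r = s := by
      intro r hr' s hs h
      have e := (h2e r hr').trans ((congrArg B.kx h).trans (h2e s hs).symm)
      rw [kg, kg] at e
      exact B.kx_inj (r_isK hr') (r_isK hs)
        (mul_left_cancel (mul_right_cancel (mul_left_cancel (mul_right_cancel e))))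
    have h2im : RF.image h2 = RF := by
      refine Finset.eq_of_subset_of_card_le (fun y hy => ?_) ?_
      · obtain ⟨r, hr', rfl⟩ := Finset.mem_image.1 hy
        exact List.mem_toFinset.2 (h2m r (List.mem_toFinset.1 hr'))
      · rw [Finset.card_image_of_injOn (fun x hx y hy => h2inj x (List.mem_toFinset.1 hx) y (List.mem_toFinset.1 hy))]
    refine Finset.card_bij (fun e _ => (h2 e.2, e.1)) ?_ ?_ ?_
    · intro e he
      simp only [Finset.mem_filter, Finset.mem_product, hRF, List.mem_toFinset] at he ⊢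
      obtain ⟨⟨h1, h2'⟩, hp', hq', hc'⟩ := he
      refine ⟨⟨h2m _ h2', h1⟩, ?_, ?_, ?_⟩
      · rw [← h2e _ h2', ← hq']; group
      · rw [← hp', kg]; group
      · have hci : c⁻¹ = c := inv_eq_of_mul_eq_one_right hc
        rw [← h2e _ h2']
        calc B.g * B.kg e.2 * B.g⁻¹ * B.kg e.1 = B.g * (B.kg e.2 * B.kx e.1) * B.g⁻¹ := by
              show _ * (B.g * B.kx e.1 * B.g⁻¹) = _
              group
          _ = B.g * (c⁻¹ * (B.kx e.1 * B.kg e.2)) * B.g⁻¹ := by rw [hc', inv_mul_cancel_left]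
          _ = _ := by rw [hci]; simp only [kg]; group
    · intro e he e' he' h
      simp only [Finset.mem_filter, Finset.mem_product, hRF, List.mem_toFinset] at he he'
      simp only [Prod.mk.injEq] at h
      exact Prod.ext h.2 (h2inj _ he.1.2 _ he'.1.2 h.1)
    · intro e he
      simp only [Finset.mem_filter, Finset.mem_product] at he
      obtain ⟨⟨h1, h2'⟩, hp', hq', hc'⟩ := he
      rw [← h2im, Finset.mem_image] at h1
      obtain ⟨t, ht, hte⟩ := h1
      have htl := List.mem_toFinset.1 ht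
      refine ⟨(e.2, t), ?_, by simp [hte]⟩
      simp only [Finset.mem_filter, Finset.mem_product]
      rw [← hte, ← h2e t htl] at hp' hc'
      refine ⟨⟨h2', ht⟩, ?_, ?_, ?_⟩
      · rw [kg] at hq'
        exact mul_left_cancel (mul_right_cancel (show B.g * (B.kx e.2 * B.kx e.2) * B.g⁻¹ = B.g * p * B.g⁻¹ by
          rw [← hq']; group))
      · exact mul_left_cancel (mul_right_cancel (show B.g * (B.kg t * B.kg t) * B.g⁻¹ = B.g * q * B.g⁻¹ by
          rw [← hp']; group))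
      · have hci : c⁻¹ = c := inv_eq_of_mul_eq_one_right hc
        have h5 : B.g * (B.kg t * B.kx e.2) * B.g⁻¹ = B.g * (c * (B.kx e.2 * B.kg t)) * B.g⁻¹ := by
          calc B.g * (B.kg t * B.kx e.2) * B.g⁻¹ = B.g * B.kg t * B.g⁻¹ * B.kg e.2 := by
                show _ = _ * (B.g * B.kx e.2 * B.g⁻¹)
                group
            _ = _ := hc'
            _ = _ := by show _ * (B.g * B.kx e.2 * B.g⁻¹ * (B.g * B.kg t * B.g⁻¹)) = _; group
        rw [mul_left_cancel (mul_right_cancel h5), ← mul_assoc, hc, one_mul]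
  have hgg : B.g * B.u * B.g⁻¹ = B.z := B.g_u_eq
  have e1 : countB O.e₁ O.e₂ O.e₃ L 0 0 iu = countB O.e₁ O.e₂ O.e₃ L 0 0 48 := by
    rw [hcount 0 0 iu (by norm_num) (by norm_num) iu_isK.1, hcount 0 0 48 (by norm_num) (by norm_num) (by norm_num),
      O.psi_zero, O.psi_u, O.psi_z, hsw _ _ _ B.u_sq]
    simp [hgg]
  have e2 : countB O.e₁ O.e₂ O.e₃ L 48 0 iu = countB O.e₁ O.e₂ O.e₃ L 0 iu 48 := by
    rw [hcount 48 0 iu (by norm_num) (by norm_num) iu_isK.1, hcount 0 iu 48 (by norm_num) iu_isK.1 (by norm_num),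
      O.psi_zero, O.psi_u, O.psi_z, hsw _ _ _ B.u_sq]
    simp [hgg, B.g_z_eq]
  have hsq : ∀ y ∈ L, E y y = 0 ∨ E y y = iu := by
    intro y hy
    obtain ⟨r, hr', rfl⟩ := himg y hy
    have hq : ∀ r ∈ rList, kmul r r = 0 ∨ kmul r r = 48 := by decide +kernel
    have : O.psi (E (f r) (f r)) = B.g * B.kx (kmul r r) * B.g⁻¹ := by
      rw [hmul (hf1 r hr') (hf1 r hr'), hf2 r hr', kg, B.kx_mul (r_isK hr') (r_isK hr')]
      group
    rcases hq r hr' with h | h <;> rw [h] at this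
    · left
      refine (heq (hlt (hf1 r hr') (hf1 r hr')) (by norm_num)).1 ?_
      rw [this, B.kx_one, O.psi_zero]; group
    · right
      refine (heq (hlt (hf1 r hr') (hf1 r hr')) iu_isK.1).1 ?_
      rw [this, B.kx_z, B.g_z_eq, O.psi_u]
  have hout : ∀ r ∈ rList, ∀ w : ℕ, xw (f r) = w → ∃ n < 288, f r = 4 * n + w ∧
      outerB O.e₁ O.e₂ O.e₃ w (4 * n + w) = true := by
    intro r hr' w hw
    have h1 := hf1 r hr'
    refine ⟨f r / 4, by omega, by simp only [xw] at hw; omega, ?_⟩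
    rw [show 4 * (f r / 4) + w = f r by simp only [xw] at hw; omega]
    simp only [outerB, Bool.and_eq_true, Bool.or_eq_true, Nat.beq_eq]
    refine ⟨hw, (heq (hlt h1 iu_isK.1) (hlt iu_isK.1 h1)).1 ?_, hsq _ (hall r hr')⟩
    rw [hmul h1 iu_isK.1, hmul iu_isK.1 h1, hf2 r hr', O.psi_u, B.kg_comm_u]
  have hsc : sqCount O.e₁ O.e₂ O.e₃ 48 = sqCount O.e₁ O.e₂ O.e₃ iu := by
    have key : ∀ p : ℕ, p < 1152 → sqCount O.e₁ O.e₂ O.e₃ p =
        Nat.card {c : G // (c * B.z = B.z * c ∧ c * B.u = B.u * c) ∧ c * c = O.psi p} := by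
      intro p hp
      rw [sqCount, List.countP_eq_length_filter, ← List.toFinset_card_of_nodup (List.nodup_range.filter _),
        ← Fintype.card_coe, ← Nat.card_eq_fintype_card]
      have hmem : ∀ x : {x // x ∈ ((List.range 1152).filter fun x => Nat.beq (E x iu) (E iu x) && Nat.beq (E x x) p).toFinset},
          x.1 < 1152 ∧ E x.1 iu = E iu x.1 ∧ E x.1 x.1 = p := fun x => by
        simpa [List.mem_filter] using x.2
      refine Nat.card_eq_of_bijective (fun x => ⟨O.psi x.1, ⟨O.psi_comm_z _, ?_⟩, ?_⟩) ⟨?_, ?_⟩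
      · obtain ⟨h1, h2, -⟩ := hmem x
        rw [← O.psi_u, ← hmul h1 iu_isK.1, h2, hmul iu_isK.1 h1]
      · obtain ⟨h1, -, h3⟩ := hmem x
        rw [← hmul h1 h1, h3]
      · exact fun x y h => Subtype.ext (O.psi_inj (hmem x).1 (hmem y).1 (congrArg Subtype.val h))
      · rintro ⟨c, ⟨hcz, hcu⟩, hcc⟩
        obtain ⟨x, hx, rfl⟩ := O.psi_surj hcz
        refine ⟨⟨x, ?_⟩, rfl⟩
        simp only [List.mem_toFinset, List.mem_filter, List.mem_range, Bool.and_eq_true, Nat.beq_eq]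
        refine ⟨hx, (heq (hlt hx iu_isK.1) (hlt iu_isK.1 hx)).1 ?_, (heq (hlt hx hx) hp).1 ?_⟩
        · rw [hmul hx iu_isK.1, hmul iu_isK.1 hx, O.psi_u, hcu]
        · rw [hmul hx hx, hcc]
    rw [key 48 (by norm_num), key iu iu_isK.1, O.psi_z, O.psi_u]
    have hc : ∀ c a : G, c * a = a * c →
        B.g * c * B.g⁻¹ * (B.g * a * B.g⁻¹) = B.g * a * B.g⁻¹ * (B.g * c * B.g⁻¹) := by
      intro c a h
      calc B.g * c * B.g⁻¹ * (B.g * a * B.g⁻¹) = B.g * (c * a) * B.g⁻¹ := by group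
        _ = _ := by rw [h]; group
    refine Nat.card_congr (Equiv.subtypeEquiv (MulAut.conj B.g).toEquiv fun c => ?_)
    show _ ↔ (B.g * c * B.g⁻¹ * B.z = B.z * (B.g * c * B.g⁻¹) ∧
      B.g * c * B.g⁻¹ * B.u = B.u * (B.g * c * B.g⁻¹)) ∧ B.g * c * B.g⁻¹ * (B.g * c * B.g⁻¹) = B.u
    constructor
    · rintro ⟨⟨h1, h2⟩, h3⟩
      refine ⟨⟨?_, ?_⟩, ?_⟩
      · rw [← B.g_u_eq]; exact hc c B.u h2
      · rw [← B.g_z_eq]; exact hc c B.z h1
      · rw [← B.g_z_eq, ← h3]; group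
    · rintro ⟨⟨h1, h2⟩, h3⟩
      have back : ∀ a b : G, B.g * a * B.g⁻¹ = B.g * b * B.g⁻¹ → a = b := fun a b h =>
        mul_left_cancel (mul_right_cancel h)
      refine ⟨⟨back _ _ ?_, back _ _ ?_⟩, back _ _ ?_⟩
      · calc B.g * (c * B.z) * B.g⁻¹ = B.g * c * B.g⁻¹ * (B.g * B.z * B.g⁻¹) := by group
          _ = _ := by rw [B.g_z_eq, h2, ← B.g_z_eq]; group
      · calc B.g * (c * B.u) * B.g⁻¹ = B.g * c * B.g⁻¹ * (B.g * B.u * B.g⁻¹) := by group
          _ = _ := by rw [B.g_u_eq, h1, ← B.g_u_eq]; group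
      · calc B.g * (c * c) * B.g⁻¹ = B.g * c * B.g⁻¹ * (B.g * c * B.g⁻¹) := by group
          _ = _ := by rw [h3, ← B.g_z_eq]
  have hex := hex.resolve_right (fun h => h hsc)
  obtain ⟨n, hn, han, hna⟩ := hout ra hra 1 hwa
  obtain ⟨m, hm, hbm, hmb⟩ := hout rb hrb 2 hwb
  unfold excludeB at hex
  simp only [List.all_eq_true, List.mem_filter, List.mem_range, Bool.not_eq_true'] at hex
  have hfail := hex n ⟨hn, hna⟩ m ⟨hm, hmb⟩
  rw [← han, ← hbm, ← ha, ← hb] at hfail
  have hpass : passB O.e₁ O.e₂ O.e₃ a b = true := by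
    unfold passB
    simp only [Bool.and_eq_true, List.all_eq_true, Bool.or_eq_true, Nat.beq_eq, ← hL]
    exact ⟨hsq, e1, e2⟩
  rw [hpass] at hfail
  exact absurd hfail (by decide)

theorem psi_mul' {x y : ℕ} (hx : x < 1152) (hy : y < 1152) : O.psi (mul x y) = O.psi x * O.psi y := by
  have h := O.model
  simp only [Prod.mk.injEq] at h
  rw [← O.psi_mul hx hy, h.1, h.2.1, h.2.2]
  rfl

end Outer

end Base

end CfsgLib.Recog.UFourThree
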