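import Mathlib
import Cfsg.Agent.Lib.Recog.UFourThree.Ident

set_option autoImplicit false
set_option maxRecDepth 100000

/-!
# The centraliser as a numbered group (owner: helper22)
-/

namespace CfsgLib.Recog.UFourThree

/-- the model as the centraliser of an involution, with a swapping element -/
structure Ctx (G : Type*) [Group G] where
  /-- the numbering -/
  psi : ℕ → G
  /-- the swapping element -/
  g : G
  psi_mul : ∀ {x y : ℕ}, x < 1152 → y < 1152 → psi (mul x y) = psi x * psi y
  psi_inj : ∀ {x y : ℕ}, x < 1152 → y < 1152 → psi x = psi y → x = y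
  psi_surj : ∀ {c : G}, c * psi 48 = psi 48 * c → ∃ x < 1152, psi x = c
  psi_comm : ∀ x, psi x * psi 48 = psi 48 * psi x
  g_z : g * psi 48 * g⁻¹ = psi iu
  g_u : g * psi iu * g⁻¹ = psi 48

/-- a centraliser with outer elements gives such data -/
noncomputable def Base.ctx {G : Type*} [Group G] (B : Base G) : Ctx G where
  psi := B.exists_outer'.some.psi
  g := B.g
  psi_mul := B.exists_outer'.some.psi_mul'
  psi_inj := B.exists_outer'.some.psi_inj
  psi_surj := fun {c} h => B.exists_outer'.some.psi_surj (by rwa [B.exists_outer'.some.psi_z] at h)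
  psi_comm := fun x => by rw [B.exists_outer'.some.psi_z]; exact B.exists_outer'.some.psi_comm_z x
  g_z := by rw [B.exists_outer'.some.psi_z, B.exists_outer'.some.psi_u]; exact B.g_z_eq
  g_u := by rw [B.exists_outer'.some.psi_z, B.exists_outer'.some.psi_u]; exact B.g_u_eq

theorem model_inv : ((List.range 1152).all fun x => Nat.beq (mul x (inv x)) 0 && Nat.blt (inv x) 1152 &&
    Nat.beq (mul 0 x) x && Nat.beq (mul x 0) x) = true := by decide +kernel

theorem inv_spec {x : ℕ} (hx : x < 1152) : mul x (inv x) = 0 ∧ inv x < 1152 ∧ mul 0 x = x ∧ mul x 0 = x := by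
  have h := model_inv
  simp only [List.all_eq_true, List.mem_range, Bool.and_eq_true, Nat.beq_eq, Nat.blt_eq] at h
  exact ⟨(h x hx).1.1.1, (h x hx).1.1.2, (h x hx).1.2, (h x hx).2⟩

theorem cj_lt {g x : ℕ} (hg : g < 1152) (hx : x < 1152) : cj g x < 1152 :=
  mul_lt (mul_lt hg hx) (inv_spec hg).2.1

namespace Ctx

variable {G : Type*} [Group G] (K : Ctx G)

theorem psi_zero : K.psi 0 = 1 := by
  have h := K.psi_mul (x := 0) (y := 0) (by norm_num) (by norm_num)
  rw [show mul 0 0 = 0 from (inv_spec (x := 0) (by norm_num)).2.2.1] at h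
  exact left_eq_mul.1 h

theorem psi_inv {x : ℕ} (hx : x < 1152) : K.psi (inv x) = (K.psi x)⁻¹ := by
  refine eq_inv_of_mul_eq_one_right ?_
  rw [← K.psi_mul hx (inv_spec hx).2.1, (inv_spec hx).1, K.psi_zero]

theorem psi_cj {g x : ℕ} (hg : g < 1152) (hx : x < 1152) : K.psi (cj g x) = K.psi g * K.psi x * (K.psi g)⁻¹ := by
  rw [cj, K.psi_mul (mul_lt hg hx) (inv_spec hg).2.1, K.psi_mul hg hx, K.psi_inv hg]

theorem psi_eq {x y : ℕ} (hx : x < 1152) (hy : y < 1152) : K.psi x = K.psi y ↔ x = y :=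
  ⟨K.psi_inj hx hy, fun h => h ▸ rfl⟩

theorem psi_commB {x y : ℕ} (hx : x < 1152) (hy : y < 1152) :
    K.psi x * K.psi y = K.psi y * K.psi x ↔ commB x y = true := by
  rw [← K.psi_mul hx hy, ← K.psi_mul hy hx, K.psi_eq (mul_lt hx hy) (mul_lt hy hx)]
  simp [commB]

end Ctx

end CfsgLib.Recog.UFourThree
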