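import Cfsg.Agent.Lib.Recog.UFourThree.SwapDefs

set_option autoImplicit false
set_option maxRecDepth 100000
set_option Elab.async false

/-! Checked candidates for the action of the swapping element (owner: helper22). -/

namespace CfsgLib.Recog.UFourThree

theorem pairs_check : (((candM.filter (okM aTwo autTwo autTwoT false))).all fun M =>
    ((candM.filter (okM aThree autThree autThreeT true))).all fun N =>
      Bool.not (consB aTwo aThree M N && consB aThree aTwo N M) ||
        tList.any fun t => (M == compM mTwo (actM aTwo t)) && (N == compM mThree (actM aThree t))) = true := by
  decide +kernel

end CfsgLib.Recog.UFourThree
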