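import Cfsg.Agent.Lib.Recog.UFourThree.SwapDefs

set_option autoImplicit false
set_option maxRecDepth 100000
set_option Elab.async false

/-! The two subgroups of order 16 (owner: helper22). -/

namespace CfsgLib.Recog.UFourThree

theorem sub_checkTwo : subB aTwo autTwo autTwoT = true := by decide +kernel

theorem witness_lt : (witness.all fun e => e.2.2.2.all fun c => (cond e.1 autThree autTwo).contains c) = true := by
  decide +kernel

end CfsgLib.Recog.UFourThree
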