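import Cfsg.Agent.Lib.Recog.UFourThree.SwapDefs

set_option autoImplicit false
set_option maxRecDepth 100000
set_option Elab.async false

/-! The centraliser of the four group (owner: helper22). -/

namespace CfsgLib.Recog.UFourThree

theorem tList_checkOne : ((tList.all fun t => Nat.blt t 1152 && commB t iu) &&
    ((List.range 1152).all fun x => Bool.not (commB x iu) || tList.contains x) &&
    (tList.all fun a => tList.all fun b => Bool.not (Nat.beq (mul a a) 0 && Nat.beq (mul b b) 0 && commB a b &&
      decide ((vList.flatMap fun v => [0, a, b, mul a b].map (mul v)).Nodup)) ||
        ((aTwo.contains a && aTwo.contains b) || (aThree.contains a && aThree.contains b))) &&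
    (tList.all fun a => Bool.not (aTwo.contains a && aThree.contains a) || vList.contains a) &&
    (tList.all fun t => Bool.not (aTwo.all fun a => commB t a) || Bool.not (aThree.all fun a => commB t a) ||
      vList.contains t) &&
    normB aTwo it && normB aThree it && Nat.blt it 1152 && Nat.beq (cj it iu) (mul 48 iu)) = true := by decide +kernel

end CfsgLib.Recog.UFourThree
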