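import Cfsg.Agent.Lib.Recog.UFourThree.SwapDefs

set_option autoImplicit false
set_option maxRecDepth 100000
set_option Elab.async false

/-! The automorphism of the centraliser of the four group (owner: helper22). -/

namespace CfsgLib.Recog.UFourThree

theorem sig_check : (((List.range 16).all fun m => (List.range 16).all fun n =>
      Nat.beq (sig (mul (ev aTwo m) (ev aThree n))) (mul (ev aTwo (appM mTwo m)) (ev aThree (appM mThree n))) &&
      Nat.beq (appM mTwo (appM mTwo m)) m && Nat.beq (appM mThree (appM mThree m)) m) &&
    (tList.all fun t => (List.range 16).all fun m =>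
      Nat.beq (appM (compM mTwo (actM aTwo t)) (appM (actM aTwo (inv t)) m)) (appM mTwo m) &&
      Nat.beq (appM (compM mThree (actM aThree t)) (appM (actM aThree (inv t)) m)) (appM mThree m) &&
      tList.contains (inv t)) &&
    (vList.all fun v => Bool.not (Nat.beq (sig v) v) || Nat.beq v 0 || Nat.beq v (mul 48 iu)) &&
    (tList.all fun t => tList.contains (sig t))) = true := by decide +kernel

end CfsgLib.Recog.UFourThree
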