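import Cfsg.Agent.Lib.Recog.UFourThree.SwapDefs

set_option autoImplicit false
set_option maxRecDepth 100000
set_option Elab.async false

/-! Generation of the centraliser of the four group (owner: helper22). -/

namespace CfsgLib.Recog.UFourThree

theorem tList_checkTwo : (tList.all fun t => ((List.range 16).any fun m => (List.range 16).any fun n =>
      Nat.beq t (mul (ev aTwo m) (ev aThree n)))) = true := by decide +kernel

end CfsgLib.Recog.UFourThree
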