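import Mathlib
import Cfsg.Agent.Lib.Recog.UFourThree.Ctx
import Cfsg.Agent.Lib.Recog.UFourThree.SwapCheckA
import Cfsg.Agent.Lib.Recog.UFourThree.SwapCheckB
import Cfsg.Agent.Lib.Recog.UFourThree.SwapCheckC
import Cfsg.Agent.Lib.Recog.UFourThree.SwapCheckD
import Cfsg.Agent.Lib.Recog.UFourThree.SwapCheckE
import Cfsg.Agent.Lib.Recog.UFourThree.SwapCheckF

set_option autoImplicit false
set_option maxRecDepth 100000
set_option Elab.async false

/-!
# The swapping element

It normalises the two elementary abelian subgroups of order 16 over the four group and can be chosen as an involution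
with prescribed action (owner: helper22).
-/

namespace CfsgLib.Recog.UFourThree

theorem appM_cond (Y : List ℕ) (b : Bool) (x : ℕ) : appM Y (cond b x 0) = cond b (appM Y x) 0 := by
  cases b
  · simp [appM]
  · rfl

theorem sub_check : subB aTwo autTwo autTwoT = true ∧ subB aThree autThree autThreeT = true :=
  ⟨sub_checkTwo, sub_checkThree⟩

theorem cond_bne (a b : Bool) (x : ℕ) : cond (a != b) x 0 = Nat.xor (cond a x 0) (cond b x 0) := by
  cases a <;> cases b <;> simp

theorem appM_xor (M : List ℕ) (m n : ℕ) : appM M (Nat.xor m n) = Nat.xor (appM M m) (appM M n) := by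
  simp only [appM, show ∀ i, Nat.testBit (Nat.xor m n) i = (Nat.testBit m i != Nat.testBit n i) from Nat.testBit_xor m n,
    cond_bne]
  simp only [show ∀ a b, Nat.xor a b = a ^^^ b from fun a b => rfl]
  ac_rfl

theorem candM_lt : (candM.all fun M => [0, 1, 2, 3].all fun i => Nat.blt (M.getD i 0) 16) = true := by decide +kernel

theorem compM_app (M : List ℕ) (hM : M ∈ candM) (m : Fin 16) (n : Fin 16) :
    appM M (Nat.xor m n) = Nat.xor (appM M m) (appM M n) ∧ appM M m < 16 := by
  refine ⟨appM_xor M m n, ?_⟩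
  have h := List.all_eq_true.1 candM_lt M hM
  have hi : ∀ i ∈ [0, 1, 2, 3], ∀ b : Bool, cond b (M.getD i 0) 0 < 2 ^ 4 := fun i hi b => by
    have := List.all_eq_true.1 h i hi
    simp only [Nat.blt_eq] at this
    cases b <;> simp only [cond] <;> omega
  exact Nat.xor_lt_two_pow (n := 4) (Nat.xor_lt_two_pow (hi 0 (by simp) _) (hi 1 (by simp) _))
    (Nat.xor_lt_two_pow (hi 2 (by simp) _) (hi 3 (by simp) _))

namespace Ctx

variable {G : Type*} [Group G] (K : Ctx G)

theorem exists_adjusted : ∃ h : G, h * h = 1 ∧ h * K.psi 48 * h⁻¹ = K.psi iu ∧ h * K.psi iu * h⁻¹ = K.psi 48 ∧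
    ∀ t ∈ tList, h * K.psi t * h⁻¹ = K.psi (sig t) := by
  have htc := And.intro tList_checkOne tList_checkTwo
  simp only [Bool.and_eq_true, List.all_eq_true, List.mem_range, Bool.or_eq_true, Bool.not_eq_true',
    List.contains_iff_mem, Nat.beq_eq, Nat.blt_eq, decide_eq_true_eq, List.any_eq_true] at htc
  obtain ⟨⟨⟨⟨⟨⟨⟨⟨⟨hT1, hT2⟩, hpair⟩, hmeet⟩, hV⟩, hit2⟩, hit3⟩, hitlt⟩, hitu⟩, hfac⟩ := htc
  have hiu : iu < 1152 := iu_isK.1
  have htlt : ∀ t ∈ tList, t < 1152 := fun t h => (hT1 t h).1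
  have htu : ∀ t ∈ tList, K.psi t * K.psi iu = K.psi iu * K.psi t := fun t h =>
    (K.psi_commB (htlt t h) hiu).2 (hT1 t h).2
  have hmemT : ∀ c : G, c * K.psi 48 = K.psi 48 * c → c * K.psi iu = K.psi iu * c → ∃ y ∈ tList, K.psi y = c := by
    intro c h1 h2
    obtain ⟨y, hy, he⟩ := K.psi_surj h1
    refine ⟨y, (hT2 y hy).resolve_left ?_, he⟩
    rw [(K.psi_commB hy hiu).1 (by rw [he]; exact h2)]
    simp
  have him : ∀ t ∈ tList, ∃ y ∈ tList, K.psi y = K.g * K.psi t * K.g⁻¹ := by
    intro t ht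
    refine hmemT _ ?_ ?_
    · rw [← K.g_u]
      calc K.g * K.psi t * K.g⁻¹ * (K.g * K.psi iu * K.g⁻¹) = K.g * (K.psi t * K.psi iu) * K.g⁻¹ := by group
        _ = _ := by rw [htu t ht]; group
    · rw [← K.g_z]
      calc K.g * K.psi t * K.g⁻¹ * (K.g * K.psi 48 * K.g⁻¹) = K.g * (K.psi t * K.psi 48) * K.g⁻¹ := by group
        _ = _ := by rw [K.psi_comm t]; group
  choose! f hf1 hf2 using him
  have flt : ∀ t ∈ tList, f t < 1152 := fun t h => htlt _ (hf1 t h)
  have tmul : ∀ a ∈ tList, ∀ b ∈ tList, mul a b ∈ tList := fun a ha b hb => by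
    obtain ⟨y, hy, he⟩ := hmemT (K.psi (mul a b)) (K.psi_comm _) (by
      rw [K.psi_mul (htlt a ha) (htlt b hb), mul_assoc, htu b hb, ← mul_assoc, htu a ha, mul_assoc])
    exact K.psi_inj (htlt y hy) (mul_lt (htlt a ha) (htlt b hb)) he ▸ hy
  have fmul : ∀ a ∈ tList, ∀ b ∈ tList, f (mul a b) = mul (f a) (f b) := by
    intro a ha b hb
    refine K.psi_inj (flt _ (tmul a ha b hb)) (mul_lt (flt a ha) (flt b hb)) ?_
    rw [hf2 _ (tmul a ha b hb), K.psi_mul (htlt a ha) (htlt b hb), K.psi_mul (flt a ha) (flt b hb), hf2 a ha, hf2 b hb]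
    group
  have finj : ∀ a ∈ tList, ∀ b ∈ tList, f a = f b → a = b := by
    intro a ha b hb h
    refine K.psi_inj (htlt a ha) (htlt b hb) ?_
    have := congrArg K.psi h
    rw [hf2 a ha, hf2 b hb] at this
    exact mul_left_cancel (mul_right_cancel this)
  have hvT : ∀ v ∈ vList, v ∈ tList := by decide +kernel
  have fV : f 0 = 0 ∧ f 48 = iu ∧ f iu = 48 ∧ f (mul 48 iu) = mul 48 iu := by
    have e0 := hvT 0 (by simp [vList])
    have ez := hvT 48 (by simp [vList])
    have eu := hvT iu (by simp [vList])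
    have h0 : f 0 = 0 := K.psi_inj (flt 0 e0) (by norm_num) (by rw [hf2 0 e0, K.psi_zero]; group)
    have hz : f 48 = iu := K.psi_inj (flt _ ez) hiu (by rw [hf2 _ ez, K.g_z])
    have hu : f iu = 48 := K.psi_inj (flt _ eu) (by norm_num) (by rw [hf2 _ eu, K.g_u])
    refine ⟨h0, hz, hu, ?_⟩
    rw [fmul _ ez _ eu, hz, hu]
    decide +kernel
  have fv : ∀ v ∈ vList, f v ∈ vList := by
    intro v hv
    simp only [vList, List.mem_cons, List.not_mem_nil, or_false] at hv ⊢
    rcases hv with rfl | rfl | rfl | rfl <;> simp [fV]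
  -- facts on the two subgroups
  have hsub : ∀ A aut autT, subB A aut autT = true → (∀ m < 16, ∀ n < 16,
      ev A (Nat.xor m n) = mul (ev A m) (ev A n) ∧ A.idxOf (ev A m) = m) ∧ A.length = 16 ∧
      (∀ a ∈ A, a ∈ tList ∧ mul a a = 0) ∧ (∀ t ∈ tList, normB A t = true ∧ actM A t ∈ autT.map (actM A)) ∧
      (∀ m < 1152, normB A m = true → actM A m ∈ aut.map (actM A)) ∧
      (∀ c ∈ aut, c < 1152 ∧ normB A c = true) ∧ (∀ i < 4, ev A i = vList.getD i 0) ∧
      (∀ c ∈ autT, c ∈ tList) := by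
    intro A aut autT h
    simp only [subB, Bool.and_eq_true, List.all_eq_true, List.mem_range, Bool.or_eq_true, Bool.not_eq_true',
      List.contains_iff_mem, Nat.beq_eq, Nat.blt_eq] at h
    obtain ⟨h1, h2, h3, h4, h5, ⟨h6, h7⟩, h8⟩ := h
    refine ⟨h2, h1, h3, h4, fun m hm hn => (h5 m hm).resolve_left (by simp [hn]), h6, fun i hi => ?_, h7⟩
    exact h8 i (by simp only [List.mem_cons, List.not_mem_nil, or_false]; omega)
  obtain ⟨a2h, a2len, a2T, a2t, a2n, a2a, a2v, a2at⟩ := hsub _ _ _ sub_check.1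
  obtain ⟨a3h, a3len, a3T, a3t, a3n, a3a, a3v, a3at⟩ := hsub _ _ _ sub_check.2
  have evmem : ∀ A : List ℕ, A.length = 16 → ∀ m < 16, ev A m ∈ A := by
    intro A hA m hm
    rw [ev, List.getD_eq_getElem _ _ (by omega)]
    exact List.getElem_mem _
  have memev : ∀ A : List ℕ, A.length = 16 → ∀ a ∈ A, ∃ m < 16, a = ev A m := by
    intro A hA a ha
    obtain ⟨m, hm, rfl⟩ := List.getElem_of_mem ha
    exact ⟨m, by omega, by rw [ev, List.getD_eq_getElem _ _ hm]⟩
  -- the image of each subgroup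
  have himA : ∀ A : List ℕ, (A = aTwo ∨ A = aThree) →
      ((∀ a ∈ A, f a ∈ aTwo) ∨ (∀ a ∈ A, f a ∈ aThree)) := by
    intro A hA
    obtain ⟨hh, hlen, hT, hv⟩ : (∀ m < 16, ∀ n < 16, ev A (Nat.xor m n) = mul (ev A m) (ev A n) ∧
        A.idxOf (ev A m) = m) ∧ A.length = 16 ∧ (∀ a ∈ A, a ∈ tList ∧ mul a a = 0) ∧
        (∀ i < 4, ev A i = vList.getD i 0) := by
      rcases hA with rfl | rfl
      · exact ⟨a2h, a2len, a2T, a2v⟩
      · exact ⟨a3h, a3len, a3T, a3v⟩
    have e4 := hT _ (evmem A hlen 4 (by norm_num))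
    have e8 := hT _ (evmem A hlen 8 (by norm_num))
    have sq : ∀ a ∈ A, mul (f a) (f a) = 0 := fun a ha => by
      rw [← fmul a (hT a ha).1 a (hT a ha).1, (hT a ha).2, fV.1]
    have hc : commB (f (ev A 4)) (f (ev A 8)) = true := by
      simp only [commB, Nat.beq_eq]
      rw [← fmul _ e4.1 _ e8.1, ← fmul _ e8.1 _ e4.1, ← (hh 4 (by norm_num) 8 (by norm_num)).1,
        ← (hh 8 (by norm_num) 4 (by norm_num)).1]
      rfl
    have hdec : ∀ m < 16, ∃ i < 4, ∃ j ∈ [0, 4, 8, 12], m = Nat.xor i j := by decide +kernel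
    have hfe : ∀ m < 16, f (ev A m) ∈ vList.flatMap fun v =>
        [0, f (ev A 4), f (ev A 8), mul (f (ev A 4)) (f (ev A 8))].map (mul v) := by
      intro m hm
      obtain ⟨i, hi, j, hj, rfl⟩ := hdec m hm
      have hj16 : j < 16 := by simp only [List.mem_cons, List.not_mem_nil, or_false] at hj; omega
      rw [(hh i (by omega) j hj16).1, fmul _ (hT _ (evmem A hlen i (by omega))).1 _ (hT _ (evmem A hlen j hj16)).1]
      simp only [List.mem_flatMap, List.mem_map]
      refine ⟨f (ev A i), fv _ ?_, f (ev A j), ?_, rfl⟩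
      · rw [hv i hi]
        interval_cases i <;> simp [vList]
      · simp only [List.mem_cons, List.not_mem_nil, or_false] at hj ⊢
        rcases hj with rfl | rfl | rfl | rfl
        · exact Or.inl (by rw [hv 0 (by norm_num)]; exact fV.1)
        · exact Or.inr (Or.inl rfl)
        · exact Or.inr (Or.inr (Or.inl rfl))
        · refine Or.inr (Or.inr (Or.inr ?_))
          rw [← fmul _ e4.1 _ e8.1, ← (hh 4 (by norm_num) 8 (by norm_num)).1]
          rfl
    have hnd : (vList.flatMap fun v =>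
        [0, f (ev A 4), f (ev A 8), mul (f (ev A 4)) (f (ev A 8))].map (mul v)).Nodup := by
      set L := vList.flatMap fun v => [0, f (ev A 4), f (ev A 8), mul (f (ev A 4)) (f (ev A 8))].map (mul v) with hL
      have hsub : ((List.range 16).toFinset.image fun m => f (ev A m)) ⊆ L.toFinset := fun x hx => by
        simp only [Finset.mem_image, List.mem_toFinset, List.mem_range] at hx
        obtain ⟨m, hm, rfl⟩ := hx
        exact List.mem_toFinset.2 (hfe m hm)
      have hinj : Set.InjOn (fun m => f (ev A m)) ((List.range 16).toFinset : Set ℕ) := by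
        intro m hm n hn h
        simp only [List.coe_toFinset, Set.mem_setOf_eq, List.mem_range] at hm hn
        have := finj _ (hT _ (evmem A hlen m hm)).1 _ (hT _ (evmem A hlen n hn)).1 h
        rw [← (hh m hm m hm).2, ← (hh n hn n hn).2, this]
      have h1 := Finset.card_le_card hsub
      rw [Finset.card_image_of_injOn hinj, List.card_toFinset, List.card_toFinset, List.dedup_eq_self.2 List.nodup_range,
        List.length_range] at h1
      have h2 : L.length = 16 := by simp [hL, vList]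
      exact List.dedup_eq_self.1 ((List.dedup_sublist L).eq_of_length (by
        have := (List.dedup_sublist L).length_le; omega))
    have hab := (hpair _ (hf1 _ e4.1) _ (hf1 _ e8.1)).resolve_left (by
      rw [sq _ (evmem A hlen 4 (by norm_num)), sq _ (evmem A hlen 8 (by norm_num)), hc, decide_eq_true hnd]
      decide)
    have hclose : ∀ S : List ℕ, (S = aTwo ∨ S = aThree) → f (ev A 4) ∈ S → f (ev A 8) ∈ S → ∀ a ∈ A, f a ∈ S := by
      intro S hS h4 h8 a ha
      obtain ⟨m, hm, rfl⟩ := memev A hlen a ha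
      have hm' := hfe m hm
      simp only [List.mem_flatMap, List.mem_map] at hm'
      obtain ⟨v, hv', w, hw, he⟩ := hm'
      rw [← he]
      have hcl : ∀ S ∈ [aTwo, aThree], (∀ v ∈ vList, v ∈ S) ∧ 0 ∈ S ∧ ∀ x ∈ S, ∀ y ∈ S, mul x y ∈ S := by
        decide +kernel
      obtain ⟨c1, c2, c3⟩ := hcl S (by rcases hS with rfl | rfl <;> simp)
      refine c3 v (c1 v hv') w ?_
      simp only [List.mem_cons, List.not_mem_nil, or_false] at hw
      rcases hw with rfl | rfl | rfl | rfl
      · exact c2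
      · exact h4
      · exact h8
      · exact c3 _ h4 _ h8
    rcases hab with ⟨h4, h8⟩ | ⟨h4, h8⟩
    · exact Or.inl (hclose _ (Or.inl rfl) h4 h8)
    · exact Or.inr (hclose _ (Or.inr rfl) h4 h8)
  -- conjugation by an element of the model
  have hnorm : ∀ A : List ℕ, (A = aTwo ∨ A = aThree) → ∀ c < 1152, normB A c = true → ∀ a ∈ A,
      cj c a ∈ A ∧ A.idxOf (cj c a) = appM (actM A c) (A.idxOf a) := by
    intro A hA c hc hn a ha
    obtain ⟨hh, hlen, hlt, hv⟩ : (∀ m < 16, ∀ n < 16, ev A (Nat.xor m n) = mul (ev A m) (ev A n) ∧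
        A.idxOf (ev A m) = m) ∧ A.length = 16 ∧ (∀ x ∈ A, x < 1152) ∧ ev A 0 = 0 := by
      rcases hA with rfl | rfl
      · exact ⟨a2h, a2len, fun x hx => htlt x (a2T x hx).1, a2v 0 (by norm_num)⟩
      · exact ⟨a3h, a3len, fun x hx => htlt x (a3T x hx).1, a3v 0 (by norm_num)⟩
    have hl : ∀ m < 16, ev A m < 1152 := fun m hm => hlt _ (evmem A hlen m hm)
    simp only [normB, Bool.and_eq_true, List.contains_iff_mem] at hn
    obtain ⟨⟨⟨n1, n2⟩, n4⟩, n8⟩ := hn
    have hix : ∀ x ∈ A, A.idxOf x < 16 ∧ ev A (A.idxOf x) = x := by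
      intro x hx
      obtain ⟨m, hm, rfl⟩ := memev A hlen x hx
      rw [(hh m hm m hm).2]
      exact ⟨hm, rfl⟩
    set M := actM A c with hM
    have hlin : ∀ m < 16, ∀ n < 16, cj c (ev A m) = ev A (appM M m) → cj c (ev A n) = ev A (appM M n) →
        appM M m < 16 → appM M n < 16 → cj c (ev A (Nat.xor m n)) = ev A (appM M (Nat.xor m n)) := by
      intro m hm n hn h1 h2 l1 l2
      have hmul : cj c (mul (ev A m) (ev A n)) = mul (cj c (ev A m)) (cj c (ev A n)) := by
        refine K.psi_inj (cj_lt hc (mul_lt (hl m hm) (hl n hn))) (mul_lt (cj_lt hc (hl m hm)) (cj_lt hc (hl n hn))) ?_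
        rw [K.psi_cj hc (mul_lt (hl m hm) (hl n hn)), K.psi_mul (hl m hm) (hl n hn),
          K.psi_mul (cj_lt hc (hl m hm)) (cj_lt hc (hl n hn)), K.psi_cj hc (hl m hm), K.psi_cj hc (hl n hn)]
        group
      rw [(hh m hm n hn).1, hmul, h1, h2, ← (hh _ l1 _ l2).1, appM_xor]
    have hMlt : ∀ m, appM M m < 16 := by
      have hi : ∀ b : Bool, ∀ x ∈ A, cond b (A.idxOf x) 0 < 2 ^ 4 := fun b x hx => by
        have := (hix x hx).1
        cases b <;> simp only [cond] <;> omega
      intro m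
      rw [hM]
      exact Nat.xor_lt_two_pow (n := 4) (Nat.xor_lt_two_pow (hi _ _ n1) (hi _ _ n2))
        (Nat.xor_lt_two_pow (hi _ _ n4) (hi _ _ n8))
    have h0 : cj c (ev A 0) = ev A (appM M 0) := by
      have : appM M 0 = 0 := by simp [appM]
      rw [this, hv]
      refine K.psi_inj (cj_lt hc (show 0 < 1152 by norm_num)) (show 0 < 1152 by norm_num) ?_
      rw [K.psi_cj hc (show 0 < 1152 by norm_num), K.psi_zero]
      group
    have hb : ∀ i ∈ [1, 2, 4, 8], cj c (ev A i) = ev A (appM M i) := by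
      intro i hi
      simp only [List.mem_cons, List.not_mem_nil, or_false] at hi
      rcases hi with rfl | rfl | rfl | rfl <;> rw [hM]
      · rw [show appM (actM A c) 1 = A.idxOf (cj c (ev A 1)) by simp [appM, actM, Nat.testBit]]
        exact (hix _ n1).2.symm
      · rw [show appM (actM A c) 2 = A.idxOf (cj c (ev A 2)) by simp [appM, actM, Nat.testBit]]
        exact (hix _ n2).2.symm
      · rw [show appM (actM A c) 4 = A.idxOf (cj c (ev A 4)) by simp [appM, actM, Nat.testBit]]
        exact (hix _ n4).2.symm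
      · rw [show appM (actM A c) 8 = A.idxOf (cj c (ev A 8)) by simp [appM, actM, Nat.testBit]]
        exact (hix _ n8).2.symm
    have h3 : cj c (ev A (Nat.xor 1 2)) = ev A (appM M (Nat.xor 1 2)) :=
      hlin 1 (by norm_num) 2 (by norm_num) (hb 1 (by simp)) (hb 2 (by simp)) (hMlt _) (hMlt _)
    have h12 : cj c (ev A (Nat.xor 4 8)) = ev A (appM M (Nat.xor 4 8)) :=
      hlin 4 (by norm_num) 8 (by norm_num) (hb 4 (by simp)) (hb 8 (by simp)) (hMlt _) (hMlt _)
    obtain ⟨m, hm, rfl⟩ := memev A hlen a ha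
    have hdec : ∀ m < 16, ∃ i ∈ [0, 1, 2, Nat.xor 1 2], ∃ j ∈ [0, 4, 8, Nat.xor 4 8],
        m = Nat.xor i j ∧ i < 16 ∧ j < 16 := by decide +kernel
    obtain ⟨i, hi, j, hj, rfl, hi16, hj16⟩ := hdec m hm
    have key : cj c (ev A (Nat.xor i j)) = ev A (appM M (Nat.xor i j)) := by
      refine hlin i hi16 j hj16 ?_ ?_ (hMlt _) (hMlt _)
      · simp only [List.mem_cons, List.not_mem_nil, or_false] at hi
        rcases hi with rfl | rfl | rfl | rfl
        exacts [h0, hb 1 (by simp), hb 2 (by simp), h3]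
      · simp only [List.mem_cons, List.not_mem_nil, or_false] at hj
        rcases hj with rfl | rfl | rfl | rfl
        exacts [h0, hb 4 (by simp), hb 8 (by simp), h12]
    rw [key, (hh _ (hMlt _) 0 (by norm_num)).2, (hh _ hm 0 (by norm_num)).2]
    exact ⟨evmem A hlen _ (hMlt _), rfl⟩
  obtain ⟨m0, hm0, hm0e⟩ := hmemT (K.g * K.g) (by
      calc K.g * K.g * K.psi 48 = K.g * (K.g * K.psi 48 * K.g⁻¹) * K.g⁻¹ * (K.g * K.g) := by group
        _ = _ := by rw [K.g_z, K.g_u]) (by
      calc K.g * K.g * K.psi iu = K.g * (K.g * K.psi iu * K.g⁻¹) * K.g⁻¹ * (K.g * K.g) := by group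
        _ = _ := by rw [K.g_u, K.g_z])
  have fff : ∀ t ∈ tList, f (f t) = cj m0 t := by
    intro t ht
    refine K.psi_inj (flt _ (hf1 t ht)) (cj_lt (htlt m0 hm0) (htlt t ht)) ?_
    rw [hf2 _ (hf1 t ht), hf2 t ht, K.psi_cj (htlt m0 hm0) (htlt t ht), hm0e]
    group
  have hvmem : ∀ x ∈ aTwo, x ∈ aThree → x ∈ vList := fun x h2 h3 =>
    (hmeet x (a2T x h2).1).resolve_left (by simp [h2, h3])
  have e4 : ev aTwo 4 ∈ aTwo ∧ ev aTwo 4 ∉ vList := ⟨evmem _ a2len 4 (by norm_num), by decide +kernel⟩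
  -- the two subgroups are normalised
  have hA2 : ∀ a ∈ aTwo, f a ∈ aTwo := by
    refine (himA aTwo (Or.inl rfl)).resolve_right fun h23 => ?_
    have h32 : ∀ a ∈ aThree, f a ∈ aTwo := by
      refine (himA aThree (Or.inr rfl)).resolve_right fun h33 => ?_
      have h1 := (hnorm aTwo (Or.inl rfl) m0 (htlt m0 hm0) (a2t m0 hm0).1 _ e4.1).1
      rw [← fff _ (a2T _ e4.1).1] at h1
      have h2 := h33 _ (h23 _ e4.1)
      have hv := hvmem _ h1 h2
      have hvinv : ∀ v ∈ vList, ∃ v' ∈ vList, f v' = v := by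
        intro v hv
        simp only [vList, List.mem_cons, List.not_mem_nil, or_false] at hv
        rcases hv with rfl | rfl | rfl | rfl
        · exact ⟨0, by simp [vList], fV.1⟩
        · exact ⟨iu, by simp [vList], fV.2.2.1⟩
        · exact ⟨48, by simp [vList], fV.2.1⟩
        · exact ⟨mul 48 iu, by simp [vList], fV.2.2.2⟩
      obtain ⟨v1, hv1, e1⟩ := hvinv _ hv
      have := finj _ (hvT v1 hv1) _ (hf1 _ (a2T _ e4.1).1) e1
      obtain ⟨v2, hv2, e2⟩ := hvinv v1 hv1
      rw [this] at e2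
      exact e4.2 (finj _ (hvT v2 hv2) _ (a2T _ e4.1).1 e2 ▸ hv2)
    -- the third power of the product with an element permuting the four group
    have hz48 : (48 : ℕ) < 1152 := by norm_num
    set t := K.psi it with htdef
    have htz : t * K.psi 48 * t⁻¹ = K.psi 48 := by rw [htdef, K.psi_comm it]; group
    have hti : t * K.psi iu * t⁻¹ = K.psi 48 * K.psi iu := by
      rw [htdef, ← K.psi_cj hitlt hiu, hitu, K.psi_mul hz48 hiu]
    set h := K.g * t with hh
    have h1 : h * K.psi 48 * h⁻¹ = K.psi iu := by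
      calc h * K.psi 48 * h⁻¹ = K.g * (t * K.psi 48 * t⁻¹) * K.g⁻¹ := by rw [hh]; group
        _ = _ := by rw [htz, K.g_z]
    have h2 : h * K.psi iu * h⁻¹ = K.psi iu * K.psi 48 := by
      calc h * K.psi iu * h⁻¹ = K.g * (t * K.psi iu * t⁻¹) * K.g⁻¹ := by rw [hh]; group
        _ = (K.g * K.psi 48 * K.g⁻¹) * (K.g * K.psi iu * K.g⁻¹) := by rw [hti]; group
        _ = _ := by rw [K.g_z, K.g_u]
    have h3 : h * (K.psi iu * K.psi 48) * h⁻¹ = K.psi 48 := by
      calc h * (K.psi iu * K.psi 48) * h⁻¹ = (h * K.psi iu * h⁻¹) * (h * K.psi 48 * h⁻¹) := by group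
        _ = _ := by
          rw [h1, h2, mul_assoc, ← K.psi_mul hz48 hiu, ← K.psi_mul hiu (mul_lt hz48 hiu)]
          exact congrArg K.psi (by decide +kernel)
    obtain ⟨m, hm, hme⟩ := hmemT (h * h * h) (by
        calc h * h * h * K.psi 48 = h * (h * (h * K.psi 48 * h⁻¹) * h⁻¹) * h⁻¹ * (h * h * h) := by group
          _ = _ := by rw [h1, h2, h3]) (by
        calc h * h * h * K.psi iu = h * (h * (h * K.psi iu * h⁻¹) * h⁻¹) * h⁻¹ * (h * h * h) := by group
          _ = _ := by rw [h2, h3, h1])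
    have step : ∀ (A : List ℕ), (A = aTwo ∨ A = aThree) → ∀ a ∈ A,
        ∃ b ∈ A, b ∈ tList ∧ h * K.psi a * h⁻¹ = K.psi (f b) := by
      intro A hA a ha
      have haT : a ∈ tList := by rcases hA with rfl | rfl; exacts [(a2T a ha).1, (a3T a ha).1]
      have hn : normB A it = true := by rcases hA with rfl | rfl; exacts [hit2, hit3]
      have hb := (hnorm A hA it hitlt hn a ha).1
      have hbT : cj it a ∈ tList := by rcases hA with rfl | rfl; exacts [(a2T _ hb).1, (a3T _ hb).1]
      refine ⟨cj it a, hb, hbT, ?_⟩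
      rw [hf2 _ hbT, K.psi_cj hitlt (htlt a haT), hh, htdef]
      group
    obtain ⟨b1, hb1, hb1T, e1⟩ := step aTwo (Or.inl rfl) _ e4.1
    obtain ⟨b2, hb2, hb2T, e2⟩ := step aThree (Or.inr rfl) _ (h23 _ hb1)
    obtain ⟨b3, hb3, hb3T, e3⟩ := step aTwo (Or.inl rfl) _ (h32 _ hb2)
    have hres : K.psi (cj m (ev aTwo 4)) = K.psi (f b3) := by
      rw [K.psi_cj (htlt m hm) (htlt _ (a2T _ e4.1).1), hme, ← e3, ← e2, ← e1]
      group
    have hcm := (hnorm aTwo (Or.inl rfl) m (htlt m hm) (a2t m hm).1 _ e4.1).1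
    have he := K.psi_inj (cj_lt (htlt m hm) (htlt _ (a2T _ e4.1).1)) (flt _ hb3T) hres
    have hv := hvmem _ hcm (he ▸ h23 _ hb3)
    have hback : ∀ m ∈ tList, cj m (ev aTwo 4) ∈ vList → False := by decide +kernel
    exact hback m hm hv
  have hA3 : ∀ a ∈ aThree, f a ∈ aThree := by
    refine (himA aThree (Or.inr rfl)).resolve_left fun h32 => ?_
    -- both subgroups would go to the first one
    have hs : ((aTwo ++ aThree).toFinset.image f) ⊆ aTwo.toFinset := by
      intro x hx
      simp only [Finset.mem_image, List.mem_toFinset, List.mem_append] at hx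
      obtain ⟨a, ha | ha, rfl⟩ := hx
      · exact List.mem_toFinset.2 (hA2 a ha)
      · exact List.mem_toFinset.2 (h32 a ha)
    have h1 := Finset.card_le_card hs
    rw [Finset.card_image_of_injOn] at h1
    · have hbad : ¬ ((aTwo ++ aThree).toFinset.card ≤ aTwo.toFinset.card) := by decide +kernel
      exact hbad h1
    · intro a ha b hb h
      simp only [List.coe_toFinset, Set.mem_setOf_eq, List.mem_append] at ha hb
      exact finj a (ha.elim (fun h => (a2T a h).1) (fun h => (a3T a h).1)) b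
        (hb.elim (fun h => (a2T b h).1) (fun h => (a3T b h).1)) h
  -- the linear action
  have lin : ∀ (A aut autT : List ℕ) (k : Bool), (A = aTwo ∨ A = aThree) → (∀ a ∈ A, f a ∈ A) →
      subB A aut autT = true → aut = cond k autThree autTwo → (k = true ↔ A = aThree) →
      ∃ M ∈ candM, okM A aut autT k M = true ∧ ∀ m < 16, f (ev A m) = ev A (appM M m) := by
    intro A aut autT k hA hfA hs haut _
    obtain ⟨hh, hlen, hT, ht, hn, ha, hv, hat⟩ := hsub _ _ _ hs
    have hi16 : ∀ x ∈ A, A.idxOf x < 16 ∧ ev A (A.idxOf x) = x := fun x hx => by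
      have h := List.idxOf_lt_length_iff.2 hx
      exact ⟨hlen ▸ h, by rw [ev, List.getD_eq_getElem _ _ h, List.getElem_idxOf]⟩
    set M := [2, 1, A.idxOf (f (ev A 4)), A.idxOf (f (ev A 8))] with hM
    have h4 := hi16 _ (hfA _ (evmem A hlen 4 (by norm_num)))
    have h8 := hi16 _ (hfA _ (evmem A hlen 8 (by norm_num)))
    have hMc : M ∈ candM := by
      simp only [candM, List.mem_map, List.mem_range]
      refine ⟨16 * A.idxOf (f (ev A 4)) + A.idxOf (f (ev A 8)), by omega, ?_⟩
      rw [hM]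
      congr <;> omega
    have hx : ∀ m < 16, ∀ n < 16, appM M (Nat.xor m n) = Nat.xor (appM M m) (appM M n) ∧ appM M m < 16 :=
      fun m hm n hn => compM_app M hMc ⟨m, hm⟩ ⟨n, hn⟩
    have hfM : ∀ m < 16, f (ev A m) = ev A (appM M m) := by
      have hdec : ∀ m < 16, m = Nat.xor (Nat.xor (Nat.land m 1) (Nat.land m 2)) (Nat.xor (Nat.land m 4) (Nat.land m 8)) ∧
          Nat.land m 1 ∈ [0, 1] ∧ Nat.land m 2 ∈ [0, 2] ∧ Nat.land m 4 ∈ [0, 4] ∧ Nat.land m 8 ∈ [0, 8] := by
        decide +kernel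
      have hxlt : ∀ a < 16, ∀ b < 16, Nat.xor a b < 16 := by decide +kernel
      have basic : ∀ m ∈ [0, 1, 2, 4, 8], f (ev A m) = ev A (appM M m) := by
        intro m hm
        simp only [List.mem_cons, List.not_mem_nil, or_false] at hm
        rcases hm with rfl | rfl | rfl | rfl | rfl
        · rw [hv 0 (by norm_num)]; exact fV.1.trans (by rw [show appM M 0 = 0 by simp [appM, hM, Nat.testBit, Nat.shiftRight_eq_div_pow], hv 0 (by norm_num)]; rfl)
        · rw [hv 1 (by norm_num)]; exact fV.2.1.trans (by rw [show appM M 1 = 2 by simp [appM, hM, Nat.testBit, Nat.shiftRight_eq_div_pow], hv 2 (by norm_num)]; rfl)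
        · rw [hv 2 (by norm_num)]; exact fV.2.2.1.trans (by rw [show appM M 2 = 1 by simp [appM, hM, Nat.testBit, Nat.shiftRight_eq_div_pow], hv 1 (by norm_num)]; rfl)
        · rw [show appM M 4 = A.idxOf (f (ev A 4)) by simp [appM, hM, Nat.testBit, Nat.shiftRight_eq_div_pow]]
          exact h4.2.symm
        · rw [show appM M 8 = A.idxOf (f (ev A 8)) by simp [appM, hM, Nat.testBit, Nat.shiftRight_eq_div_pow]]
          exact h8.2.symm
      have add : ∀ a < 16, ∀ b < 16, f (ev A a) = ev A (appM M a) → f (ev A b) = ev A (appM M b) →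
          f (ev A (Nat.xor a b)) = ev A (appM M (Nat.xor a b)) := by
        intro a ha' b hb' e1 e2
        rw [(hh a ha' b hb').1, fmul _ (hT _ (evmem A hlen a ha')).1 _ (hT _ (evmem A hlen b hb')).1, e1, e2,
          (hx a ha' b hb').1, (hh _ (hx a ha' a ha').2 _ (hx b hb' b hb').2).1]
      intro m hm
      obtain ⟨e, p1, p2, p4, p8⟩ := hdec m hm
      have l : ∀ x, (x ∈ [0, 1] ∨ x ∈ [0, 2] ∨ x ∈ [0, 4] ∨ x ∈ [0, 8]) → x < 16 ∧ x ∈ [0, 1, 2, 4, 8] := by
        intro x hx'
        simp only [List.mem_cons, List.not_mem_nil, or_false] at hx' ⊢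
        omega
      have q1 := l _ (Or.inl p1); have q2 := l _ (Or.inr (Or.inl p2))
      have q4 := l _ (Or.inr (Or.inr (Or.inl p4))); have q8 := l _ (Or.inr (Or.inr (Or.inr p8)))
      rw [e]
      exact add _ (hxlt _ q1.1 _ q2.1) _ (hxlt _ q4.1 _ q8.1) (add _ q1.1 _ q2.1 (basic _ q1.2) (basic _ q2.2))
        (add _ q4.1 _ q8.1 (basic _ q4.2) (basic _ q8.2))
    refine ⟨M, hMc, ?_, hfM⟩
    have eqM : ∀ X Y : List ℕ, X.length = 4 → Y.length = 4 → (∀ i < 4, X.getD i 0 = Y.getD i 0) → X = Y := by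
      intro X Y hX hY h
      refine List.ext_getElem (hX.trans hY.symm) fun i h1 h2 => ?_
      have := h i (hX ▸ h1)
      rwa [List.getD_eq_getElem _ _ h1, List.getD_eq_getElem _ _ h2] at this
    have base16 : ∀ i < 4, 2 ^ i < 16 ∧ ∀ X : List ℕ, appM X (2 ^ i) = X.getD i 0 := by
      intro i hi
      interval_cases i <;> exact ⟨by norm_num, fun X => by simp [appM, Nat.testBit, Nat.shiftRight_eq_div_pow]⟩
    have actget : ∀ c, ∀ i < 4, (actM A c).getD i 0 = A.idxOf (cj c (ev A (2 ^ i))) := by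
      intro c i hi
      interval_cases i <;> rfl
    simp only [okM, Bool.and_eq_true, List.all_eq_true, List.mem_range, Bool.or_eq_true, Bool.not_eq_true',
      List.contains_iff_mem, Nat.beq_eq, List.any_eq_false]
    refine ⟨fun m hm => ?_, ?_, fun p hp => ?_, ?_⟩
    · by_cases hm0' : m = 0
      · exact Or.inl hm0'
      · refine Or.inr ?_
        rw [← Bool.not_eq_true, Nat.beq_eq]
        intro h
        have := hfM m hm
        rw [h, hv 0 (by norm_num)] at this
        have := finj _ (hT _ (evmem A hlen m hm)).1 _ (hvT 0 (by simp [vList])) (this.trans fV.1.symm)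
        have h2 := (hh m hm m hm).2
        rw [this] at h2
        have h3 := (hh 0 (by norm_num) 0 (by norm_num)).2
        rw [hv 0 (by norm_num)] at h3
        exact hm0' (h2.symm.trans h3)
    · suffices e : compM M M = actM A m0 by rw [e]; exact (ht m0 hm0).2
      refine eqM _ _ rfl rfl fun i hi => ?_
      obtain ⟨hi16', hbM⟩ := base16 i hi
      rw [actget m0 i hi, ← fff _ (hT _ (evmem A hlen _ hi16')).1, hfM _ hi16', hfM _ (hx _ hi16' _ hi16').2,
        (hh _ (hx _ (hx _ hi16' _ hi16').2 _ hi16').2 _ hi16').2]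
      rw [hbM M]
      interval_cases i <;> rfl
    · have hpT : p ∈ tList := hat p hp
      obtain ⟨q, hq, hqe⟩ := List.mem_map.1 (ht (f p) (hf1 p hpT)).2
      refine List.mem_map.2 ⟨actM A (f p), List.mem_map.2 ⟨q, hq, hqe⟩, ?_⟩
      refine eqM _ _ rfl rfl fun i hi => ?_
      obtain ⟨hi16', hbM⟩ := base16 i hi
      have hiT := (hT _ (evmem A hlen _ hi16')).1
      have hcm := hnorm A hA p (htlt p hpT) (ht p hpT).1 _ (evmem A hlen _ hi16')
      have hfm := hnorm A hA (f p) (flt p hpT) (ht _ (hf1 p hpT)).1 _ (evmem A hlen _ (hx _ hi16' _ hi16').2)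
      have e : f (cj p (ev A (2 ^ i))) = cj (f p) (ev A (appM M (2 ^ i))) := by
        have hiT' := (hT _ hcm.1).1
        refine K.psi_inj (flt _ hiT') (cj_lt (flt p hpT) (htlt _ (hT _ (evmem A hlen _ (hx _ hi16' _ hi16').2)).1)) ?_
        rw [hf2 _ hiT', K.psi_cj (htlt p hpT) (htlt _ hiT), ← hfM _ hi16', K.psi_cj (flt p hpT) (flt _ hiT),
          hf2 _ hiT, hf2 p hpT]
        group
      have hc2 := hi16 _ hcm.1
      rw [← hc2.2, hfM _ hc2.1] at e
      have e' := congrArg A.idxOf e
      rw [(hh _ (hx _ hc2.1 _ hc2.1).2 _ hc2.1).2, hfm.2, (hh _ (hx _ hi16' _ hi16').2 _ hi16').2] at e'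
      interval_cases i <;> simp only [compM, List.getD_cons_zero, List.getD_cons_succ] <;>
        rw [← hbM] <;> exact e'.symm
    · intro e he hcon
      simp only [Bool.and_eq_true, beq_iff_eq, Nat.beq_eq, Bool.not_eq_true'] at hcon
      obtain ⟨hk, -, -, hfix, hout⟩ := hcon
      have hw := witness_lt
      simp only [List.all_eq_true, List.contains_iff_mem] at hw
      have hw' : ∀ c ∈ e.2.2.2, c ∈ aut := fun c hc => by rw [haut, ← hk]; exact hw e he c hc
      -- the element of the word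
      have key : ∀ L : List ℕ, (∀ c ∈ L, c ∈ aut) → ∀ m < 16, appM (wordM A M L) m < 16 ∧
          (L.map fun c => K.g * K.psi c).prod * K.psi (ev A m) * ((L.map fun c => K.g * K.psi c).prod)⁻¹ =
            K.psi (ev A (appM (wordM A M L) m)) := by
        intro L
        induction L with
        | nil =>
          intro _ m hm
          have e1 : appM [1, 2, 4, 8] m = m := (by decide +kernel : ∀ m < 16, appM [1, 2, 4, 8] m = m) m hm
          simp only [wordM, e1, List.map_nil, List.prod_nil, inv_one, one_mul, mul_one]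
          exact ⟨hm, trivial⟩
        | cons c L ih =>
          intro hL m hm
          obtain ⟨i1, i2⟩ := ih (fun c hc => hL c (List.mem_cons_of_mem _ hc)) m hm
          have hc := ha c (hL c List.mem_cons_self)
          obtain ⟨n1, n2⟩ := hnorm A hA c hc.1 hc.2 _ (evmem A hlen _ i1)
          rw [(hh _ i1 _ i1).2] at n2
          obtain ⟨j1, j2⟩ := hi16 _ n1
          have hlin : ∀ X : List ℕ, X.length = 4 → (∀ i < 4, X.getD i 0 < 16) → ∀ n < 16,
              appM (compM M X) n = appM M (appM X n) := by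
            intro X hX hXlt n hn
            have hall : ∀ a < 16, ∀ b < 16, ∀ c < 16, ∀ d < 16, appM M (Nat.xor (Nat.xor a b) (Nat.xor c d)) =
                Nat.xor (Nat.xor (appM M a) (appM M b)) (Nat.xor (appM M c) (appM M d)) := by
              intro a a' b b' c c' d d'
              have hxlt : ∀ a < 16, ∀ b < 16, Nat.xor a b < 16 := by decide +kernel
              rw [(hx _ (hxlt a a' b b') _ (hxlt c c' d d')).1, (hx a a' b b').1, (hx c c' d d').1]
            have hb : ∀ i < 4, cond (n.testBit i) (X.getD i 0) 0 < 16 := fun i hi => by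
              cases n.testBit i
              · exact (by norm_num : (0 : ℕ) < 16)
              · exact hXlt i hi
            show _ = appM M (Nat.xor (Nat.xor _ _) (Nat.xor _ _))
            rw [hall _ (hb 0 (by norm_num)) _ (hb 1 (by norm_num)) _ (hb 2 (by norm_num)) _ (hb 3 (by norm_num)),
              appM_cond, appM_cond, appM_cond, appM_cond]
            rfl
          have hact : ∀ i < 4, (actM A c).getD i 0 < 16 := fun i hi => by
            rw [actget c i hi]
            exact (hi16 _ (hnorm A hA c hc.1 hc.2 _ (evmem A hlen _ (base16 i hi).1)).1).1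
          have hwl : ∀ L : List ℕ, (wordM A M L).length = 4 := fun L => by cases L <;> rfl
          have hWlt : ∀ i < 4, (wordM A M L).getD i 0 < 16 := fun i hi => by
            rw [← (base16 i hi).2]
            exact (ih (fun c hc => hL c (List.mem_cons_of_mem _ hc)) _ (base16 i hi).1).1
          have hcomp : appM (wordM A M (c :: L)) m = appM M (appM (actM A c) (appM (wordM A M L) m)) := by
            have e2 : appM (compM (compM M (actM A c)) (wordM A M L)) m =
                appM (compM M (actM A c)) (appM (wordM A M L) m) := by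
              have hall : ∀ a < 16, ∀ b < 16, appM (compM M (actM A c)) (Nat.xor a b) =
                  Nat.xor (appM (compM M (actM A c)) a) (appM (compM M (actM A c)) b) := by
                intro a ha' b hb'
                have g : ∀ n < 16, appM (compM M (actM A c)) n = appM M (appM (actM A c) n) :=
                  hlin _ rfl hact
                have hxlt : ∀ a < 16, ∀ b < 16, Nat.xor a b < 16 := by decide +kernel
                rw [g _ (hxlt a ha' b hb'), g a ha', g b hb']
                obtain ⟨na, ea⟩ := hnorm A hA c hc.1 hc.2 _ (evmem A hlen a ha')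
                obtain ⟨nb, eb⟩ := hnorm A hA c hc.1 hc.2 _ (evmem A hlen b hb')
                obtain ⟨nab, eab⟩ := hnorm A hA c hc.1 hc.2 _ (evmem A hlen _ (hxlt a ha' b hb'))
                rw [(hh a ha' a ha').2] at ea
                rw [(hh b hb' b hb').2] at eb
                rw [(hh _ (hxlt a ha' b hb') _ (hxlt a ha' b hb')).2] at eab
                rw [← ea, ← eb, ← eab, ← (hx _ (hi16 _ na).1 _ (hi16 _ nb).1).1]
                congr 1
                have hal := htlt _ (hT _ (evmem A hlen a ha')).1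
                have hbl := htlt _ (hT _ (evmem A hlen b hb')).1
                have hmul : cj c (ev A (Nat.xor a b)) = mul (cj c (ev A a)) (cj c (ev A b)) := by
                  refine K.psi_inj (cj_lt hc.1 (htlt _ (hT _ (evmem A hlen _ (hxlt a ha' b hb'))).1))
                    (mul_lt (cj_lt hc.1 hal) (cj_lt hc.1 hbl)) ?_
                  rw [(hh a ha' b hb').1, K.psi_cj hc.1 (mul_lt hal hbl), K.psi_mul hal hbl,
                    K.psi_mul (cj_lt hc.1 hal) (cj_lt hc.1 hbl), K.psi_cj hc.1 hal, K.psi_cj hc.1 hbl]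
                  group
                have key := (hh _ (hi16 _ na).1 _ (hi16 _ nb).1).1
                rw [(hi16 _ na).2, (hi16 _ nb).2] at key
                rw [hmul, ← key]
                exact (hh _ (hxlt _ (hi16 _ na).1 _ (hi16 _ nb).1) _ (hi16 _ na).1).2
              have hb : ∀ i < 4, cond (m.testBit i) ((wordM A M L).getD i 0) 0 < 16 := fun i hi => by
                cases m.testBit i
                · exact (by norm_num : (0 : ℕ) < 16)
                · exact hWlt i hi
              have hxlt : ∀ a < 16, ∀ b < 16, Nat.xor a b < 16 := by decide +kernel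
              show _ = appM _ (Nat.xor (Nat.xor _ _) (Nat.xor _ _))
              rw [hall _ (hxlt _ (hb 0 (by norm_num)) _ (hb 1 (by norm_num))) _
                  (hxlt _ (hb 2 (by norm_num)) _ (hb 3 (by norm_num))),
                hall _ (hb 0 (by norm_num)) _ (hb 1 (by norm_num)),
                hall _ (hb 2 (by norm_num)) _ (hb 3 (by norm_num))]
              rw [appM_cond, appM_cond, appM_cond, appM_cond]
              rfl
            show appM (compM (compM M (actM A c)) (wordM A M L)) m = _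
            rw [e2, hlin _ rfl hact _ i1]
          rw [hcomp, ← n2]
          refine ⟨(hx _ j1 _ j1).2, ?_⟩
          rw [List.map_cons, List.prod_cons, ← hfM _ j1, j2, hf2 _ (hT _ n1).1,
            K.psi_cj hc.1 (htlt _ (hT _ (evmem A hlen _ i1)).1), ← i2]
          group
      set d := (e.2.2.2.map fun c => K.g * K.psi c).prod with hd
      have h1 := (key _ hw' 1 (by norm_num)).2
      rw [hfix, hv 1 (by norm_num), ← hd] at h1
      change d * K.psi 48 * d⁻¹ = K.psi 48 at h1
      obtain ⟨n, hn', hne⟩ := K.psi_surj (mul_inv_eq_iff_eq_mul.1 h1)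
      have hcn : ∀ i < 4, cj n (ev A (2 ^ i)) = ev A (appM (wordM A M e.2.2.2) (2 ^ i)) := by
        intro i hi
        obtain ⟨k1, k2⟩ := key _ hw' _ (base16 i hi).1
        refine K.psi_inj (cj_lt hn' (htlt _ (hT _ (evmem A hlen _ (base16 i hi).1)).1))
          (htlt _ (hT _ (evmem A hlen _ k1)).1) ?_
        rw [K.psi_cj hn' (htlt _ (hT _ (evmem A hlen _ (base16 i hi).1)).1), hne]
        exact k2
      have hnn : normB A n = true := by
        have e : ∀ i < 4, cj n (ev A (2 ^ i)) ∈ A := fun i hi => by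
          rw [hcn i hi]; exact evmem A hlen _ (key _ hw' _ (base16 i hi).1).1
        simp only [normB, Bool.and_eq_true, List.contains_iff_mem]
        exact ⟨⟨⟨e 0 (by norm_num), e 1 (by norm_num)⟩, e 2 (by norm_num)⟩, e 3 (by norm_num)⟩
      have hwl : ∀ L : List ℕ, (wordM A M L).length = 4 := fun L => by cases L <;> rfl
      have hW : actM A n = wordM A M e.2.2.2 := by
        refine eqM _ _ rfl (hwl _) fun i hi => ?_
        have k1 := (key _ hw' _ (base16 i hi).1).1
        rw [actget n i hi, hcn i hi, (hh _ k1 _ k1).2, (base16 i hi).2]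
      have := hn n hn' hnn
      rw [hW] at this
      rw [← Bool.not_eq_true, List.contains_iff_mem] at hout
      exact hout this
  obtain ⟨M, hMc, hMok, hfM⟩ := lin aTwo autTwo autTwoT false (Or.inl rfl) hA2 sub_check.1 rfl (by
    constructor
    · intro h; exact absurd h (by decide)
    · intro h; exact absurd h (by decide))
  obtain ⟨N, hNc, hNok, hfN⟩ := lin aThree autThree autThreeT true (Or.inr rfl) hA3 sub_check.2 rfl (by simp)
  have cons : ∀ (A B M N : List ℕ), (A = aTwo ∨ A = aThree) → A.length = 16 → B.length = 16 →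
      (∀ a ∈ A, a ∈ tList) → (∀ b ∈ B, b ∈ tList ∧ normB A b = true) →
      (∀ m < 16, f (ev A m) = ev A (appM M m)) → (∀ m < 16, f (ev B m) = ev B (appM N m)) →
      consB A B M N = true := by
    intro A B M N hA hlen hlB hTA hTB hfA hfB
    simp only [consB, List.all_eq_true, Nat.beq_eq]
    intro i hi j hj
    have hi' : i < 16 := by simp only [List.mem_cons, List.not_mem_nil, or_false] at hi; omega
    have hj' : j < 16 := by simp only [List.mem_cons, List.not_mem_nil, or_false] at hj; omega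
    have ha := hTA _ (evmem A hlen i hi')
    obtain ⟨hb, hbn⟩ := hTB _ (evmem B hlB j hj')
    have hn := (hnorm A hA _ (htlt _ hb) hbn _ (evmem A hlen i hi')).1
    have hidx := List.idxOf_lt_length_iff.2 hn
    rw [hlen] at hidx
    rw [← hfA _ hidx, ← hfB j hj', ← hfA i hi', show ev A (A.idxOf (cj (ev B j) (ev A i))) = cj (ev B j) (ev A i) by
      rw [ev, List.getD_eq_getElem _ _ (hlen ▸ hidx), List.getElem_idxOf]]
    have hcT := hTA _ hn
    refine K.psi_inj (flt _ hcT) (cj_lt (flt _ hb) (flt _ ha)) ?_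
    rw [hf2 _ hcT, K.psi_cj (htlt _ hb) (htlt _ ha), K.psi_cj (flt _ hb) (flt _ ha), hf2 _ hb, hf2 _ ha]
    group
  have hp := pairs_check
  simp only [List.all_eq_true, List.mem_filter, Bool.or_eq_true, Bool.not_eq_true', List.any_eq_true,
    Bool.and_eq_true, beq_iff_eq] at hp
  obtain ⟨t, ht, hM', hN'⟩ := (hp M ⟨hMc, hMok⟩ N ⟨hNc, hNok⟩).resolve_left (by
    rw [cons aTwo aThree M N (Or.inl rfl) a2len a3len (fun a h => (a2T a h).1)
        (fun b h => ⟨(a3T b h).1, (a2t b (a3T b h).1).1⟩) hfM hfN,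
      cons aThree aTwo N M (Or.inr rfl) a3len a2len (fun a h => (a3T a h).1)
        (fun b h => ⟨(a2T b h).1, (a3t b (a2T b h).1).1⟩) hfN hfM]
    decide)
  have hsc := sig_check
  simp only [Bool.and_eq_true, List.all_eq_true, List.mem_range, Bool.or_eq_true, Bool.not_eq_true',
    List.contains_iff_mem, Nat.beq_eq] at hsc
  obtain ⟨⟨⟨hs1, hs2⟩, hs3⟩, hs4⟩ := hsc
  have htlt' := htlt t ht
  set g1 := K.g * (K.psi t)⁻¹ with hg1
  have g1z : g1 * K.psi 48 * g1⁻¹ = K.psi iu := by
    calc g1 * K.psi 48 * g1⁻¹ = K.g * ((K.psi t)⁻¹ * (K.psi 48 * K.psi t)) * K.g⁻¹ := by rw [hg1]; group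
      _ = _ := by rw [← K.psi_comm t, inv_mul_cancel_left, K.g_z]
  have g1u : g1 * K.psi iu * g1⁻¹ = K.psi 48 := by
    calc g1 * K.psi iu * g1⁻¹ = K.g * ((K.psi t)⁻¹ * (K.psi iu * K.psi t)) * K.g⁻¹ := by rw [hg1]; group
      _ = _ := by rw [← htu t ht, inv_mul_cancel_left, K.g_u]
  have hti : inv t ∈ tList := (hs2 t ht 0 (by norm_num)).2
  have g1A : ∀ (A M0 X : List ℕ), (A = aTwo ∨ A = aThree) → normB A (inv t) = true → (∀ a ∈ A, a ∈ tList) →
      A.length = 16 → (∀ m < 16, A.idxOf (ev A m) = m) → (∀ m < 16, f (ev A m) = ev A (appM X m)) →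
      (∀ m < 16, appM X (appM (actM A (inv t)) m) = appM M0 m) →
      ∀ m < 16, g1 * K.psi (ev A m) * g1⁻¹ = K.psi (ev A (appM M0 m)) := by
    intro A M0 X hA hn hTA hlen hh hfX hx0 m hm
    have haT := hTA _ (evmem A hlen m hm)
    obtain ⟨n1, n2⟩ := hnorm A hA (inv t) (htlt _ hti) hn _ (evmem A hlen m hm)
    rw [hh m hm] at n2
    have hidx := List.idxOf_lt_length_iff.2 n1
    rw [hlen] at hidx
    have e : ev A (A.idxOf (cj (inv t) (ev A m))) = cj (inv t) (ev A m) := by
      rw [ev, List.getD_eq_getElem _ _ (hlen ▸ hidx), List.getElem_idxOf]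
    rw [← hx0 m hm, ← n2, ← hfX _ hidx, e, hf2 _ (hTA _ n1), K.psi_cj (htlt _ hti) (htlt _ haT), K.psi_inv htlt', hg1]
    group
  have g1two := g1A aTwo mTwo M (Or.inl rfl) (a2t _ hti).1 (fun a h => (a2T a h).1) a2len
    (fun m hm => (a2h m hm m hm).2) hfM (fun m hm => by rw [hM']; exact (hs2 t ht m hm).1.1)
  have g1three := g1A aThree mThree N (Or.inr rfl) (a3t _ hti).1 (fun a h => (a3T a h).1) a3len
    (fun m hm => (a3h m hm m hm).2) hfN (fun m hm => by rw [hN']; exact (hs2 t ht m hm).1.2)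
  have happ : ∀ m < 16, appM mTwo m < 16 ∧ appM mThree m < 16 := by decide +kernel
  have g1T : ∀ x ∈ tList, g1 * K.psi x * g1⁻¹ = K.psi (sig x) := by
    intro x hx
    obtain ⟨m, hm, n, hn, rfl⟩ := hfac x hx
    have ha := htlt _ (a2T _ (evmem _ a2len m hm)).1
    have hb := htlt _ (a3T _ (evmem _ a3len n hn)).1
    rw [(hs1 m hm n hn).1.1, K.psi_mul ha hb,
      K.psi_mul (htlt _ (a2T _ (evmem _ a2len _ (happ m hm).1)).1) (htlt _ (a3T _ (evmem _ a3len _ (happ n hn).2)).1),
      ← g1two m hm, ← g1three n hn]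
    group
  obtain ⟨v, hv, hve⟩ := hmemT (g1 * g1) (by
      calc g1 * g1 * K.psi 48 = g1 * (g1 * K.psi 48 * g1⁻¹) * g1⁻¹ * (g1 * g1) := by group
        _ = _ := by rw [g1z, g1u]) (by
      calc g1 * g1 * K.psi iu = g1 * (g1 * K.psi iu * g1⁻¹) * g1⁻¹ * (g1 * g1) := by group
        _ = _ := by rw [g1u, g1z])
  have hvV : v ∈ vList := by
    have hcm : ∀ (A M0 : List ℕ), A.length = 16 → (∀ m < 16, appM M0 m < 16 ∧ appM M0 (appM M0 m) = m) →
        (∀ m < 16, g1 * K.psi (ev A m) * g1⁻¹ = K.psi (ev A (appM M0 m))) → (∀ a ∈ A, a ∈ tList) →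
        (A.all fun a => commB v a) = true := by
      intro A M0 hlen hM0 hg hTA
      simp only [List.all_eq_true]
      intro a ha
      obtain ⟨m, hm, rfl⟩ := memev A hlen a ha
      refine (K.psi_commB (htlt v hv) (htlt _ (hTA _ ha))).1 ?_
      rw [hve]
      have : g1 * (g1 * K.psi (ev A m) * g1⁻¹) * g1⁻¹ = K.psi (ev A m) := by
        rw [hg m hm, hg _ (hM0 m hm).1, (hM0 m hm).2]
      calc g1 * g1 * K.psi (ev A m) = g1 * (g1 * K.psi (ev A m) * g1⁻¹) * g1⁻¹ * (g1 * g1) := by group
        _ = _ := by rw [this]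
    rcases hV v hv with (h | h) | h
    · rw [hcm aTwo mTwo a2len (fun m hm => ⟨(happ m hm).1, (hs1 m hm m hm).1.2⟩) g1two
        (fun a h => (a2T a h).1)] at h
      exact absurd h (by decide)
    · rw [hcm aThree mThree a3len (fun m hm => ⟨(happ m hm).2, (hs1 m hm m hm).2⟩) g1three
        (fun a h => (a3T a h).1)] at h
      exact absurd h (by decide)
    · exact h
  have hfixv : sig v = v := by
    refine K.psi_inj (htlt _ (hs4 v hv)) (htlt v hv) ?_
    rw [← g1T v hv, hve]
    group
  rcases hs3 v hvV with (h | h) | h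
  · rw [hfixv] at h
    simp at h
  · exact ⟨g1, by rw [← hve, h, K.psi_zero], g1z, g1u, g1T⟩
  · refine ⟨g1 * K.psi 48, ?_, ?_, ?_, ?_⟩
    · have e1 : K.psi v = K.psi 48 * K.psi iu := by rw [h, K.psi_mul (by norm_num) hiu]
      have ez : K.psi 48 * K.psi 48 = 1 := by
        rw [← K.psi_mul (by norm_num) (by norm_num), show mul 48 48 = 0 by decide +kernel, K.psi_zero]
      have eu : K.psi iu * K.psi iu = 1 := by
        rw [← K.psi_mul hiu hiu, show mul iu iu = 0 by decide +kernel, K.psi_zero]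
      calc g1 * K.psi 48 * (g1 * K.psi 48) = g1 * K.psi 48 * g1⁻¹ * (g1 * g1) * K.psi 48 := by group
        _ = K.psi iu * (K.psi 48 * K.psi iu) * K.psi 48 := by rw [g1z, ← hve, e1]
        _ = K.psi iu * (K.psi iu * K.psi 48) * K.psi 48 := by rw [K.psi_comm iu]
        _ = 1 := by rw [← mul_assoc (K.psi iu), eu, one_mul, ez]
    · rw [show g1 * K.psi 48 * K.psi 48 * (g1 * K.psi 48)⁻¹ = g1 * K.psi 48 * g1⁻¹ by group]; exact g1z
    · rw [show g1 * K.psi 48 * K.psi iu * (g1 * K.psi 48)⁻¹ = g1 * (K.psi 48 * K.psi iu * (K.psi 48)⁻¹) * g1⁻¹ by group,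
        ← K.psi_comm iu, mul_inv_cancel_right]
      exact g1u
    · intro x hx
      rw [show g1 * K.psi 48 * K.psi x * (g1 * K.psi 48)⁻¹ = g1 * (K.psi 48 * K.psi x * (K.psi 48)⁻¹) * g1⁻¹ by group,
        ← K.psi_comm x, mul_inv_cancel_right]
      exact g1T x hx

end Ctx

end CfsgLib.Recog.UFourThree
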