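import Mathlib
import Cfsg.Agent.Lib.Recog.UFourThree.Swap
import Cfsg.Agent.Lib.Recog.SporBound.U43X.Valid
import Cfsg.Agent.Lib.Recog.SporBound.U43Top.Valid

set_option autoImplicit false
set_option maxRecDepth 100000
set_option Elab.async false
set_option maxHeartbeats 4000000

/-!
# The relations

All relations of the certificate hold; the last one says that two subgroups of order 9 in the centraliser of an
element of order three commute (owner: helper22).
-/

namespace CfsgLib.Recog.UFourThree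

open CfsgLib.Recog.SporBound
open CfsgLib.ThreeTrans.CosetIndex (eqLetter fld)

/-- value of a word in the centraliser -/
def evw : List ℕ → ℕ
  | [] => 0
  | c :: t => mul (cgens.getD c 0) (evw t)

/-- action of a letter on a subgroup -/
def stepA (A M : List ℕ) (c m : ℕ) : ℕ :=
  cond (Nat.blt c 5) (A.idxOf (cj (cgens.getD c 0) (ev A m))) (appM M m)

/-- action of a word on a subgroup -/
def actW (A M : List ℕ) : List ℕ → ℕ → ℕ
  | [], m => m
  | c :: t, m => stepA A M c (actW A M t m)

/-- the letters that act on a subgroup -/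
def lettB (A : List ℕ) (c : ℕ) : Bool := (Nat.blt c 5 && normB A (cgens.getD c 0)) || Nat.beq c 5

/-- the letters of the local group -/
def al : List ℕ := [0, 1, 2, 3, 5]

/-- a relation inside the centraliser -/
def isCRel (r : List ℕ) : Bool := r.all (fun c => Nat.blt c 5) && Nat.beq (evw r) 0

/-- a relation from the action on the centraliser of the four group -/
def isSRel : List ℕ → Bool
  | [] => false
  | c :: t =>
    Nat.beq c 5 &&
      (match t.dropWhile (fun i => Nat.blt i 5) with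
        | [] => false
        | d :: v => Nat.beq d 5 && (v.all (fun i => Nat.blt i 5) && ((t.takeWhile (fun i => Nat.blt i 5)).all (fun i => Nat.blt i 5) &&
            (tList.contains (evw (t.takeWhile (fun i => Nat.blt i 5))) &&
              Nat.beq (mul (sig (evw (t.takeWhile (fun i => Nat.blt i 5)))) (evw v)) 0))))

/-- a power of a word acting without fixed points -/
def isFRel (A M r : List ℕ) : Bool :=
  r.all (lettB A) && ((List.range r.length).any fun d =>
    r == (List.replicate (r.length / (d + 1)) (r.take (d + 1))).flatten &&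
      (((List.range 16).all fun m => Nat.beq m 0 || Bool.not (Nat.beq (actW A M (r.take (d + 1)) m) m)) &&
        ((List.range 16).all fun m => Nat.beq (actW A M r m) m)))

/-- the last relation -/
def jRel : List ℕ := wT ++ wX ++ wT.reverse ++ wX ++ wT ++ wX.reverse ++ wT.reverse ++ wX.reverse

/-- a square -/
def isSqRel : List ℕ → Bool
  | [c, d] => Nat.beq c d
  | _ => false

/-- a relation that needs no further argument -/
def isBasic (r : List ℕ) : Bool :=
  isSqRel r || (isCRel r || (isSRel r || (isFRel aTwo mTwo r || isFRel aThree mThree r)))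

theorem rels_check : (U43Top.cert.rels.all fun r => isBasic r || r == jRel) = true := by decide +kernel

theorem xrels_check : (U43X.cert.rels.all fun r => isBasic (r.map fun i => al.getD i 15)) = true := by decide +kernel

/-- the traced words -/
def traced : List (List ℕ) :=
  [wT ++ wS ++ wT.reverse ++ wS.reverse, wS' ++ wS' ++ wS', wS ++ wS' ++ wS.reverse ++ wS'.reverse,
    wX' ++ wS ++ wX'.reverse ++ wS'.reverse, wX' ++ wS' ++ wX'.reverse ++ wS]

theorem traced_check : ((List.range 5).all fun i =>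
    Cert.endsAt U43X.cert (U43X.closers.getD i 0) 0 ((traced.getD i []).map fun c => al.idxOf c) &&
      Nat.beq (fld (U43X.closers.getD i 0) 0) 0 &&
      (((traced.getD i []).map fun c => al.idxOf c).map fun c => al.getD c 15) == traced.getD i []) = true := by
  decide +kernel

theorem lettA_check : ([(aTwo, mTwo), (aThree, mThree)].all fun p =>
    (List.range 6).all fun c => Bool.not (lettB p.1 c) || ((List.range 16).all fun m =>
      Nat.blt (stepA p.1 p.2 c m) 16 && (Nat.beq c 5 || Nat.beq (ev p.1 (stepA p.1 p.2 c m)) (cj (cgens.getD c 0) (ev p.1 m))) &&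
      (Bool.not (Nat.beq c 5) || Nat.beq (sig (ev p.1 m)) (ev p.1 (appM p.2 m))))) = true := by decide +kernel

theorem cgens_check : ((cgens.all fun c => Nat.blt c 1152 && Nat.beq (mul c c) 0) && Nat.beq cgens.length 5 &&
    ([aTwo, aThree].all fun A => Nat.beq A.length 16 && Nat.beq (ev A 1) 48 && Nat.beq (ev A 0) 0 &&
      (A.all fun a => Nat.blt a 1152 && tList.contains a) &&
      ((List.range 16).all fun m => (List.range 16).all fun n => Bool.not (Nat.beq (ev A m) (ev A n)) || Nat.beq m n) &&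
      ((List.range 1152).all fun x => Bool.not (A.all fun a => commB x a) || A.contains x))) = true := by
  decide +kernel

theorem word_check : (evw wS == eS && evw wX == eX && (wS ++ wX).all (fun c => Nat.blt c 5) &&
    (wT ++ wS' ++ wX').all (fun c => al.contains c) && wS.all (fun c => al.contains c)) = true := by decide +kernel

/-- the element powers -/
def sPow : List ℕ := [0, eS, mul eS eS]

/-- the coset of the second element -/
def xCoset : List ℕ := [eX, mul eX eS, mul eX (mul eS eS)]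

/-- the four group centralising the element -/
def eList : List ℕ := [0, 48, eV, mul 48 eV]

theorem local_check : (Nat.blt eS 1152 && Nat.blt eX 1152 && Nat.blt eV 1152 && Nat.beq sList.length 36 && decide sList.Nodup &&
    ((List.range 1152).all fun y => commB y eS == sList.contains y) &&
    (eList.all fun a => sList.contains a) && decide eList.Nodup &&
    (eList.all fun a => eList.all fun b => eList.contains (mul a b)) &&
    (eList.all fun a => Nat.beq (mul a a) 0) &&
    (sList.all fun y => Bool.not ((eList.all fun a => eList.contains (cj y a)) && eList.contains (mul y y)) ||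
      eList.contains y) &&
    (sList.all fun y => Bool.not (Nat.beq (mul y (mul y y)) 0 && commB y eV) || sPow.contains y) &&
    ((List.range 1152).all fun y => Bool.not (commB (cj y eS) eS) || sPow.contains (cj y eS)) &&
    sList.contains eX && pList.contains eX && Bool.not (sPow.contains eX) && decide pList.Nodup && Nat.beq pList.length 9 &&
    (pList.all fun p => sList.contains p && pList.all fun q => pList.contains (mul p q)) &&
    pList.contains eS &&
    (xCoset.all fun a => pList.contains a) &&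
    (pList.all fun p => sPow.contains p || xCoset.contains p || xCoset.contains (inv p)) &&
    (xCoset.all fun a => Bool.not (xCoset.contains (inv a))) &&
    Nat.beq (cj 48 eX) eX && Nat.beq (cj eV eX) (inv eX) && Nat.beq (cj (mul 48 eV) eX) (inv eX) &&
    Nat.beq (cj eV eS) eS &&
    (sList.all fun y => Bool.not (xCoset.contains (cj y eX) && Nat.beq (mul y (mul y (mul y y))) 0) ||
      Nat.beq y 0 || Nat.beq y 48) &&
    (sList.all fun y => Bool.not (Nat.beq (mul (mul y (mul y y)) (mul (mul y (mul y y)) (mul y (mul y y)))) 0) ||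
      pList.contains y) &&
    (sList.all fun y => pList.contains (cj y eX) && Bool.not (sPow.contains (cj y eX))) &&
    (pList.all fun q => sPow.contains q || ([0, q, mul q q].any fun a => sPow.any fun b => Nat.beq eX (mul a b))) &&
    Nat.beq (mul eS (mul eS eS)) 0 && Nat.beq (mul eX (mul eX eX)) 0) = true := by decide +kernel

theorem fix_check : (
    let i := actW aTwo mTwo wT 1
    let j := actW aTwo mTwo wT i
    Bool.not (Nat.beq i 1) && Bool.not (Nat.beq j 1) && Bool.not (Nat.beq i j) && Nat.beq (actW aTwo mTwo wT j) 1 &&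
    eList.contains (ev aTwo i) && eList.contains (ev aTwo j) &&
    ((List.range 3).all fun k =>
      Bool.not ((List.range 16).all fun m =>
        Nat.beq (actW aTwo mTwo wS' m) (actW aTwo mTwo (List.replicate k wS).flatten m)))) = true := by decide +kernel

/-- the model with an involution swapping the four group -/
structure Adj (G : Type*) [Group G] extends Ctx G where
  g_sq : g * g = 1
  g_sig : ∀ t ∈ tList, g * psi t * g⁻¹ = psi (sig t)

/-- adjusting the swapping element -/
theorem exists_adj {G : Type*} [Group G] (K : Ctx G) : Nonempty (Adj G) := by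
  obtain ⟨h, h1, h2, h3, h4⟩ := K.exists_adjusted
  exact ⟨{ psi := K.psi, g := h, psi_mul := K.psi_mul, psi_inj := K.psi_inj, psi_surj := K.psi_surj,
           psi_comm := K.psi_comm, g_z := h2, g_u := h3, g_sq := h1, g_sig := h4 }⟩

/-- a group of order twice an odd number has a subgroup of index two (as in `AltDerange`) -/
theorem exists_half {A : Type*} [Group A] [Finite A] {u : ℕ} (hu : Odd u) (h : Nat.card A = 2 * u) :
    ∃ K : Subgroup A, Nat.card K = u ∧ ∀ a : A, Odd (orderOf a) → a ∈ K := by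
  classical
  haveI := Fintype.ofFinite A
  haveI := Fact.mk Nat.prime_two
  obtain ⟨x, hx⟩ := exists_prime_orderOf_dvd_card' (G := A) 2 (by rw [h]; exact dvd_mul_right 2 u)
  let f : A →* ℤˣ := Equiv.Perm.sign.comp (MulAction.toPermHom A A)
  have hsupp : (MulAction.toPermHom A A x).support = Finset.univ := by
    refine Finset.eq_univ_of_forall fun a => Equiv.Perm.mem_support.2 ?_
    simpa using fun e : x = 1 => by simp [e] at hx
  have hsq : MulAction.toPermHom A A x ^ 2 = 1 := by rw [← map_pow, ← hx, pow_orderOf_eq_one, map_one]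
  have hfx : f x = -1 := by
    have h2 : ∀ a ∈ (MulAction.toPermHom A A x).cycleType, a = 2 := by
      intro a ha
      have h1 := Equiv.Perm.dvd_of_mem_cycleType ha
      have h3 := orderOf_dvd_of_pow_eq_one hsq
      have h4 := Nat.le_of_dvd two_pos (h1.trans h3)
      have := Equiv.Perm.two_le_of_mem_cycleType ha
      omega
    have hrep := Multiset.eq_replicate_card.2 h2
    have hsum := Equiv.Perm.sum_cycleType (MulAction.toPermHom A A x)
    rw [hsupp, hrep, Multiset.sum_replicate, Finset.card_univ, ← Nat.card_eq_fintype_card, h, smul_eq_mul] at hsum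
    change Equiv.Perm.sign _ = -1
    rw [Equiv.Perm.sign_of_cycleType, hrep, Multiset.sum_replicate, Multiset.card_replicate, smul_eq_mul]
    refine Odd.neg_one_pow ?_
    obtain ⟨v, rfl⟩ := hu
    exact ⟨Multiset.card (MulAction.toPermHom A A x).cycleType + v, by omega⟩
  have hsurj : Function.Surjective f := by
    intro z
    rcases Int.units_eq_one_or z with rfl | rfl
    · exact ⟨1, map_one f⟩
    · exact ⟨x, hfx⟩
  refine ⟨f.ker, ?_, fun a ha => ?_⟩
  · have hm := Subgroup.card_mul_index f.ker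
    rw [Subgroup.index_ker, MonoidHom.range_eq_top.2 hsurj, Subgroup.card_top, Nat.card_eq_fintype_card (α := ℤˣ),
      Fintype.card_units_int, h] at hm
    omega
  · rw [MonoidHom.mem_ker]
    rcases Int.units_eq_one_or (f a) with h1 | h1
    · exact h1
    · exfalso
      have := congrArg f (pow_orderOf_eq_one a)
      rw [map_pow, map_one, h1, ha.neg_one_pow] at this
      exact absurd this (by decide)

namespace Adj

variable {G : Type*} [Group G] (D : Adj G)

/-- the letters -/
def a (c : ℕ) : G := cond (Nat.blt c 5) (D.psi (cgens.getD c 0)) (cond (Nat.beq c 5) D.g 1)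

/-- the value of a word -/
def val (w : List ℕ) : G := (w.map D.a).prod

theorem a_gen {c : ℕ} (hc : c < 5) : D.a c = D.psi (cgens.getD c 0) ∧ cgens.getD c 0 < 1152 := by
  have h := cgens_check
  simp only [Bool.and_eq_true, List.all_eq_true, Nat.blt_eq, Nat.beq_eq] at h
  have hl : c < cgens.length := by rw [h.1.2]; exact hc
  refine ⟨by rw [a, show Nat.blt c 5 = true by simpa using hc, cond_true], ?_⟩
  rw [List.getD_eq_getElem _ _ hl]
  exact (h.1.1 _ (List.getElem_mem hl)).1

theorem a_five : D.a 5 = D.g := rfl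

theorem a_sq (c : ℕ) : D.a c * D.a c = 1 := by
  by_cases hc : c < 5
  · have h := cgens_check
    simp only [Bool.and_eq_true, List.all_eq_true, Nat.blt_eq, Nat.beq_eq] at h
    have hl : c < cgens.length := by rw [h.1.2]; exact hc
    obtain ⟨e1, e2⟩ := D.a_gen hc
    rw [e1, ← D.psi_mul e2 e2, List.getD_eq_getElem _ _ hl, (h.1.1 _ (List.getElem_mem hl)).2,
      Ctx.psi_zero D.toCtx]
  · by_cases h5 : c = 5
    · rw [h5, D.a_five, D.g_sq]
    · rw [a, show Nat.blt c 5 = false by rw [← Bool.not_eq_true]; simpa using hc,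
        show Nat.beq c 5 = false by rw [← Bool.not_eq_true]; simpa using h5]
      simp

theorem a_eq : D.a eqLetter = 1 := rfl

theorem val_nil : D.val [] = 1 := rfl

theorem val_cons (c : ℕ) (w : List ℕ) : D.val (c :: w) = D.a c * D.val w := List.prod_cons

theorem val_append (v w : List ℕ) : D.val (v ++ w) = D.val v * D.val w := by
  rw [val, List.map_append, List.prod_append]; rfl

theorem val_reverse : ∀ w : List ℕ, D.val w.reverse = (D.val w)⁻¹
  | [] => by rw [List.reverse_nil, D.val_nil, inv_one]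
  | c :: w => by
    rw [List.reverse_cons, val_append, val_reverse w, D.val_cons c w, mul_inv_rev, D.val_cons, D.val_nil,
      mul_one, inv_eq_of_mul_eq_one_right (D.a_sq c)]

theorem evw_spec : ∀ {w : List ℕ}, (∀ c ∈ w, c < 5) → D.val w = D.psi (evw w) ∧ evw w < 1152
  | [], _ => ⟨(Ctx.psi_zero D.toCtx).symm, by norm_num [evw]⟩
  | c :: w, h => by
    obtain ⟨h1, h2⟩ := evw_spec fun x hx => h x (List.mem_cons_of_mem _ hx)
    obtain ⟨e1, e2⟩ := D.a_gen (h c List.mem_cons_self)
    exact ⟨by rw [val_cons, e1, h1, evw, D.psi_mul e2 h2], mul_lt e2 h2⟩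

theorem val_act (A M : List ℕ) (hAM : (A, M) ∈ [(aTwo, mTwo), (aThree, mThree)]) :
    ∀ {w : List ℕ}, (∀ c ∈ w, lettB A c = true) → ∀ m < 16, actW A M w m < 16 ∧
      D.val w * D.psi (ev A m) * (D.val w)⁻¹ = D.psi (ev A (actW A M w m))
  | [], _, m, hm => by simp [actW, val, hm]
  | c :: w, h, m, hm => by
    obtain ⟨i1, i2⟩ := val_act A M hAM (fun x hx => h x (List.mem_cons_of_mem _ hx)) m hm
    have hc := h c List.mem_cons_self
    have hc6 : c < 6 := by
      simp only [lettB, Bool.or_eq_true, Bool.and_eq_true, Nat.blt_eq, Nat.beq_eq] at hc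
      omega
    have hl := lettA_check
    simp only [List.all_eq_true, List.mem_range, Bool.or_eq_true, Bool.not_eq_true', Bool.and_eq_true,
      Nat.blt_eq, Nat.beq_eq] at hl
    obtain ⟨⟨l1, l2⟩, l3⟩ := (hl (A, M) hAM c hc6).resolve_left (by simp [hc]) _ i1
    dsimp only at l1 l2 l3
    refine ⟨l1, ?_⟩
    have hA : A ∈ [aTwo, aThree] := by
      simp only [List.mem_cons, Prod.mk.injEq, List.not_mem_nil, or_false] at hAM ⊢
      tauto
    have hck := cgens_check
    simp only [Bool.and_eq_true, List.all_eq_true, List.contains_iff_mem, Nat.beq_eq, Nat.blt_eq] at hck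
    obtain ⟨⟨⟨⟨⟨hlen, -⟩, -⟩, hmem⟩, -⟩, -⟩ := hck.2 A hA
    have hev : ev A (actW A M w m) ∈ A := by
      rw [ev, List.getD_eq_getElem _ _ (by omega)]
      exact List.getElem_mem _
    rw [val_cons, show D.a c * D.val w * D.psi (ev A m) * (D.a c * D.val w)⁻¹ =
      D.a c * (D.val w * D.psi (ev A m) * (D.val w)⁻¹) * (D.a c)⁻¹ by group, i2]
    show _ = D.psi (ev A (stepA A M c (actW A M w m)))
    by_cases h5 : c = 5
    · subst h5
      rw [D.a_five, D.g_sig _ (hmem _ hev).2, l3.resolve_left (by simp)]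
      rfl
    · obtain ⟨e1, e2⟩ := D.a_gen (by omega : c < 5)
      rw [e1, l2.resolve_left h5, Ctx.psi_cj D.toCtx e2 (hmem _ hev).1]

theorem frel_one (A M : List ℕ) (hAM : (A, M) ∈ [(aTwo, mTwo), (aThree, mThree)]) {r : List ℕ}
    (h : isFRel A M r = true) : D.val r = 1 := by
  simp only [isFRel, Bool.and_eq_true, List.all_eq_true, List.any_eq_true, List.mem_range, beq_iff_eq,
    Bool.or_eq_true, Bool.not_eq_true', Nat.beq_eq] at h
  obtain ⟨hl, d, -, hr, hfree, hid⟩ := h
  have hA : A ∈ [aTwo, aThree] := by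
    simp only [List.mem_cons, Prod.mk.injEq, List.not_mem_nil, or_false] at hAM ⊢
    tauto
  have hck := cgens_check
  simp only [Bool.and_eq_true, List.all_eq_true, List.contains_iff_mem, Nat.beq_eq, Nat.blt_eq, List.mem_range,
    Bool.or_eq_true, Bool.not_eq_true'] at hck
  obtain ⟨⟨⟨⟨⟨hlen, hz⟩, h0⟩, hmem⟩, hinj⟩, hcent⟩ := hck.2 A hA
  set y := r.take (d + 1) with hy
  set n := r.length / (d + 1) with hn
  have hval : D.val r = D.val y ^ n := by
    have hrep : ∀ k, D.val (List.replicate k y).flatten = D.val y ^ k := by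
      intro k
      induction k with
      | zero => simp [D.val_nil]
      | succ k ih => rw [List.replicate_succ, List.flatten_cons, val_append, ih, pow_succ']
    exact (congrArg D.val hr).trans (hrep n)
  have hfix : ∀ m < 16, D.val r * D.psi (ev A m) * (D.val r)⁻¹ = D.psi (ev A m) := by
    intro m hm
    rw [(D.val_act A M hAM hl m hm).2, hid m hm]
  have hz' : D.val r * D.psi 48 = D.psi 48 * D.val r := by
    have := hfix 1 (by norm_num)
    rw [hz] at this
    exact mul_inv_eq_iff_eq_mul.1 this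
  obtain ⟨x, hx, hxe⟩ := D.psi_surj hz'
  have hxA : x ∈ A := (hcent x hx).resolve_left (by
    simp only [List.all_eq_false]
    rintro ⟨a, ha, hne⟩
    obtain ⟨i, hi, rfl⟩ := List.getElem_of_mem ha
    refine hne ((Ctx.psi_commB D.toCtx hx (hmem _ ha).1).1 ?_)
    rw [hxe]
    have := hfix i (by omega)
    rw [ev, List.getD_eq_getElem _ _ hi] at this
    exact mul_inv_eq_iff_eq_mul.1 this)
  obtain ⟨i, hi, rfl⟩ := List.getElem_of_mem hxA
  have hev : ev A i = A[i] := by rw [ev, List.getD_eq_getElem _ _ hi]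
  obtain ⟨j1, j2⟩ := D.val_act A M hAM (w := y) (fun c hc => hl c (List.mem_of_mem_take hc)) i (by omega)
  rw [hev, hxe, hval, ← pow_succ', pow_succ, mul_inv_cancel_right, ← hval, ← hxe, ← hev] at j2
  have hey : ∀ m < 16, ev A m < 1152 := fun m hm => by
    have : m < A.length := by omega
    rw [ev, List.getD_eq_getElem _ _ this]
    exact (hmem _ (List.getElem_mem this)).1
  have e := D.psi_inj (hey i (by omega)) (hey _ j1) j2
  have hii := (hinj i (by omega) _ j1).resolve_left (by
    rw [← e]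
    simp)
  rcases hfree i (by omega) with h | h
  · rw [← hxe, ← hev, h, h0, Ctx.psi_zero D.toCtx]
  · rw [← hii] at h
    simp at h

theorem basic_one {r : List ℕ} (h : isBasic r = true) : D.val r = 1 := by
  simp only [isBasic, Bool.or_eq_true] at h
  rcases h with h | h | h | h | h
  · match r, h with
    | [c, d], h =>
      simp only [isSqRel, Nat.beq_eq] at h
      subst h
      simpa [val] using D.a_sq c
    | [], h => simp [isSqRel] at h
    | [_], h => simp [isSqRel] at h
    | _ :: _ :: _ :: _, h => simp [isSqRel] at h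
  · simp only [isCRel, Bool.and_eq_true, List.all_eq_true, Nat.blt_eq, Nat.beq_eq] at h
    rw [(D.evw_spec h.1).1, h.2, Ctx.psi_zero D.toCtx]
  · match r, h with
    | [], h => simp [isSRel] at h
    | c :: t, h =>
      rw [isSRel, Bool.and_eq_true] at h
      obtain ⟨hc, h⟩ := h
      simp only [Nat.beq_eq] at hc
      set u := t.takeWhile (fun i => Nat.blt i 5) with hu
      cases hd : t.dropWhile (fun i => Nat.blt i 5) with
      | nil => rw [hd] at h; simp at h
      | cons d v =>
        rw [hd] at h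
        simp only [Bool.and_eq_true, Nat.beq_eq, List.all_eq_true, Nat.blt_eq, List.contains_iff_mem] at h
        obtain ⟨hd5, hv, hu5, huT, hs⟩ := h
        have ht : t = u ++ d :: v := by rw [hu, ← hd, List.takeWhile_append_dropWhile]
        rw [ht, hc, hd5, val_cons, val_append, val_cons, D.a_five, (D.evw_spec hu5).1, (D.evw_spec hv).1]
        have hsig : sig (evw u) < 1152 := by
          have hall : ∀ t ∈ tList, sig t < 1152 := by decide +kernel
          exact hall _ huT
        calc D.g * (D.psi (evw u) * (D.g * D.psi (evw v)))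
            = D.g * D.psi (evw u) * D.g⁻¹ * (D.g * D.g) * D.psi (evw v) := by group
          _ = 1 := by
            rw [D.g_sig _ huT, D.g_sq, mul_one, ← D.psi_mul hsig (D.evw_spec hv).2, hs, Ctx.psi_zero D.toCtx]
  · exact D.frel_one aTwo mTwo (by simp) h
  · exact D.frel_one aThree mThree (by simp) h

theorem traced_one {i : ℕ} (hi : i < 5) : D.val (traced.getD i []) = 1 := by
  let b : ℕ → G := fun x => D.a (al.getD x 15)
  have hinv : ∀ x, b x * b x = 1 := fun x => D.a_sq _
  have he : b eqLetter = 1 := rfl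
  have hrel : ∀ w ∈ U43X.cert.rels, (w.map b).prod = 1 := by
    intro w hw
    have h := D.basic_one (List.all_eq_true.1 xrels_check w hw)
    rwa [val, List.map_map] at h
  obtain ⟨v, hv0, good, -⟩ := Cert.exists_orbit (C := U43X.cert) hinv he U43X.ok (⊥ : Subgroup G) hrel
    (fun w hw => absurd hw List.not_mem_nil)
  have hc := traced_check
  simp only [List.all_eq_true, List.mem_range, Bool.and_eq_true, Nat.beq_eq, beq_iff_eq] at hc
  obtain ⟨⟨h1, h2⟩, h3⟩ := hc i hi
  have hm := Cert.mem_of_endsAt hinv he U43X.ok hv0 good h1 h2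
  rw [Subgroup.mem_bot] at hm
  rw [← h3, val, List.map_map]
  exact hm

/-- the subgroup given by a closed list of indices -/
def listGroup (L : List ℕ) (h1 : ∀ x ∈ L, x < 1152) (h2 : 0 ∈ L) (h3 : ∀ x ∈ L, ∀ y ∈ L, mul x y ∈ L)
    (h4 : ∀ x ∈ L, inv x ∈ L) : Subgroup G where
  carrier := {c | ∃ x ∈ L, D.psi x = c}
  one_mem' := ⟨0, h2, Ctx.psi_zero D.toCtx⟩
  mul_mem' := by
    rintro _ _ ⟨x, hx, rfl⟩ ⟨y, hy, rfl⟩
    exact ⟨mul x y, h3 x hx y hy, D.psi_mul (h1 x hx) (h1 y hy)⟩
  inv_mem' := by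
    rintro _ ⟨x, hx, rfl⟩
    exact ⟨inv x, h4 x hx, Ctx.psi_inv D.toCtx (h1 x hx)⟩

theorem card_listGroup (L : List ℕ) (h1 : ∀ x ∈ L, x < 1152) (h2 : 0 ∈ L) (h3 : ∀ x ∈ L, ∀ y ∈ L, mul x y ∈ L)
    (h4 : ∀ x ∈ L, inv x ∈ L) (hnd : L.Nodup) : Nat.card (D.listGroup L h1 h2 h3 h4) = L.length := by
  classical
  let f : {x // x ∈ L.toFinset} → D.listGroup L h1 h2 h3 h4 := fun x =>
    ⟨D.psi x.1, x.1, List.mem_toFinset.1 x.2, rfl⟩
  have hf : Function.Bijective f := by
    refine ⟨fun x y h => Subtype.ext (D.psi_inj (h1 _ (List.mem_toFinset.1 x.2)) (h1 _ (List.mem_toFinset.1 y.2))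
      (congrArg Subtype.val h)), fun ⟨c, x, hx, hc⟩ => ⟨⟨x, List.mem_toFinset.2 hx⟩, Subtype.ext hc⟩⟩
  rw [← Nat.card_eq_of_bijective f hf, Nat.card_eq_fintype_card, Fintype.card_coe, List.toFinset_card_of_nodup hnd]

variable [Finite G]

/-- the two subgroups of order 9 commute -/
theorem commute_pair : D.val wT * D.psi eX * (D.val wT)⁻¹ * D.psi eX =
    D.psi eX * (D.val wT * D.psi eX * (D.val wT)⁻¹) := by
  classical
  haveI := Fact.mk Nat.prime_two
  haveI := Fact.mk Nat.prime_three
  have hc := local_check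
  simp only [Bool.and_eq_true, List.all_eq_true, List.any_eq_true, List.mem_range, Bool.or_eq_true, Bool.not_eq_true',
    List.contains_iff_mem, Nat.beq_eq, Nat.blt_eq, decide_eq_true_eq, beq_iff_eq] at hc
  obtain ⟨⟨⟨⟨⟨⟨⟨⟨⟨⟨⟨⟨⟨⟨⟨⟨⟨⟨⟨⟨⟨⟨⟨⟨⟨⟨⟨⟨⟨⟨⟨⟨hS, hX⟩, hV⟩, hslen⟩, hsnd⟩, hsl⟩, heS⟩, hend⟩, hemul⟩, hesq⟩, henorm⟩, hev3⟩,
    hfus⟩, hXs⟩, hXp⟩, hXnot⟩, hpnd⟩, hplen⟩, hpmul⟩, hSp⟩, hxc⟩, hpcase⟩, hxinv⟩, hzX⟩, hvX⟩, hzvX⟩, hvS⟩, hL4⟩,
    hodd⟩, hconjX⟩, hgen⟩, hS3⟩, hX3⟩ := hc
  have hfc := fix_check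
  simp only [Bool.and_eq_true, List.all_eq_true, List.mem_range, Bool.not_eq_true', List.contains_iff_mem,
    Nat.beq_eq] at hfc
  obtain ⟨⟨⟨⟨⟨⟨hi1, hj1⟩, hij⟩, hk⟩, hie⟩, hje⟩, hS'⟩ := hfc
  have hwc := word_check
  simp only [Bool.and_eq_true, List.all_eq_true, beq_iff_eq, Nat.blt_eq, List.contains_iff_mem] at hwc
  obtain ⟨⟨⟨⟨hwS, hwX⟩, hsmall⟩, hal⟩, halS⟩ := hwc
  have vS : D.val wS = D.psi eS := by
    rw [(D.evw_spec fun c hc => hsmall c (List.mem_append_left _ hc)).1, hwS]
  have hlett : ∀ c ∈ al, lettB aTwo c = true := by decide +kernel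
  set S := D.psi eS with hSdef
  set X := D.psi eX with hXdef
  set T := D.val wT with hTdef
  set S' := D.val wS' with hS'def
  set X' := D.val wX' with hX'def
  set z := D.psi 48 with hzdef
  have slt : ∀ y ∈ sList, y < 1152 := by decide +kernel
  have elt : ∀ y ∈ eList, y < 1152 := fun y h => slt y (heS y h)
  have plt : ∀ y ∈ pList, y < 1152 := fun y h => slt y ((hpmul y h).1)
  have hz48 : (48 : ℕ) < 1152 := by norm_num
  -- traced identities
  have tr : ∀ i < 5, D.val (traced.getD i []) = 1 := fun i hi => D.traced_one hi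
  have cTS : T * S = S * T := by
    have h := tr 0 (by norm_num)
    rw [show traced.getD 0 [] = wT ++ wS ++ wT.reverse ++ wS.reverse from rfl] at h
    simp only [val_append, val_reverse, vS, ← hTdef] at h
    rwa [mul_inv_eq_one, mul_inv_eq_iff_eq_mul] at h
  have hS'3 : S' * S' * S' = 1 := by
    have h := tr 1 (by norm_num)
    rw [show traced.getD 1 [] = wS' ++ wS' ++ wS' from rfl] at h
    simpa only [val_append, ← hS'def] using h
  have cSS' : S * S' = S' * S := by
    have h := tr 2 (by norm_num)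
    rw [show traced.getD 2 [] = wS ++ wS' ++ wS.reverse ++ wS'.reverse from rfl] at h
    simp only [val_append, val_reverse, vS, ← hS'def] at h
    rwa [mul_inv_eq_one, mul_inv_eq_iff_eq_mul] at h
  have hX'S : X' * S * X'⁻¹ = S' := by
    have h := tr 3 (by norm_num)
    rw [show traced.getD 3 [] = wX' ++ wS ++ wX'.reverse ++ wS'.reverse from rfl] at h
    simp only [val_append, val_reverse, vS, ← hS'def, ← hX'def] at h
    rwa [mul_inv_eq_one] at h
  have hX'S' : X' * S' * X'⁻¹ = S⁻¹ := by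
    have h := tr 4 (by norm_num)
    rw [show traced.getD 4 [] = wX' ++ wS' ++ wX'.reverse ++ wS from rfl] at h
    simp only [val_append, val_reverse, vS, ← hS'def, ← hX'def] at h
    rwa [mul_eq_one_iff_eq_inv] at h
  -- the centraliser of the element
  set K := Subgroup.centralizer ({S} : Set G) with hK
  have memK : ∀ c : G, c ∈ K ↔ c * S = S * c := fun c => Subgroup.mem_centralizer_singleton_iff
  have TK : T ∈ K := (memK T).2 cTS
  have sK : ∀ y ∈ sList, D.psi y ∈ K := fun y hy => (memK _).2 <| by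
    refine (Ctx.psi_commB D.toCtx (slt y hy) hS).2 ?_
    rw [hsl y (slt y hy)]
    simpa using hy
  have Kz : ∀ c ∈ K, c * z = z * c → ∃ y ∈ sList, D.psi y = c := by
    intro c hc hcz
    obtain ⟨y, hy, he⟩ := D.psi_surj hcz
    refine ⟨y, ?_, he⟩
    have h1 := (Ctx.psi_commB D.toCtx hy hS).1 (by rw [he]; exact (memK c).1 hc)
    rw [hsl y hy] at h1
    simpa using h1
  have sPow_mem : ∀ y ∈ sPow, y < 1152 ∧ D.psi y ∈ Subgroup.zpowers S := by
    intro y hy
    simp only [sPow, List.mem_cons, List.not_mem_nil, or_false] at hy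
    rcases hy with rfl | rfl | rfl
    · exact ⟨by norm_num, by rw [Ctx.psi_zero D.toCtx]; exact one_mem _⟩
    · exact ⟨hS, Subgroup.mem_zpowers _⟩
    · exact ⟨mul_lt hS hS, by rw [D.psi_mul hS hS]; exact mul_mem (Subgroup.mem_zpowers _) (Subgroup.mem_zpowers _)⟩
  have Ssq : S * (S * S) = 1 := by
    rw [hSdef, ← D.psi_mul hS hS, ← D.psi_mul hS (mul_lt hS hS), hS3, Ctx.psi_zero D.toCtx]
  have zS_mem : ∀ c ∈ Subgroup.zpowers S, ∃ y ∈ sPow, D.psi y = c := by
    intro c hc
    obtain ⟨k, hk⟩ := Subgroup.mem_zpowers_iff.1 hc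
    have h3 : S ^ (3 : ℤ) = 1 := by
      rw [show (3 : ℤ) = ((3 : ℕ) : ℤ) from rfl, zpow_natCast, pow_succ, pow_two, mul_assoc, Ssq]
    rw [← Int.emod_add_ediv_mul k 3, zpow_add, mul_comm (k / 3), zpow_mul, h3, one_zpow, mul_one] at hk
    have : k % 3 = 0 ∨ k % 3 = 1 ∨ k % 3 = 2 := by omega
    rcases this with e | e | e <;> rw [e] at hk
    · exact ⟨0, by simp [sPow], by rw [← hk, zpow_zero, Ctx.psi_zero D.toCtx]⟩
    · exact ⟨eS, by simp [sPow], by rw [← hk, zpow_one]⟩
    · exact ⟨mul eS eS, by simp [sPow], by rw [← hk, D.psi_mul hS hS, zpow_two]⟩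
  have S'K : S' ∈ K := (memK _).2 cSS'.symm
  -- the four group
  have emul : ∀ x ∈ eList, ∀ y ∈ eList, mul x y ∈ eList := hemul
  have einv : ∀ x ∈ eList, inv x ∈ eList := by decide +kernel
  set E := D.listGroup eList elt (by simp [eList]) emul einv with hE
  have hEK : E ≤ K := by
    rintro _ ⟨x, hx, rfl⟩
    exact sK x (heS x hx)
  have hEcard : Nat.card E = 4 := D.card_listGroup _ _ _ _ _ hend
  -- the element permuting the involutions
  set e₁ := ev aTwo (actW aTwo mTwo wT 1) with he₁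
  set e₂ := ev aTwo (actW aTwo mTwo wT (actW aTwo mTwo wT 1)) with he₂
  have hwT : ∀ c ∈ wT, lettB aTwo c = true := fun c hc =>
    hlett c (hal c (List.mem_append_left _ (List.mem_append_left _ hc)))
  have hp1 := D.val_act aTwo mTwo (by simp) hwT 1 (by norm_num)
  have hp2 := D.val_act aTwo mTwo (by simp) hwT _ hp1.1
  have hp3 := D.val_act aTwo mTwo (by simp) hwT _ hp2.1
  have ha1 : ev aTwo 1 = 48 := rfl
  rw [ha1] at hp1
  rw [hk, ha1] at hp3
  have hT1 : T * z * T⁻¹ = D.psi e₁ := hp1.2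
  have hT2 : T * D.psi e₁ * T⁻¹ = D.psi e₂ := hp2.2
  have hT3 : T * D.psi e₂ * T⁻¹ = z := hp3.2
  have eall : ∀ x ∈ eList, x = 0 ∨ x = 48 ∨ x = e₁ ∨ x = e₂ := by decide +kernel
  have hT3z : T * T * T * z = z * (T * T * T) := by
    calc T * T * T * z = T * (T * (T * z * T⁻¹) * T⁻¹) * T⁻¹ * (T * T * T) := by group
      _ = _ := by rw [hT1, hT2, hT3]
  -- involutions of the four group are conjugate to `z`
  have conjE : ∀ x ∈ eList, x ≠ 0 → ∃ k ∈ K, k * z * k⁻¹ = D.psi x ∧ (∀ c ∈ E, k⁻¹ * c * k ∈ E) ∧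
      (k = 1 ∨ k = T ∨ k = T * T) := by
    have hTinv : ∀ c ∈ E, T⁻¹ * c * T ∈ E := by
      rintro _ ⟨x, hx, rfl⟩
      rcases eall x hx with rfl | rfl | rfl | rfl
      · rw [Ctx.psi_zero D.toCtx]; simp
      · exact ⟨e₂, hje, by rw [← hzdef, ← hT3]; group⟩
      · exact ⟨48, by simp [eList], by rw [← hT1, ← hzdef]; group⟩
      · exact ⟨e₁, hie, by rw [← hT2]; group⟩
    intro x hx hx0
    rcases eall x hx with rfl | rfl | rfl | rfl
    · exact absurd rfl hx0
    · exact ⟨1, one_mem _, by rw [one_mul, inv_one, mul_one], fun c hc => by simpa using hc, Or.inl rfl⟩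
    · exact ⟨T, TK, hT1, hTinv, Or.inr (Or.inl rfl)⟩
    · refine ⟨T * T, mul_mem TK TK, ?_, fun c hc => ?_, Or.inr (Or.inr rfl)⟩
      · rw [← hT2, ← hT1]; group
      · rw [show (T * T)⁻¹ * c * (T * T) = T⁻¹ * (T⁻¹ * c * T) * T by group]
        exact hTinv _ (hTinv c hc)
  -- no subgroup of order eight
  have hno8 : ¬ 8 ∣ Nat.card K := by
    intro h8
    obtain ⟨W, hW, hEW⟩ := Sylow.exists_subgroup_card_pow_succ (G := K) (p := 2) (n := 2) (H := E.subgroupOf K)
      (by simpa using h8) (by rw [Nat.card_congr (Subgroup.subgroupOfEquivOfLe hEK).toEquiv, hEcard]; norm_num)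
    have hWle : E.subgroupOf K ≠ W := fun e => by
      rw [← e, Nat.card_congr (Subgroup.subgroupOfEquivOfLe hEK).toEquiv, hEcard] at hW
      norm_num at hW
    obtain ⟨d, hdW, hdE⟩ := Set.exists_of_ssubset (lt_of_le_of_ne hEW hWle : E.subgroupOf K < W)
    have hidx : ((E.subgroupOf K).subgroupOf W).index = 2 := by
      have h := Subgroup.card_mul_index ((E.subgroupOf K).subgroupOf W)
      rw [Nat.card_congr (Subgroup.subgroupOfEquivOfLe hEW).toEquiv,
        Nat.card_congr (Subgroup.subgroupOfEquivOfLe hEK).toEquiv, hEcard, hW] at h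
      omega
    haveI := Subgroup.normal_of_index_eq_two hidx
    have hnorm : ∀ c ∈ E, (d : G) * c * (d : G)⁻¹ ∈ E := by
      intro c hc
      have := Subgroup.Normal.conj_mem (inferInstance : ((E.subgroupOf K).subgroupOf W).Normal)
        ⟨⟨c, hEK hc⟩, hEW (Subgroup.mem_subgroupOf.2 hc)⟩ (by simpa [Subgroup.mem_subgroupOf] using hc) ⟨d, hdW⟩
      simpa [Subgroup.mem_subgroupOf] using this
    have hsq : (d : G) * d ∈ E := by
      have := Subgroup.mul_self_mem_of_index_two hidx (⟨d, hdW⟩ : W)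
      simpa [Subgroup.mem_subgroupOf] using this
    -- some involution is fixed
    obtain ⟨x, hx, hx0, hxfix⟩ : ∃ x ∈ eList, x ≠ 0 ∧ (d : G) * D.psi x * (d : G)⁻¹ = D.psi x := by
      have himg : ∀ x ∈ eList, x ≠ 0 → ∃ y ∈ eList, y ≠ 0 ∧ (d : G) * D.psi x * (d : G)⁻¹ = D.psi y := by
        intro x hx hx0
        obtain ⟨y, hy, hye⟩ := hnorm _ (⟨x, hx, rfl⟩ : D.psi x ∈ E)
        refine ⟨y, hy, fun e => hx0 ?_, hye.symm⟩
        rw [e, Ctx.psi_zero D.toCtx] at hye
        have := mul_inv_eq_one.1 hye.symm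
        rw [mul_eq_left] at this
        exact D.psi_inj (elt x hx) (by norm_num) (this.trans (Ctx.psi_zero D.toCtx).symm)
      have hinvol : ∀ x ∈ eList, ∀ y ∈ eList, (d : G) * D.psi x * (d : G)⁻¹ = D.psi y →
          (d : G) * D.psi y * (d : G)⁻¹ = D.psi x := by
        intro x hx y _ e
        rw [← e]
        obtain ⟨w, hw, hwe⟩ := hsq
        have hcom : D.psi w * D.psi x = D.psi x * D.psi w := by
          have hall : ∀ w ∈ eList, ∀ x ∈ eList, mul w x = mul x w := by decide +kernel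
          rw [← D.psi_mul (elt w hw) (elt x hx), hall w hw x hx, D.psi_mul (elt x hx) (elt w hw)]
        rw [show (d : G) * ((d : G) * D.psi x * (d : G)⁻¹) * (d : G)⁻¹ = (d : G) * d * D.psi x * ((d : G) * d)⁻¹ by group,
          ← hwe, hcom, mul_inv_cancel_right]
      have dinj : ∀ a b : G, (d : G) * a * (d : G)⁻¹ = (d : G) * b * (d : G)⁻¹ → a = b := fun a b h =>
        mul_left_cancel (mul_right_cancel h)
      have h48 : 48 ∈ eList := by simp [eList]
      have hne : e₁ ≠ 0 ∧ e₂ ≠ 0 ∧ e₁ ≠ 48 ∧ e₂ ≠ 48 ∧ e₁ ≠ e₂ := by decide +kernel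
      obtain ⟨y, hy, hy0, hye⟩ := himg 48 h48 (by norm_num)
      rcases eall y hy with rfl | rfl | rfl | rfl
      · exact absurd rfl hy0
      · exact ⟨48, h48, by norm_num, hye⟩
      · -- the third one is fixed
        obtain ⟨w, hw, hw0, hwe⟩ := himg e₂ hje hne.2.1
        rcases eall w hw with rfl | rfl | rfl | rfl
        · exact absurd rfl hw0
        · exact absurd (D.psi_inj (elt _ hje) (elt _ hie) (dinj _ _ (hwe.trans (hinvol 48 h48 _ hie hye).symm)))
            hne.2.2.2.2.symm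
        · exact absurd (D.psi_inj (elt _ hje) hz48 (dinj _ _ (hwe.trans hye.symm))) hne.2.2.2.1
        · exact ⟨e₂, hje, hne.2.1, hwe⟩
      · obtain ⟨w, hw, hw0, hwe⟩ := himg e₁ hie hne.1
        rcases eall w hw with rfl | rfl | rfl | rfl
        · exact absurd rfl hw0
        · exact absurd (D.psi_inj (elt _ hie) (elt _ hje) (dinj _ _ (hwe.trans (hinvol 48 h48 _ hje hye).symm)))
            hne.2.2.2.2
        · exact ⟨e₁, hie, hne.1, hwe⟩
        · exact absurd (D.psi_inj (elt _ hie) hz48 (dinj _ _ (hwe.trans hye.symm))) hne.2.2.1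
    obtain ⟨k, hkK, hkx, hkE, -⟩ := conjE x hx hx0
    have hkE' : ∀ c ∈ E, k * c * k⁻¹ ∈ E := by
      intro c hc
      have hi : Function.Injective fun e : E => (⟨k⁻¹ * e * k, hkE e e.2⟩ : E) := fun a b h =>
        Subtype.ext (mul_left_cancel (mul_right_cancel (congrArg Subtype.val h)))
      obtain ⟨e, he⟩ := (Finite.surjective_of_injective hi) ⟨c, hc⟩
      have he' : k⁻¹ * (e : G) * k = c := congrArg Subtype.val he
      rw [← he', show k * (k⁻¹ * (e : G) * k) * k⁻¹ = (e : G) by group]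
      exact e.2
    set d' := k⁻¹ * (d : G) * k with hd'
    have hd'K : d' ∈ K := mul_mem (mul_mem (inv_mem hkK) d.2) hkK
    have hd'z : d' * z = z * d' := by
      calc d' * z = k⁻¹ * ((d : G) * (k * z * k⁻¹) * (d : G)⁻¹) * (d : G) * k := by rw [hd']; group
        _ = k⁻¹ * (k * z * k⁻¹) * (d : G) * k := by rw [hkx, hxfix]
        _ = _ := by rw [hd']; group
    obtain ⟨y, hy, hye⟩ := Kz d' hd'K hd'z
    have hyE : y ∈ eList := by
      refine (henorm y hy).resolve_left ?_
      have memE : ∀ n < 1152, D.psi n ∈ E → n ∈ eList := fun n hn ⟨w, hw, hwe⟩ => D.psi_inj (elt w hw) hn hwe ▸ hw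
      have h1 : ∀ a ∈ eList, cj y a ∈ eList := by
        intro a ha
        refine memE _ (cj_lt (slt y hy) (elt a ha)) ?_
        rw [Ctx.psi_cj D.toCtx (slt y hy) (elt a ha), hye, hd']
        have h2 := hkE _ (hnorm _ (hkE' _ (⟨a, ha, rfl⟩ : D.psi a ∈ E)))
        rwa [show k⁻¹ * (d : G) * k * D.psi a * (k⁻¹ * (d : G) * k)⁻¹ =
          k⁻¹ * ((d : G) * (k * D.psi a * k⁻¹) * (d : G)⁻¹) * k by group]
      have h2 : mul y y ∈ eList := by
        refine memE _ (mul_lt (slt y hy) (slt y hy)) ?_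
        rw [D.psi_mul (slt y hy) (slt y hy), hye, hd']
        have := hkE _ hsq
        rwa [show k⁻¹ * (d : G) * k * (k⁻¹ * (d : G) * k) = k⁻¹ * ((d : G) * d) * k by group]
      rw [Bool.not_eq_false, Bool.and_eq_true, List.all_eq_true]
      exact ⟨fun a ha => List.contains_iff_mem.2 (h1 a ha), List.contains_iff_mem.2 h2⟩
    apply hdE
    show (d : G) ∈ E
    have hdk : (d : G) = k * D.psi y * k⁻¹ := by rw [hye, hd']; group
    rw [hdk]
    exact hkE' _ ⟨y, hyE, rfl⟩
  have h4 : 4 ∣ Nat.card K := by rw [← hEcard]; exact Subgroup.card_dvd_of_le hEK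
  have hf2 : (Nat.card K).factorization 2 = 2 := by
    have h1 : 2 ≤ (Nat.card K).factorization 2 :=
      (Nat.prime_two.pow_dvd_iff_le_factorization Nat.card_pos.ne').1 (by simpa using h4)
    have h2 : ¬ 3 ≤ (Nat.card K).factorization 2 := fun h =>
      hno8 (by simpa using (Nat.prime_two.pow_dvd_iff_le_factorization Nat.card_pos.ne').2 h)
    omega
  let SE : Sylow 2 K := Sylow.ofCard (E.subgroupOf K) (by
    rw [Nat.card_congr (Subgroup.subgroupOfEquivOfLe hEK).toEquiv, hEcard, hf2]; norm_num)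
  have conj4 : ∀ F : Subgroup G, F ≤ K → Nat.card F = 4 → ∃ k ∈ K, ∀ c ∈ E, k * c * k⁻¹ ∈ F := by
    intro F hFK hF
    let SF : Sylow 2 K := Sylow.ofCard (F.subgroupOf K) (by
      rw [Nat.card_congr (Subgroup.subgroupOfEquivOfLe hFK).toEquiv, hF, hf2]; norm_num)
    obtain ⟨k, hk'⟩ := MulAction.exists_smul_eq K SE SF
    refine ⟨k, k.2, fun c hc => ?_⟩
    have hm : k * (⟨c, hEK hc⟩ : K) * k⁻¹ ∈ (SF : Subgroup K) := by
      rw [← hk', Sylow.coe_subgroup_smul]
      exact ⟨⟨c, hEK hc⟩, by show (⟨c, hEK hc⟩ : K) ∈ E.subgroupOf K; exact Subgroup.mem_subgroupOf.2 hc, rfl⟩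
    exact Subgroup.mem_subgroupOf.1 hm
  -- an element commuting with `z` and `S'` inside `K`
  have S'ne : S' ∉ Subgroup.zpowers S := by
    intro hmem
    obtain ⟨y, hy, hye⟩ := zS_mem S' hmem
    have hw : ∀ c ∈ wS', lettB aTwo c = true := fun c hc =>
      hlett c (hal c (List.mem_append_left _ (List.mem_append_right _ hc)))
    obtain ⟨n, hn, hne⟩ : ∃ n < 3, D.val ((List.replicate n wS).flatten) = S' := by
      simp only [sPow, List.mem_cons, List.not_mem_nil, or_false] at hy
      rcases hy with rfl | rfl | rfl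
      · exact ⟨0, by norm_num, by rw [← hye]; exact (Ctx.psi_zero D.toCtx).symm⟩
      · exact ⟨1, by norm_num, by simp [← hye, vS, hSdef]⟩
      · refine ⟨2, by norm_num, ?_⟩
        simp only [List.replicate_succ, List.replicate_zero, List.flatten_cons, List.flatten_nil, List.append_nil,
          val_append, vS]
        rw [← hye, D.psi_mul hS hS]
    have hw2 : ∀ c ∈ (List.replicate n wS).flatten, lettB aTwo c = true := by
      intro c hc
      simp only [List.mem_flatten, List.mem_replicate] at hc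
      obtain ⟨l, ⟨-, rfl⟩, hcl⟩ := hc
      exact hlett c (halS c hcl)
    have h := hS' n hn
    simp only [← Bool.not_eq_true, List.all_eq_true, List.mem_range, Nat.beq_eq] at h
    refine h fun m hm => ?_
    obtain ⟨a1, a2⟩ := D.val_act aTwo mTwo (by simp) hw m hm
    obtain ⟨b1, b2⟩ := D.val_act aTwo mTwo (by simp) hw2 m hm
    rw [hne] at b2
    rw [b2] at a2
    have hlt : ∀ m : Fin 16, ev aTwo m < 1152 ∧ aTwo.idxOf (ev aTwo m) = (m : ℕ) := by decide +kernel
    have e := D.psi_inj (hlt ⟨_, b1⟩).1 (hlt ⟨_, a1⟩).1 a2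
    have e' := congrArg aTwo.idxOf e
    rw [(hlt ⟨_, b1⟩).2, (hlt ⟨_, a1⟩).2] at e'
    exact e'.symm
  -- the Sylow subgroup at three
  have pinv : ∀ x ∈ pList, inv x ∈ pList := by decide +kernel
  have pmul : ∀ x ∈ pList, ∀ y ∈ pList, mul x y ∈ pList := fun x hx y hy => (hpmul x hx).2 y hy
  set P := D.listGroup pList plt (by decide +kernel) pmul pinv with hP
  have hPK : P ≤ K := by
    rintro _ ⟨x, hx, rfl⟩
    exact sK x (hpmul x hx).1
  have hPcard : Nat.card P = 9 := by rw [hP, D.card_listGroup _ _ _ _ _ hpnd, hplen]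
  have h27 : 27 ∣ Nat.card K := by
    by_contra h27
    have h9 : 9 ∣ Nat.card K := by rw [← hPcard]; exact Subgroup.card_dvd_of_le hPK
    have hf3 : (Nat.card K).factorization 3 = 2 := by
      have h1 : 2 ≤ (Nat.card K).factorization 3 :=
        (Nat.prime_three.pow_dvd_iff_le_factorization Nat.card_pos.ne').1 (by simpa using h9)
      have h2 : ¬ 3 ≤ (Nat.card K).factorization 3 := fun h =>
        h27 (by simpa using (Nat.prime_three.pow_dvd_iff_le_factorization Nat.card_pos.ne').2 h)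
      omega
    let SP : Sylow 3 K := Sylow.ofCard (P.subgroupOf K) (by
      rw [Nat.card_congr (Subgroup.subgroupOfEquivOfLe hPK).toEquiv, hPcard, hf3]; norm_num)
    have hg3 : IsPGroup 3 (Subgroup.zpowers (⟨S', S'K⟩ : K)) := by
      refine IsPGroup.of_card (n := 1) ?_
      rw [Nat.card_zpowers, pow_one]
      refine orderOf_eq_prime (Subtype.ext ?_) fun h => S'ne ?_
      · show S' ^ 3 = 1
        rw [pow_succ, pow_two, hS'3]
      · have : S' = 1 := congrArg Subtype.val h
        rw [this]; exact one_mem _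
    obtain ⟨SQ, hSQ⟩ := hg3.exists_le_sylow
    obtain ⟨k, hk'⟩ := MulAction.exists_smul_eq K SP SQ
    have hin : (⟨S', S'K⟩ : K) ∈ (SQ : Subgroup K) := hSQ (Subgroup.mem_zpowers _)
    rw [← hk', Sylow.coe_subgroup_smul] at hin
    obtain ⟨p, hp, hpe⟩ := hin
    obtain ⟨yp, hyp, hype⟩ := (Subgroup.mem_subgroupOf.1 hp : (p : G) ∈ P)
    have hS'k : S' = (k : G) * D.psi yp * (k : G)⁻¹ := by
      rw [hype]
      exact (congrArg Subtype.val hpe).symm
    set v := (k : G) * z * (k : G)⁻¹ with hv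
    have hvS' : v * S' = S' * v := by
      have hcom : z * D.psi yp = D.psi yp * z := (D.psi_comm yp).symm
      rw [hv, hS'k]
      calc (k : G) * z * (k : G)⁻¹ * ((k : G) * D.psi yp * (k : G)⁻¹) = (k : G) * (z * D.psi yp) * (k : G)⁻¹ := by group
        _ = _ := by rw [hcom]; group
    have hvK : v ∈ K := mul_mem (mul_mem k.2 (sK 48 (heS 48 (by simp [eList])))) (inv_mem k.2)
    -- both lie in the centraliser of the two elements
    set Cc := K ⊓ Subgroup.centralizer ({S'} : Set G) with hCc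
    have memC : ∀ c : G, c ∈ Cc ↔ c * S = S * c ∧ c * S' = S' * c := fun c => by
      rw [hCc, Subgroup.mem_inf, memK, Subgroup.mem_centralizer_singleton_iff]
    have hvC : v ∈ Cc := (memC v).2 ⟨(memK v).1 hvK, hvS'⟩
    have hX'conj : ∀ {c : G}, c * S = S * c → c * S' = S' * c →
        X' * c * X'⁻¹ * S = S * (X' * c * X'⁻¹) ∧ X' * c * X'⁻¹ * S' = S' * (X' * c * X'⁻¹) := by
      intro c h1 h2
      have hS'' : S = X' * S'⁻¹ * X'⁻¹ := by rw [← inv_inv S, ← hX'S']; group
      refine ⟨?_, ?_⟩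
      · have h2' : c * S'⁻¹ = S'⁻¹ * c := (Commute.inv_right h2).eq
        rw [hS'']
        calc X' * c * X'⁻¹ * (X' * S'⁻¹ * X'⁻¹) = X' * (c * S'⁻¹) * X'⁻¹ := by group
          _ = _ := by rw [h2']; group
      · rw [← hX'S]
        calc X' * c * X'⁻¹ * (X' * S * X'⁻¹) = X' * (c * S) * X'⁻¹ := by group
          _ = _ := by rw [h1]; group
    obtain ⟨c1, c2⟩ := hX'conj ((memK v).1 hvK) hvS'
    have hv'C : X' * v * X'⁻¹ ∈ Cc := (memC _).2 ⟨c1, c2⟩
    have no4 : ¬ 4 ∣ Nat.card Cc := by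
      intro h4'
      obtain ⟨F, hF⟩ := Sylow.exists_subgroup_card_pow_prime (G := Cc) 2 (n := 2) (by simpa using h4')
      have hFc : Nat.card (F.map Cc.subtype) = 4 := by
        rw [Subgroup.card_map_of_injective (Subgroup.subtype_injective _), hF]; norm_num
      have hFK : F.map Cc.subtype ≤ K := (Subgroup.map_subtype_le F).trans inf_le_left
      obtain ⟨c, hcK, hc⟩ := conj4 _ hFK hFc
      have hh : ∀ x ∈ eList, c * D.psi x * c⁻¹ * S' = S' * (c * D.psi x * c⁻¹) := fun x hx =>
        ((memC _).1 (Subgroup.map_subtype_le F (hc _ ⟨x, hx, rfl⟩))).2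
      have hσK : c⁻¹ * S' * c ∈ K := mul_mem (mul_mem (inv_mem hcK) S'K) hcK
      have hσcomm : ∀ x ∈ eList, (c⁻¹ * S' * c) * D.psi x = D.psi x * (c⁻¹ * S' * c) := by
        intro x hx
        calc c⁻¹ * S' * c * D.psi x = c⁻¹ * (S' * (c * D.psi x * c⁻¹)) * c := by group
          _ = _ := by rw [← hh x hx]; group
      obtain ⟨y, hy, hye⟩ := Kz _ hσK (hσcomm 48 (by simp [eList]))
      have hylt := slt y hy
      have hy3 : mul y (mul y y) = 0 := by
        refine D.psi_inj (mul_lt hylt (mul_lt hylt hylt)) (by norm_num) ?_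
        rw [D.psi_mul hylt (mul_lt hylt hylt), D.psi_mul hylt hylt, hye, Ctx.psi_zero D.toCtx,
          show c⁻¹ * S' * c * (c⁻¹ * S' * c * (c⁻¹ * S' * c)) = c⁻¹ * (S' * S' * S') * c by group, hS'3]
        group
      have hyv : commB y eV = true := (Ctx.psi_commB D.toCtx hylt hV).1 (by rw [hye]; exact hσcomm eV (by simp [eList]))
      have hyS : y ∈ sPow := (hev3 y hy).resolve_left (by simp [hy3, hyv])
      have hmem := (sPow_mem y hyS).2
      rw [hye] at hmem
      obtain ⟨n, hn⟩ := Subgroup.mem_zpowers_iff.1 hmem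
      refine S'ne (Subgroup.mem_zpowers_iff.2 ⟨n, ?_⟩)
      have hcS : c * S * c⁻¹ = S := mul_inv_eq_of_eq_mul ((memK c).1 hcK)
      calc S ^ n = (c * S * c⁻¹) ^ n := by rw [hcS]
        _ = c * S ^ n * c⁻¹ := conj_zpow
        _ = S' := by rw [hn]; group
    -- the two involutions are conjugate there
    have hv2 : v * v = 1 := by
      rw [hv, show (k : G) * z * (k : G)⁻¹ * ((k : G) * z * (k : G)⁻¹) = (k : G) * (z * z) * (k : G)⁻¹ by group, hzdef,
        ← D.psi_mul hz48 hz48, show mul 48 48 = 0 by decide +kernel, Ctx.psi_zero D.toCtx]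
      group
    have hz1 : z ≠ 1 := fun e => by
      have := D.psi_inj hz48 (by norm_num : (0 : ℕ) < 1152) (e.trans (Ctx.psi_zero D.toCtx).symm)
      norm_num at this
    have hvne : v ≠ 1 := fun e => hz1 (by
      rw [show z = (k : G)⁻¹ * v * k by rw [hv]; group, e]; group)
    let w₁ : Cc := ⟨v, hvC⟩
    let w₂ : Cc := ⟨X' * v * X'⁻¹, hv'C⟩
    have ho1 : orderOf w₁ = 2 := orderOf_eq_prime (Subtype.ext (by show v ^ 2 = 1; rw [pow_two, hv2]))
      fun e => hvne (congrArg Subtype.val e)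
    have ho2 : orderOf w₂ = 2 := by
      rw [← Subgroup.orderOf_coe w₂, show ((w₂ : Cc) : G) = MulAut.conj X' v from rfl, MulEquiv.orderOf_eq,
        show v = ((w₁ : Cc) : G) from rfl, Subgroup.orderOf_coe, ho1]
    have hfC : (Nat.card Cc).factorization 2 = 1 := by
      have h1 : 1 ≤ (Nat.card Cc).factorization 2 :=
        (Nat.prime_two.pow_dvd_iff_le_factorization Nat.card_pos.ne').1 (by rw [pow_one, ← ho1]; exact orderOf_dvd_natCard _)
      have h2 : ¬ 2 ≤ (Nat.card Cc).factorization 2 := fun h =>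
        no4 (by simpa using (Nat.prime_two.pow_dvd_iff_le_factorization Nat.card_pos.ne').2 h)
      omega
    let S1 : Sylow 2 Cc := Sylow.ofCard (Subgroup.zpowers w₁) (by rw [Nat.card_zpowers, ho1, hfC]; rfl)
    let S2 : Sylow 2 Cc := Sylow.ofCard (Subgroup.zpowers w₂) (by rw [Nat.card_zpowers, ho2, hfC]; rfl)
    obtain ⟨c, hc⟩ := MulAction.exists_smul_eq Cc S1 S2
    have hcv : c * w₁ * c⁻¹ = w₂ := by
      have hm : c * w₁ * c⁻¹ ∈ (S2 : Subgroup Cc) := by
        rw [← hc, Sylow.coe_subgroup_smul]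
        exact ⟨w₁, by show w₁ ∈ Subgroup.zpowers w₁; exact Subgroup.mem_zpowers _, rfl⟩
      obtain ⟨n, hn⟩ := Subgroup.mem_zpowers_iff.1 (by exact hm : c * w₁ * c⁻¹ ∈ Subgroup.zpowers w₂)
      rw [← zpow_mod_orderOf, ho2] at hn
      have : n % 2 = 0 ∨ n % 2 = 1 := by omega
      rcases this with e | e
      · rw [show ((2 : ℕ) : ℤ) = 2 from rfl, e, zpow_zero] at hn
        have := congrArg Subtype.val (mul_inv_eq_one.1 hn.symm)
        have hh1 : ((c : Cc) : G) * v = ((c : Cc) : G) := this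
        exact absurd (by simpa using hh1) hvne
      · rw [show ((2 : ℕ) : ℤ) = 2 from rfl, e, zpow_one] at hn
        exact hn.symm
    have hcvG : (c : G) * v * (c : G)⁻¹ = X' * v * X'⁻¹ := congrArg Subtype.val hcv
    obtain ⟨cS, cS'⟩ := (memC _).1 c.2
    set m0 := (c : G)⁻¹ * X' with hm0
    have hm0v : m0 * v * m0⁻¹ = v := by
      rw [hm0, show (c : G)⁻¹ * X' * v * ((c : G)⁻¹ * X')⁻¹ = (c : G)⁻¹ * (X' * v * X'⁻¹) * c by group, ← hcvG]
      group
    have hm0S : m0 * S * m0⁻¹ = S' := by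
      rw [hm0, show (c : G)⁻¹ * X' * S * ((c : G)⁻¹ * X')⁻¹ = (c : G)⁻¹ * (X' * S * X'⁻¹) * c by group, hX'S,
        mul_assoc, ← cS', inv_mul_cancel_left]
    set y := (k : G)⁻¹ * m0 * k with hy
    have hyz : y * z = z * y := by
      have : z = (k : G)⁻¹ * v * k := by rw [hv]; group
      rw [this]
      calc y * ((k : G)⁻¹ * v * k) = (k : G)⁻¹ * (m0 * v * m0⁻¹) * m0 * k := by rw [hy]; group
        _ = _ := by rw [hm0v, hy]; group
    obtain ⟨yi, hyi, hyie⟩ := D.psi_surj hyz
    have hkS : (k : G) * S * (k : G)⁻¹ = S := mul_inv_eq_of_eq_mul ((memK _).1 k.2)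
    have hσ : D.psi (cj yi eS) = (k : G)⁻¹ * S' * k := by
      rw [Ctx.psi_cj D.toCtx hyi hS, hyie, hy, ← hSdef]
      calc (k : G)⁻¹ * m0 * k * S * ((k : G)⁻¹ * m0 * k)⁻¹ = (k : G)⁻¹ * (m0 * ((k : G) * S * (k : G)⁻¹) * m0⁻¹) * k := by group
        _ = _ := by rw [hkS, hm0S]
    have hcomm : commB (cj yi eS) eS = true := by
      refine (Ctx.psi_commB D.toCtx (cj_lt hyi hS) hS).1 ?_
      rw [hσ]
      exact (memK _).1 (mul_mem (mul_mem (inv_mem k.2) S'K) k.2)
    have hmem := (sPow_mem _ ((hfus yi hyi).resolve_left (by simp [hcomm]))).2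
    rw [hσ] at hmem
    obtain ⟨n, hn⟩ := Subgroup.mem_zpowers_iff.1 hmem
    refine S'ne (Subgroup.mem_zpowers_iff.2 ⟨n, ?_⟩)
    calc S ^ n = ((k : G) * S * (k : G)⁻¹) ^ n := by rw [hkS]
      _ = (k : G) * S ^ n * (k : G)⁻¹ := conj_zpow
      _ = S' := by rw [hn]; group
  -- the stabiliser of the coset
  have xlt : ∀ a ∈ xCoset, a < 1152 := fun a ha => plt a (hxc a ha)
  have xS : ∀ a ∈ xCoset, ∀ b ∈ sPow, mul a b ∈ xCoset := by decide +kernel
  have xdec : ∀ a ∈ xCoset, ∃ b ∈ sPow, a = mul eX b := by decide +kernel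
  let L : Subgroup G :=
    { carrier := {c | c * S = S * c ∧ ∃ a ∈ xCoset, c * X * c⁻¹ = D.psi a}
      one_mem' := ⟨by simp, eX, by simp [xCoset], by simp [hXdef]⟩
      mul_mem' := by
        rintro p q ⟨hp, a, ha, hpa⟩ ⟨hq, b, hb, hqb⟩
        refine ⟨(Commute.mul_left hp hq).eq, ?_⟩
        obtain ⟨j, hj, rfl⟩ := xdec b hb
        refine ⟨mul a j, xS a ha j hj, ?_⟩
        obtain ⟨hjlt, hjS⟩ := sPow_mem j hj
        have hpj : p * D.psi j * p⁻¹ = D.psi j := by
          obtain ⟨n, hn⟩ := Subgroup.mem_zpowers_iff.1 hjS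
          rw [← hn]
          exact mul_inv_eq_of_eq_mul (Commute.zpow_right hp n).eq
        rw [D.psi_mul (xlt a ha) hjlt, ← hpa, ← hpj]
        calc p * q * X * (p * q)⁻¹ = p * (q * X * q⁻¹) * p⁻¹ := by group
          _ = _ := by rw [hqb, D.psi_mul hX hjlt, ← hXdef]; group
      inv_mem' := by
        rintro p ⟨hp, hpa⟩
        have hpow : ∀ n : ℕ, p ^ n * S = S * p ^ n ∧ ∃ a ∈ xCoset, p ^ n * X * (p ^ n)⁻¹ = D.psi a := by
          intro n
          induction n with
          | zero => exact ⟨by simp, eX, by simp [xCoset], by simp [hXdef]⟩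
          | succ n ih =>
            obtain ⟨hn, b, hb, hnb⟩ := ih
            refine ⟨(Commute.pow_left hp (n + 1)).eq, ?_⟩
            obtain ⟨a, ha, hpa'⟩ := hpa
            obtain ⟨j, hj, rfl⟩ := xdec b hb
            obtain ⟨hjlt, hjS⟩ := sPow_mem j hj
            refine ⟨mul a j, xS a ha j hj, ?_⟩
            have hpj : p * D.psi j * p⁻¹ = D.psi j := by
              obtain ⟨i, hi⟩ := Subgroup.mem_zpowers_iff.1 hjS
              rw [← hi]
              exact mul_inv_eq_of_eq_mul (Commute.zpow_right hp i).eq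
            rw [D.psi_mul (xlt a ha) hjlt, ← hpa', ← hpj, pow_succ']
            calc p * p ^ n * X * (p * p ^ n)⁻¹ = p * (p ^ n * X * (p ^ n)⁻¹) * p⁻¹ := by group
              _ = _ := by rw [hnb, D.psi_mul hX hjlt, ← hXdef]; group
        obtain ⟨h1, h2⟩ := hpow (orderOf p - 1)
        have e : p ^ (orderOf p - 1) = p⁻¹ := by
          refine eq_inv_of_mul_eq_one_left ?_
          rw [← pow_succ, Nat.sub_add_cancel (orderOf_pos p), pow_orderOf_eq_one]
        rw [e] at h1 h2
        exact ⟨h1, h2⟩ }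
  have memL : ∀ c : G, c ∈ L ↔ c * S = S * c ∧ ∃ a ∈ xCoset, c * X * c⁻¹ = D.psi a := fun c => Iff.rfl
  have hLK : L ≤ K := fun c hc => (memK c).2 hc.1
  have hxe : eX ∈ xCoset := by simp [xCoset]
  have hzL : z ∈ L := (memL z).2 ⟨(memK z).1 (sK 48 (heS 48 (by simp [eList]))), eX, hxe, by
    rw [hzdef, hXdef, ← Ctx.psi_cj D.toCtx hz48 hX, hzX]⟩
  have hXK : X ∈ K := sK eX hXs
  have hSL : S ∈ L := (memL S).2 ⟨rfl, eX, hxe, by rw [← hXdef, ← (memK X).1 hXK, mul_inv_cancel_right]⟩
  have hXL : X ∈ L := (memL X).2 ⟨(memK X).1 hXK, eX, hxe, by rw [← hXdef]; group⟩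
  -- order
  have hL27 : 27 ∣ Nat.card L := by
    obtain ⟨W, hW, hPW⟩ := Sylow.exists_subgroup_card_pow_succ (G := K) (p := 3) (n := 2) (H := P.subgroupOf K)
      (by simpa using h27) (by rw [Nat.card_congr (Subgroup.subgroupOfEquivOfLe hPK).toEquiv, hPcard]; norm_num)
    have hidx : ((P.subgroupOf K).subgroupOf W).index = 3 := by
      have h := Subgroup.card_mul_index ((P.subgroupOf K).subgroupOf W)
      rw [Nat.card_congr (Subgroup.subgroupOfEquivOfLe hPW).toEquiv,
        Nat.card_congr (Subgroup.subgroupOfEquivOfLe hPK).toEquiv, hPcard, hW] at h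
      omega
    haveI := Subgroup.normal_of_index_eq_minFac_card (H := (P.subgroupOf K).subgroupOf W)
      (by rw [hidx, hW, Nat.Prime.pow_minFac Nat.prime_three (by norm_num)])
    have hle : W.map K.subtype ≤ L := by
      rintro _ ⟨d, hdW, rfl⟩
      refine (memL _).2 ⟨(memK _).1 d.2, ?_⟩
      have hX' : (⟨X, hXK⟩ : K) ∈ P.subgroupOf K := ⟨eX, hXp, rfl⟩
      have := Subgroup.Normal.conj_mem (inferInstance : ((P.subgroupOf K).subgroupOf W).Normal)
        ⟨⟨X, hXK⟩, hPW hX'⟩ (by simpa [Subgroup.mem_subgroupOf] using (hX' : (⟨X, hXK⟩ : K) ∈ P.subgroupOf K)) ⟨d, hdW⟩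
      have hPd : (d : G) * X * (d : G)⁻¹ ∈ P := by simpa [Subgroup.mem_subgroupOf] using this
      obtain ⟨q, hq, hqe⟩ := hPd
      rcases hpcase q hq with (h | h) | h
      · exfalso
        have hmem := (sPow_mem q h).2
        rw [hqe] at hmem
        obtain ⟨n, hn⟩ := Subgroup.mem_zpowers_iff.1 hmem
        have hXmem : X ∈ Subgroup.zpowers S := Subgroup.mem_zpowers_iff.2 ⟨n, by
          have hdS : (d : G)⁻¹ * S * ((d : G)⁻¹)⁻¹ = S := mul_inv_eq_of_eq_mul (Commute.inv_left ((memK _).1 d.2)).eq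
          calc S ^ n = ((d : G)⁻¹ * S * ((d : G)⁻¹)⁻¹) ^ n := by rw [hdS]
            _ = (d : G)⁻¹ * S ^ n * ((d : G)⁻¹)⁻¹ := conj_zpow
            _ = X := by rw [hn]; group⟩
        obtain ⟨y, hy, hye⟩ := zS_mem X hXmem
        rw [D.psi_inj (sPow_mem y hy).1 hX hye] at hy
        rw [← Bool.not_eq_true, List.contains_iff_mem] at hXnot
        exact hXnot hy
      · exact ⟨q, h, hqe.symm⟩
      · exfalso
        -- iterating gives a contradiction with the odd order
        have hqlt := plt q hq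
        obtain ⟨j, hj, hje⟩ := xdec _ h
        obtain ⟨hjlt, hjS⟩ := sPow_mem j hj
        have hinvq : (d : G) * X * (d : G)⁻¹ = (X * D.psi j)⁻¹ := by
          rw [hXdef, ← D.psi_mul hX hjlt, ← hje, Ctx.psi_inv D.toCtx hqlt, inv_inv]
          exact hqe.symm
        have hstep : ∀ n : ℕ, ∃ s ∈ Subgroup.zpowers S,
            (d : G) ^ n * X * ((d : G) ^ n)⁻¹ = (if Even n then X else X⁻¹) * s := by
          intro n
          induction n with
          | zero => exact ⟨1, one_mem _, by simp⟩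
          | succ n ih =>
            obtain ⟨s, hs, hse⟩ := ih
            have hds : (d : G) * s * (d : G)⁻¹ = s := by
              obtain ⟨i, hi⟩ := Subgroup.mem_zpowers_iff.1 hs
              rw [← hi]
              exact mul_inv_eq_of_eq_mul (Commute.zpow_right ((memK _).1 d.2) i).eq
            have hcomm : X * D.psi j = D.psi j * X := by
              obtain ⟨i, hi⟩ := Subgroup.mem_zpowers_iff.1 hjS
              rw [← hi]
              exact (Commute.zpow_right ((memK X).1 hXK) i).eq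
            have h1 : (d : G) ^ (n + 1) * X * ((d : G) ^ (n + 1))⁻¹ =
                (d : G) * (if Even n then X else X⁻¹) * (d : G)⁻¹ * s := by
              calc (d : G) ^ (n + 1) * X * ((d : G) ^ (n + 1))⁻¹
                  = (d : G) * ((d : G) ^ n * X * ((d : G) ^ n)⁻¹) * (d : G)⁻¹ := by rw [pow_succ']; group
                _ = (d : G) * (if Even n then X else X⁻¹) * (d : G)⁻¹ * ((d : G) * s * (d : G)⁻¹) := by rw [hse]; group
                _ = _ := by rw [hds]
            by_cases he : Even n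
            · refine ⟨(D.psi j)⁻¹ * s, mul_mem (inv_mem hjS) hs, ?_⟩
              rw [h1, if_pos he, if_neg (by simp [Nat.even_add_one, he]), hinvq, hcomm, mul_inv_rev, mul_assoc]
            · refine ⟨D.psi j * s, mul_mem hjS hs, ?_⟩
              rw [h1, if_neg he, if_pos (by simp [Nat.even_add_one, he]), ← conj_inv, hinvq, inv_inv, mul_assoc]
        obtain ⟨s, hs, hse⟩ := hstep (orderOf d)
        have hodd : ¬ Even (orderOf d) := by
          have h3 : orderOf d ∣ Nat.card W := by
            have := orderOf_dvd_natCard (⟨d, hdW⟩ : W)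
            rwa [← Subgroup.orderOf_coe] at this
          rw [hW] at h3
          intro he
          have := (even_iff_two_dvd.1 he).trans h3
          norm_num at this
        rw [if_neg hodd, show (d : G) ^ orderOf d = 1 by
          rw [← Subgroup.orderOf_coe d]; exact pow_orderOf_eq_one _] at hse
        have hX2 : X * X ∈ Subgroup.zpowers S := by
          have hse' : X = X⁻¹ * s := by simpa using hse
          have : X * X = s := by nth_rw 2 [hse']; group
          rwa [this]
        obtain ⟨y, hy, hye⟩ := zS_mem _ hX2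
        rw [← D.psi_mul hX hX] at hye
        rw [D.psi_inj (sPow_mem y hy).1 (mul_lt hX hX) hye] at hy
        have hno : mul eX eX ∉ sPow := by decide +kernel
        exact hno hy
    have := Subgroup.card_dvd_of_le hle
    rwa [Subgroup.card_map_of_injective (Subgroup.subtype_injective _), hW] at this
  set v := D.psi eV with hvdef
  have hVS : eV ∈ sList := heS eV (by simp [eList])
  have hnoL4 : ¬ 4 ∣ Nat.card L := by
    intro h4'
    obtain ⟨W, hW, hzW⟩ := Sylow.exists_subgroup_card_pow_succ (G := L) (p := 2) (n := 1)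
      (H := Subgroup.zpowers (⟨z, hzL⟩ : L)) (by simpa using h4') (by
        rw [Nat.card_zpowers, pow_one]
        refine orderOf_eq_prime (Subtype.ext ?_) fun e => ?_
        · show z ^ 2 = 1
          rw [pow_two, hzdef, ← D.psi_mul hz48 hz48, show mul 48 48 = 0 by decide +kernel, Ctx.psi_zero D.toCtx]
        · have := D.psi_inj hz48 (by norm_num : (0 : ℕ) < 1152)
            ((congrArg Subtype.val e).trans (Ctx.psi_zero D.toCtx).symm)
          norm_num at this)
    haveI : Fact (Nat.card W = 2 ^ 2) := ⟨hW⟩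
    have hcomm : ∀ a b : W, a * b = b * a := (IsPGroup.isMulCommutative_of_card_eq_prime_sq (p := 2) (G := W) (by rw [hW])).is_comm.comm
    have hall : ∀ w : W, ((w : L) : G) = 1 ∨ ((w : L) : G) = z := by
      intro w
      have hwz : ((w : L) : G) * z = z * ((w : L) : G) :=
        congrArg (fun x : W => ((x : L) : G)) (hcomm w ⟨⟨z, hzL⟩, hzW (Subgroup.mem_zpowers _)⟩)
      obtain ⟨y, hy, hye⟩ := Kz _ (hLK (w : L).2) hwz
      obtain ⟨a, ha, hae⟩ := ((memL _).1 (w : L).2).2
      have hylt := slt y hy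
      have h1 : cj y eX = a := by
        refine D.psi_inj (cj_lt hylt hX) (xlt a ha) ?_
        rw [Ctx.psi_cj D.toCtx hylt hX, hye]
        exact hae
      have h2 : mul y (mul y (mul y y)) = 0 := by
        refine D.psi_inj (mul_lt hylt (mul_lt hylt (mul_lt hylt hylt))) (by norm_num) ?_
        rw [D.psi_mul hylt (mul_lt hylt (mul_lt hylt hylt)), D.psi_mul hylt (mul_lt hylt hylt), D.psi_mul hylt hylt,
          hye, Ctx.psi_zero D.toCtx]
        have h4w : w ^ 4 = 1 := orderOf_dvd_iff_pow_eq_one.1 (by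
          have := orderOf_dvd_natCard w
          rw [hW] at this
          simpa using this)
        have := congrArg (fun x : W => ((x : L) : G)) h4w
        simpa [pow_succ, mul_assoc] using this
      rcases hL4 y hy with (h | h) | h
      · exact absurd h (by simp [h1, ha, h2])
      · exact Or.inl (by rw [← hye, h, Ctx.psi_zero D.toCtx])
      · exact Or.inr (by rw [← hye, h])
    let f : W → Fin 2 := fun w => if ((w : L) : G) = 1 then 0 else 1
    have hf : Function.Injective f := by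
      intro a b hab
      refine Subtype.ext (Subtype.ext ?_)
      simp only [f] at hab
      rcases hall a with ea | ea <;> rcases hall b with eb | eb <;> rw [ea, eb] <;>
        simp only [ea, eb, if_true] at hab <;> split_ifs at hab <;> simp_all
    have := Nat.card_le_card_of_injective f hf
    rw [hW, Nat.card_fin] at this
    norm_num at this
  obtain ⟨u, hu, hLu⟩ : ∃ u, Odd u ∧ Nat.card L = 2 * u := by
    have h2 : 2 ∣ Nat.card L := by
      have h := orderOf_dvd_natCard (⟨z, hzL⟩ : L)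
      have ho : orderOf (⟨z, hzL⟩ : L) = 2 := by
        refine orderOf_eq_prime (Subtype.ext ?_) fun e => ?_
        · show z ^ 2 = 1
          rw [pow_two, hzdef, ← D.psi_mul hz48 hz48, show mul 48 48 = 0 by decide +kernel, Ctx.psi_zero D.toCtx]
        · have := D.psi_inj hz48 (by norm_num : (0 : ℕ) < 1152)
            ((congrArg Subtype.val e).trans (Ctx.psi_zero D.toCtx).symm)
          norm_num at this
      rwa [ho] at h
    obtain ⟨u, hu⟩ := h2
    refine ⟨u, ?_, hu⟩
    rcases Nat.even_or_odd u with ⟨w, hw⟩ | h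
    · exact absurd ⟨w, by omega⟩ hnoL4
    · exact h
  obtain ⟨M0, hM0, hM0odd⟩ := exists_half hu hLu
  set M := M0.map L.subtype with hM
  have hMcard : Nat.card M = u := by rw [hM, Subgroup.card_map_of_injective (Subgroup.subtype_injective _), hM0]
  have hML : M ≤ L := Subgroup.map_subtype_le _
  have hModd : ∀ m ∈ M, Odd (orderOf m) := fun m hm => by
    have h := orderOf_dvd_natCard (⟨m, hm⟩ : M)
    rw [hMcard, ← Subgroup.orderOf_coe] at h
    exact hu.of_dvd_nat h
  have memM : ∀ m ∈ L, Odd (orderOf m) → m ∈ M := fun m hm ho =>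
    Subgroup.mem_map.2 ⟨⟨m, hm⟩, hM0odd _ (by rwa [← Subgroup.orderOf_coe]), rfl⟩
  have esK : ∀ e ∈ eList, D.psi e * S = S * D.psi e := fun e he => (memK _).1 (sK e (heS e he))
  -- conjugation by an involution inverting the element
  have hinvM : ∀ e ∈ eList, cj e eX = inv eX → ∀ m ∈ M, D.psi e * m * (D.psi e)⁻¹ ∈ M := by
    intro e he hecj m hm
    obtain ⟨hmS, a, ha, hma⟩ := hML hm
    refine memM _ ((memL _).2 ⟨?_, ?_⟩) ?_
    · exact (Commute.mul_left (Commute.mul_left (esK e he) hmS) (Commute.inv_left (esK e he))).eq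
    · have hX1 : D.psi e * X * (D.psi e)⁻¹ = X⁻¹ := by
        rw [hXdef, ← Ctx.psi_cj D.toCtx (elt e he) hX, hecj, Ctx.psi_inv D.toCtx hX]
      have hX2 : (D.psi e)⁻¹ * X * D.psi e = X⁻¹ := by
        have h1 : ((D.psi e)⁻¹ * X * D.psi e)⁻¹ = X := by
          calc ((D.psi e)⁻¹ * X * D.psi e)⁻¹ = (D.psi e)⁻¹ * X⁻¹ * D.psi e := by group
            _ = _ := by rw [← hX1]; group
        exact inv_eq_iff_eq_inv.1 h1
      refine ⟨cj e (inv a), ?_, ?_⟩
      · have hall : ∀ e ∈ eList, cj e eX = inv eX → ∀ a ∈ xCoset, cj e (inv a) ∈ xCoset := by decide +kernel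
        exact hall e he hecj a ha
      · rw [Ctx.psi_cj D.toCtx (elt e he) (inv_spec (xlt a ha)).2.1, Ctx.psi_inv D.toCtx (xlt a ha), ← hma]
        calc D.psi e * m * (D.psi e)⁻¹ * X * (D.psi e * m * (D.psi e)⁻¹)⁻¹
            = D.psi e * (m * ((D.psi e)⁻¹ * X * D.psi e) * m⁻¹) * (D.psi e)⁻¹ := by group
          _ = _ := by rw [hX2]; group
    · rw [show D.psi e * m * (D.psi e)⁻¹ = MulAut.conj (D.psi e) m from rfl, MulEquiv.orderOf_eq]
      exact hModd m hm
  -- inversion modulo the element, when fixed points are small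
  have hinvert : ∀ e ∈ eList, cj e eX = inv eX →
      (∀ m ∈ M, D.psi e * m = m * D.psi e → m ∈ Subgroup.zpowers S) →
      ∀ m ∈ M, ∃ s ∈ Subgroup.zpowers S, D.psi e * m * (D.psi e)⁻¹ = m⁻¹ * s := by
    intro e he hecj hfix
    set w := D.psi e with hw
    have hw2 : w * w = 1 := by rw [hw, ← D.psi_mul (elt e he) (elt e he), hesq e he, Ctx.psi_zero D.toCtx]
    have hwi : w⁻¹ = w := inv_eq_of_mul_eq_one_right hw2
    have hSM : S ∈ M := memM S hSL (by
      have : orderOf S ∣ 3 := orderOf_dvd_of_pow_eq_one (by rw [pow_succ, pow_two, mul_assoc, Ssq])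
      exact (by decide : Odd 3).of_dvd_nat this)
    have hwM : ∀ m ∈ M, w * m * w ∈ M := fun m hm => by
      have := hinvM e he hecj m hm
      rwa [← hw, hwi] at this
    let I := {m : M // w * (m : G) * w = (m : G)⁻¹}
    have hzS : ∀ s ∈ Subgroup.zpowers S, ∀ m ∈ L, s * m = m * s := by
      intro s hs m hm
      obtain ⟨i, rfl⟩ := Subgroup.mem_zpowers_iff.1 hs
      exact (Commute.zpow_left ((memK m).1 (hLK hm)).symm i).eq
    have hzw : ∀ s ∈ Subgroup.zpowers S, s * w = w * s := by
      intro s hs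
      obtain ⟨i, rfl⟩ := Subgroup.mem_zpowers_iff.1 hs
      exact (Commute.zpow_left (esK e he).symm i).eq
    let Φ : I × Subgroup.zpowers S → M := fun p =>
      ⟨(p.1.1 : G) * (p.2 : G), mul_mem p.1.1.2 ((Subgroup.zpowers_le.2 hSM) p.2.2)⟩
    have hΦ : Function.Injective Φ := by
      rintro ⟨⟨q, hq⟩, s⟩ ⟨⟨q', hq'⟩, s'⟩ h
      have h1 : (q : G) * s = q' * s' := congrArg Subtype.val h
      have hq2 : (q' : G) = q * ((s : G) * (s' : G)⁻¹) := by
        rw [← mul_assoc, h1, mul_inv_cancel_right]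
      set t := (s : G) * (s' : G)⁻¹ with ht
      have htm : t ∈ Subgroup.zpowers S := mul_mem s.2 (inv_mem s'.2)
      have h2 : t * t = 1 := by
        have e1 := hq'
        rw [hq2, show w * ((q : G) * t) * w = w * (q : G) * (t * w) by group, hzw t htm,
          ← mul_assoc, hq, mul_inv_rev, hzS _ (inv_mem htm) _ (inv_mem (hML q.2))] at e1
        rw [mul_left_cancel_iff, eq_inv_iff_mul_eq_one] at e1
        exact e1
      obtain ⟨y, hy, hye⟩ := zS_mem t htm
      rw [← hye, ← D.psi_mul (sPow_mem y hy).1 (sPow_mem y hy).1, ← Ctx.psi_zero D.toCtx] at h2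
      have h3 := D.psi_inj (mul_lt (sPow_mem y hy).1 (sPow_mem y hy).1) (by norm_num) h2
      have h4 : ∀ y ∈ sPow, mul y y = 0 → y = 0 := by decide +kernel
      rw [h4 y hy h3, Ctx.psi_zero D.toCtx] at hye
      have hss : (s : G) = s' := mul_inv_eq_one.1 (ht ▸ hye.symm)
      have hqq : (q : G) = q' := by rw [hq2, ← hye, mul_one]
      exact Prod.ext (Subtype.ext (Subtype.ext hqq)) (Subtype.ext hss)
    let h : M → I := fun m => ⟨⟨(m : G)⁻¹ * (w * m * w), mul_mem (inv_mem m.2) (hwM m m.2)⟩, by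
      show w * ((m : G)⁻¹ * (w * m * w)) * w = ((m : G)⁻¹ * (w * m * w))⁻¹
      calc w * ((m : G)⁻¹ * (w * m * w)) * w = w * (m : G)⁻¹ * w * m * (w * w) := by group
        _ = w⁻¹ * (m : G)⁻¹ * w⁻¹ * m := by rw [hw2, mul_one, hwi]
        _ = _ := by group⟩
    have hfib : Nat.card M ≤ Nat.card (I × Subgroup.zpowers S) := by
      have hsec : ∀ m m' : M, h m = h m' → (m' : G) * (m : G)⁻¹ ∈ Subgroup.zpowers S := by
        intro m m' hh
        have h1 : (m : G)⁻¹ * (w * m * w) = (m' : G)⁻¹ * (w * m' * w) := congrArg (fun x : I => (x.1 : G)) hh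
        refine hfix _ (mul_mem m'.2 (inv_mem m.2)) ?_
        have h2 : (m' : G) * (m : G)⁻¹ * w = w * m' * w * (w * m * w)⁻¹ * w := by
          rw [show w * (m' : G) * w = (m' : G) * ((m : G)⁻¹ * (w * m * w)) by rw [h1, mul_inv_cancel_left]]
          group
        rw [h2]
        calc w * ((m' : G) * (m : G)⁻¹) = w * m' * (w * w⁻¹) * (m : G)⁻¹ * (w⁻¹ * w) := by group
          _ = _ := by group
      let sec : I → M := fun i => if hi : ∃ m, h m = i then hi.choose else 1
      let f : M → I × Subgroup.zpowers S := fun m => (h m, ⟨(m : G) * (sec (h m) : G)⁻¹, by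
        have hi : ∃ m', h m' = h m := ⟨m, rfl⟩
        simp only [sec, dif_pos hi]
        exact hsec _ _ hi.choose_spec⟩)
      refine Nat.card_le_card_of_injective f fun a b hab => ?_
      simp only [f, Prod.mk.injEq] at hab
      obtain ⟨h1, h2⟩ := hab
      have h2' := congrArg Subtype.val h2
      dsimp only at h2'
      rw [h1] at h2'
      exact Subtype.ext (mul_right_cancel h2')
    have hbij : Function.Bijective Φ := (Nat.bijective_iff_injective_and_card Φ).2
      ⟨hΦ, le_antisymm (Nat.card_le_card_of_injective Φ hΦ) hfib⟩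
    intro m hm
    obtain ⟨⟨⟨q, hq⟩, s⟩, hqs⟩ := hbij.2 ⟨m, hm⟩
    have hms : (q : G) * s = m := congrArg Subtype.val hqs
    refine ⟨(s : G) * s, mul_mem s.2 s.2, ?_⟩
    rw [hwi, ← hms, mul_inv_rev, show w * ((q : G) * s) * w = w * (q : G) * ((s : G) * w) by group, hzw _ s.2,
      ← mul_assoc, hq]
    have hsq := hzS _ s.2 _ (inv_mem (hML q.2))
    calc (q : G)⁻¹ * s = (s : G)⁻¹ * ((s : G) * (q : G)⁻¹) * s := by group
      _ = (s : G)⁻¹ * ((q : G)⁻¹ * s) * s := by rw [hsq]
      _ = _ := by group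
  -- an element with a fixed point
  have hmoved : ∃ e ∈ eList, e ≠ 0 ∧ e ≠ 48 ∧ cj e eX = inv eX ∧ ∃ m ∈ M, D.psi e * m = m * D.psi e ∧ m ∉ Subgroup.zpowers S := by
    by_contra hno
    push Not at hno
    have hv48 : mul 48 eV ∈ eList := by simp [eList]
    have hne : eV ≠ 0 ∧ eV ≠ 48 ∧ mul 48 eV ≠ 0 ∧ mul 48 eV ≠ 48 := by decide +kernel
    have i1 := hinvert eV (by simp [eList]) hvX (hno eV (by simp [eList]) hne.1 hne.2.1 hvX)
    have i2 := hinvert _ hv48 hzvX (hno _ hv48 hne.2.2.1 hne.2.2.2 hzvX)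
    have hsmall : ∀ m ∈ M, ∃ y ∈ pList, D.psi y = m := by
      intro m hm
      obtain ⟨s1, hs1, e1⟩ := i1 m hm
      have hm' : D.psi eV * m * (D.psi eV)⁻¹ ∈ M := hinvM eV (by simp [eList]) hvX m hm
      obtain ⟨s2, hs2, e2⟩ := i2 _ hm'
      have hzv : D.psi (mul 48 eV) * D.psi eV = z := by
        rw [hzdef, ← D.psi_mul (mul_lt hz48 hV) hV]
        exact congrArg D.psi (by decide +kernel)
      have hzS : ∀ s ∈ Subgroup.zpowers S, ∀ n ∈ L, s * n = n * s := by
        intro s hs n hn
        obtain ⟨i, rfl⟩ := Subgroup.mem_zpowers_iff.1 hs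
        exact (Commute.zpow_left ((memK n).1 (hLK hn)).symm i).eq
      have hzm : z * m * z⁻¹ = m * (s1⁻¹ * s2) := by
        rw [← hzv]
        calc D.psi (mul 48 eV) * D.psi eV * m * (D.psi (mul 48 eV) * D.psi eV)⁻¹
            = D.psi (mul 48 eV) * (D.psi eV * m * (D.psi eV)⁻¹) * (D.psi (mul 48 eV))⁻¹ := by group
          _ = s1⁻¹ * m * s2 := by rw [e2, e1]; group
          _ = _ := by rw [hzS _ (inv_mem hs1) m (hML hm)]; group
      have hz2 : z * z = 1 := by
        rw [hzdef, ← D.psi_mul hz48 hz48, show mul 48 48 = 0 by decide +kernel, Ctx.psi_zero D.toCtx]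
      have hzs : z * (s1⁻¹ * s2) * z⁻¹ = s1⁻¹ * s2 := by
        obtain ⟨i, hi⟩ := Subgroup.mem_zpowers_iff.1 (mul_mem (inv_mem hs1) hs2)
        rw [← hi]
        exact mul_inv_eq_of_eq_mul (Commute.zpow_right (esK 48 (by simp [eList])) i).eq
      have hss : (s1⁻¹ * s2) * (s1⁻¹ * s2) = 1 := by
        have : z * (z * m * z⁻¹) * z⁻¹ = m := by
          rw [show z * (z * m * z⁻¹) * z⁻¹ = z * z * m * (z * z)⁻¹ by group, hz2]; group
        rw [hzm, show z * (m * (s1⁻¹ * s2)) * z⁻¹ = (z * m * z⁻¹) * (z * (s1⁻¹ * s2) * z⁻¹) by group, hzs, hzm,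
          mul_assoc, mul_eq_left] at this
        exact this
      obtain ⟨y, hy, hye⟩ := zS_mem _ (mul_mem (inv_mem hs1) hs2)
      rw [← hye, ← D.psi_mul (sPow_mem y hy).1 (sPow_mem y hy).1, ← Ctx.psi_zero D.toCtx] at hss
      have h4 : ∀ y ∈ sPow, mul y y = 0 → y = 0 := by decide +kernel
      rw [← hye, h4 y hy (D.psi_inj (mul_lt (sPow_mem y hy).1 (sPow_mem y hy).1) (by norm_num) hss),
        Ctx.psi_zero D.toCtx, mul_one, mul_inv_eq_iff_eq_mul] at hzm
      obtain ⟨n, hn, hne'⟩ := Kz m (hLK (hML hm)) hzm.symm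
      have hn9 : n ∈ pList := by
        refine (hodd n hn).resolve_left ?_
        have hnlt := slt n hn
        rw [← Bool.not_eq_true, Nat.beq_eq, not_not]
        have ho : orderOf m ∣ 9 := by
          have hlen : sList.length = 36 := hslen
          have hmul : ∀ a ∈ sList, ∀ b ∈ sList, mul a b ∈ sList := by decide +kernel
          have hinv' : ∀ a ∈ sList, inv a ∈ sList := by decide +kernel
          have h0 : 0 ∈ sList := heS 0 (by simp [eList])
          set Cs := D.listGroup sList slt h0 hmul hinv' with hCs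
          have hmC : m ∈ Cs := ⟨n, hn, hne'⟩
          have h36 := orderOf_dvd_natCard (⟨m, hmC⟩ : Cs)
          rw [D.card_listGroup _ _ _ _ _ hsnd, hlen, ← Subgroup.orderOf_coe] at h36
          have hco : (orderOf m).Coprime 4 := by
            rw [show (4 : ℕ) = 2 ^ 2 by norm_num]
            exact (Nat.coprime_two_right.2 (hModd m hm)).pow_right 2
          exact hco.dvd_of_dvd_mul_left (by simpa using h36 : orderOf m ∣ 4 * 9)
        have hm9 := orderOf_dvd_iff_pow_eq_one.1 ho
        set n3 := mul n (mul n n) with hn3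
        have hn3lt : n3 < 1152 := mul_lt hnlt (mul_lt hnlt hnlt)
        refine D.psi_inj (mul_lt hn3lt (mul_lt hn3lt hn3lt)) (by norm_num) ?_
        rw [D.psi_mul hn3lt (mul_lt hn3lt hn3lt), D.psi_mul hn3lt hn3lt, hn3, D.psi_mul hnlt (mul_lt hnlt hnlt),
          D.psi_mul hnlt hnlt, hne', Ctx.psi_zero D.toCtx, ← hm9]
        simp only [pow_succ, pow_zero, one_mul, mul_assoc]
      exact ⟨n, hn9, hne'⟩
    have hle : M ≤ P := fun m hm => hsmall m hm
    have h1 := Subgroup.card_dvd_of_le hle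
    rw [hMcard, hPcard] at h1
    have h2 : 27 ∣ u := (Nat.Coprime.dvd_of_dvd_mul_left (by norm_num : Nat.Coprime 27 2) (hLu ▸ hL27))
    exact absurd (h2.trans h1) (by norm_num)
  obtain ⟨e, he, he0, he48, hecj, m, hm, hme, hmS⟩ := hmoved
  obtain ⟨k, hkK, hke, hkE, hkcase⟩ := conjE e he he0
  have hmK := hLK (hML hm)
  have hm'z : k⁻¹ * m * k * z = z * (k⁻¹ * m * k) := by
    have hze : z = k⁻¹ * D.psi e * k := by rw [← hke]; group
    rw [hze]
    calc k⁻¹ * m * k * (k⁻¹ * D.psi e * k) = k⁻¹ * (m * D.psi e) * k := by group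
      _ = _ := by rw [← hme]; group
  obtain ⟨n, hn, hne⟩ := Kz _ (mul_mem (mul_mem (inv_mem hkK) hmK) hkK) hm'z
  have hnlt := slt n hn
  have hnp : n ∈ pList := by
    refine (hodd n hn).resolve_left ?_
    rw [← Bool.not_eq_true, Nat.beq_eq, not_not]
    have hmul : ∀ a ∈ sList, ∀ b ∈ sList, mul a b ∈ sList := by decide +kernel
    have hinv' : ∀ a ∈ sList, inv a ∈ sList := by decide +kernel
    set Cs := D.listGroup sList slt (heS 0 (by simp [eList])) hmul hinv' with hCs
    have hmC : k⁻¹ * m * k ∈ Cs := ⟨n, hn, hne⟩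
    have h36 := orderOf_dvd_natCard (⟨_, hmC⟩ : Cs)
    rw [D.card_listGroup _ _ _ _ _ hsnd, hslen, ← Subgroup.orderOf_coe] at h36
    have hco : (orderOf (k⁻¹ * m * k)).Coprime 4 := by
      have ho : orderOf (k⁻¹ * m * k) = orderOf m := by
        have : k⁻¹ * m * k = MulAut.conj k⁻¹ m := by simp [MulAut.conj_apply]
        rw [this, MulEquiv.orderOf_eq]
      rw [ho, show (4 : ℕ) = 2 ^ 2 by norm_num]
      exact (Nat.coprime_two_right.2 (hModd m hm)).pow_right 2
    have hm9 := orderOf_dvd_iff_pow_eq_one.1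
      (hco.dvd_of_dvd_mul_left (by simpa using h36 : orderOf (k⁻¹ * m * k) ∣ 4 * 9))
    set n3 := mul n (mul n n) with hn3
    have hn3lt : n3 < 1152 := mul_lt hnlt (mul_lt hnlt hnlt)
    refine D.psi_inj (mul_lt hn3lt (mul_lt hn3lt hn3lt)) (by norm_num) ?_
    rw [D.psi_mul hn3lt (mul_lt hn3lt hn3lt), D.psi_mul hn3lt hn3lt, hn3, D.psi_mul hnlt (mul_lt hnlt hnlt),
      D.psi_mul hnlt hnlt, hne, Ctx.psi_zero D.toCtx, ← hm9]
    simp only [pow_succ, pow_zero, one_mul, mul_assoc]
  have hnS : n ∉ sPow := fun h => by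
    have hmem := (sPow_mem n h).2
    rw [hne] at hmem
    obtain ⟨i, hi⟩ := Subgroup.mem_zpowers_iff.1 hmem
    have hkS : k * S * k⁻¹ = S := mul_inv_eq_of_eq_mul ((memK k).1 hkK)
    refine hmS (Subgroup.mem_zpowers_iff.2 ⟨i, ?_⟩)
    calc S ^ i = (k * S * k⁻¹) ^ i := by rw [hkS]
      _ = k * S ^ i * k⁻¹ := conj_zpow
      _ = m := by rw [hi]; group
  -- the conjugate of the element lies in the stabiliser
  have hkn : k * D.psi n * k⁻¹ = m := by rw [hne]; group
  obtain ⟨a0, ha0, b0, hb0, hab⟩ := (hgen n hnp).resolve_left hnS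
  have hxi : k * X * k⁻¹ ∈ L := by
    have hka : k * D.psi a0 * k⁻¹ ∈ L := by
      simp only [List.mem_cons, List.not_mem_nil, or_false] at ha0
      rcases ha0 with rfl | rfl | rfl
      · rw [Ctx.psi_zero D.toCtx]; simp
      · rw [hkn]; exact hML hm
      · rw [D.psi_mul hnlt hnlt, show k * (D.psi n * D.psi n) * k⁻¹ = (k * D.psi n * k⁻¹) * (k * D.psi n * k⁻¹) by group,
          hkn]
        exact mul_mem (hML hm) (hML hm)
    have hkb : k * D.psi b0 * k⁻¹ ∈ L := by
      obtain ⟨i, hi⟩ := Subgroup.mem_zpowers_iff.1 (sPow_mem b0 hb0).2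
      rw [← hi, ← conj_zpow, mul_inv_eq_of_eq_mul ((memK k).1 hkK)]
      exact zpow_mem hSL i
    have ha0lt : a0 < 1152 := by
      simp only [List.mem_cons, List.not_mem_nil, or_false] at ha0
      rcases ha0 with rfl | rfl | rfl
      · norm_num
      · exact hnlt
      · exact mul_lt hnlt hnlt
    rw [hXdef, hab, D.psi_mul ha0lt (sPow_mem b0 hb0).1,
      show k * (D.psi a0 * D.psi b0) * k⁻¹ = (k * D.psi a0 * k⁻¹) * (k * D.psi b0 * k⁻¹) by group]
    exact mul_mem hka hkb
  set Y := k * X * k⁻¹ with hY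
  -- the involution inverting it
  have hkS : ∀ c ∈ Subgroup.zpowers S, ∀ g ∈ K, g * c = c * g := by
    intro c hc g hg
    obtain ⟨i, rfl⟩ := Subgroup.mem_zpowers_iff.1 hc
    exact (Commute.zpow_right ((memK g).1 hg) i).eq
  obtain ⟨f, hf, hfe⟩ := hkE z (⟨48, by simp [eList], rfl⟩ : z ∈ E)
  have hf0 : f ≠ 0 := fun h => by
    rw [h, Ctx.psi_zero D.toCtx] at hfe
    have : z = 1 := by rw [show z = k * (k⁻¹ * z * k) * k⁻¹ by group, ← hfe]; group
    have := D.psi_inj hz48 (by norm_num : (0 : ℕ) < 1152) (this.trans (Ctx.psi_zero D.toCtx).symm)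
    norm_num at this
  have hf48 : f ≠ 48 := fun h => by
    rw [h, ← hzdef] at hfe
    have h2 : D.psi e = z := by
      rw [← hke]
      nth_rw 1 [hfe]
      group
    exact he48 (D.psi_inj (elt e he) hz48 h2)
  have hinvall : ∀ x ∈ eList, x ≠ 0 → x ≠ 48 → cj x eX = inv eX := by decide +kernel
  have hzY : z * Y * z⁻¹ = Y⁻¹ := by
    have h1 : D.psi f * X * (D.psi f)⁻¹ = X⁻¹ := by
      rw [hXdef, ← Ctx.psi_cj D.toCtx (elt f hf) hX, hinvall f hf hf0 hf48, Ctx.psi_inv D.toCtx hX]
    rw [hfe] at h1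
    calc z * Y * z⁻¹ = k * ((k⁻¹ * z * k) * X * (k⁻¹ * z * k)⁻¹) * k⁻¹ := by rw [hY]; group
      _ = _ := by rw [h1, hY]; group
  obtain ⟨hYS, a, ha, hYX⟩ := hxi
  obtain ⟨j, hj, rfl⟩ := xdec a ha
  obtain ⟨hjlt, hjS⟩ := sPow_mem j hj
  rw [D.psi_mul hX hjlt, ← hXdef] at hYX
  have hzX' : z * X * z⁻¹ = X := by rw [hzdef, hXdef, ← Ctx.psi_cj D.toCtx hz48 hX, hzX]
  have hzj : z * D.psi j * z⁻¹ = D.psi j :=
    mul_inv_eq_of_eq_mul (hkS _ hjS z (sK 48 (heS 48 (by simp [eList]))))
  have hYi : Y⁻¹ * X * Y = X * D.psi j := by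
    calc Y⁻¹ * X * Y = (z * Y * z⁻¹) * (z * X * z⁻¹) * (z * Y * z⁻¹)⁻¹ := by rw [hzY, hzX']; group
      _ = z * (Y * X * Y⁻¹) * z⁻¹ := by group
      _ = (z * X * z⁻¹) * (z * D.psi j * z⁻¹) := by rw [hYX]; group
      _ = _ := by rw [hzX', hzj]
  have hYj : Y * D.psi j * Y⁻¹ = D.psi j := mul_inv_eq_of_eq_mul (hkS _ hjS Y ((memK Y).2 hYS))
  have hjj : D.psi j * D.psi j = 1 := by
    have h : X = X * D.psi j * D.psi j := by
      calc X = Y * (Y⁻¹ * X * Y) * Y⁻¹ := by group
        _ = (Y * X * Y⁻¹) * (Y * D.psi j * Y⁻¹) := by rw [hYi]; group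
        _ = _ := by rw [hYX, hYj]
    rw [mul_assoc] at h
    exact left_eq_mul.1 h
  rw [← D.psi_mul hjlt hjlt, ← Ctx.psi_zero D.toCtx] at hjj
  have h4 : ∀ y ∈ sPow, mul y y = 0 → y = 0 := by decide +kernel
  rw [h4 j hj (D.psi_inj (mul_lt hjlt hjlt) (by norm_num) hjj), Ctx.psi_zero D.toCtx, mul_one,
    mul_inv_eq_iff_eq_mul] at hYX
  rcases hkcase with rfl | rfl | rfl
  · exact absurd (D.psi_inj (elt e he) hz48 (by rw [← hke, ← hzdef]; group)) he48
  · exact hYX
  · -- from the second conjugate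
    have h3K : T * T * T ∈ K := mul_mem (mul_mem TK TK) TK
    obtain ⟨y, hy, hye⟩ := Kz _ h3K hT3z
    have hsinv : ∀ y ∈ sList, inv y ∈ sList := by decide +kernel
    have hyi := hsinv y hy
    have hq1 : pList.contains (cj (inv y) eX) = true ∧ sPow.contains (cj (inv y) eX) = false := by
      simpa using hconjX _ hyi
    set q := cj (inv y) eX with hq
    have hqlt : q < 1152 := cj_lt (slt _ hyi) hX
    rw [List.contains_iff_mem] at hq1
    have hqe : D.psi q = (T * T * T)⁻¹ * X * (T * T * T) := by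
      rw [hq, Ctx.psi_cj D.toCtx (slt _ hyi) hX, Ctx.psi_inv D.toCtx (slt y hy), hye, ← hXdef, inv_inv]
    have hcomm : Commute (T * D.psi q * T⁻¹) X := by
      show T * D.psi q * T⁻¹ * X = X * (T * D.psi q * T⁻¹)
      have e1 : T * D.psi q * T⁻¹ = (T * T)⁻¹ * X * (T * T) := by rw [hqe]; group
      rw [e1]
      have h' := congrArg (fun g => (T * T)⁻¹ * g * (T * T)) hYX.symm
      rw [hY] at h'
      calc (T * T)⁻¹ * X * (T * T) * X = (T * T)⁻¹ * (X * (T * T * X * (T * T)⁻¹)) * (T * T) := by group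
        _ = (T * T)⁻¹ * (T * T * X * (T * T)⁻¹ * X) * (T * T) := h'
        _ = _ := by group
    have hXSc : Commute X S := (memK X).1 hXK
    obtain ⟨a1, ha1, b1, hb1, hab1⟩ := (hgen q hq1.1).resolve_left (by
      intro h
      have := hq1.2
      rw [← Bool.not_eq_true, List.contains_iff_mem] at this
      exact this h)
    have ha1lt : a1 < 1152 := by
      simp only [List.mem_cons, List.not_mem_nil, or_false] at ha1
      rcases ha1 with rfl | rfl | rfl
      · norm_num
      · exact hqlt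
      · exact mul_lt hqlt hqlt
    have hA : Commute (T * D.psi a1 * T⁻¹) X := by
      simp only [List.mem_cons, List.not_mem_nil, or_false] at ha1
      rcases ha1 with rfl | rfl | rfl
      · rw [Ctx.psi_zero D.toCtx]; simp
      · exact hcomm
      · rw [D.psi_mul hqlt hqlt, show T * (D.psi q * D.psi q) * T⁻¹ = (T * D.psi q * T⁻¹) * (T * D.psi q * T⁻¹) by group]
        exact hcomm.mul_left hcomm
    have hB : T * D.psi b1 * T⁻¹ = D.psi b1 := mul_inv_eq_of_eq_mul (hkS _ (sPow_mem b1 hb1).2 T TK)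
    have hbX : Commute (D.psi b1) X := (hkS _ (sPow_mem b1 hb1).2 X hXK).symm
    have e2 : T * X * T⁻¹ = (T * D.psi a1 * T⁻¹) * D.psi b1 := by
      rw [← hB, show T * D.psi a1 * T⁻¹ * (T * D.psi b1 * T⁻¹) = T * (D.psi a1 * D.psi b1) * T⁻¹ by group,
        ← D.psi_mul ha1lt (sPow_mem b1 hb1).1, ← hab1, hXdef]
    rw [e2]
    exact (hA.mul_left hbX).eq

theorem jrel_one : D.val jRel = 1 := by
  have hwc := word_check
  simp only [Bool.and_eq_true, List.all_eq_true, beq_iff_eq, Nat.blt_eq] at hwc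
  have vX : D.val wX = D.psi eX := by
    rw [(D.evw_spec fun c hc => hwc.1.1.2 c (List.mem_append_right _ hc)).1, hwc.1.1.1.2]
  have h := D.commute_pair
  simp only [jRel, val_append, val_reverse, vX]
  calc D.val wT * D.psi eX * (D.val wT)⁻¹ * D.psi eX * D.val wT * (D.psi eX)⁻¹ * (D.val wT)⁻¹ * (D.psi eX)⁻¹
      = D.val wT * D.psi eX * (D.val wT)⁻¹ * D.psi eX * (D.psi eX * (D.val wT * D.psi eX * (D.val wT)⁻¹))⁻¹ := by group
    _ = 1 := by rw [h, mul_inv_cancel]

theorem rels_one {r : List ℕ} (hr : r ∈ U43Top.cert.rels) : D.val r = 1 := by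
  have h := List.all_eq_true.1 rels_check r hr
  simp only [Bool.or_eq_true, beq_iff_eq] at h
  rcases h with h | h
  · exact D.basic_one h
  · rw [h]; exact D.jrel_one

end Adj

end CfsgLib.Recog.UFourThree
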