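import Cfsg.Agent.Lib.Known.U43Mult.Cover
import Cfsg.Agent.Lib.Recog.SporBound.U43C.Valid
import Cfsg.Agent.Lib.Recog.UFourThree.Local
import Cfsg.Agent.Lib.Recog.UFourThree.CentTree
import Cfsg.Agent.Lib.Recog.UFourThree.ImageCheck

set_option autoImplicit false
set_option maxRecDepth 100000
set_option Elab.async false

/-!
# A copy of PSU(4,3) inside the group

The six letters and six involutions of the model satisfy the relations of both certificates, so the group generated by
the pairs has at most as many elements as the model and is the graph of an embedding (owner: helper22).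
-/

namespace CfsgLib.Recog.UFourThree

open CfsgLib.Schur.Cert CfsgLib.Sporadic CfsgLib.Recog.SporBound
open CfsgLib.ThreeTrans.CosetIndex (eqLetter)
open Known.U43Mult (Mdl phi mgen)

/-- the involutions of the model -/
noncomputable def bm (c : ℕ) : Mdl := cond (Nat.blt c 6) (wval mgen (imWords.getD c [])) 1

theorem phi_bm {c : ℕ} (hc : c < 6) (x : Fin 126) : pgetN (imPerm.getD c 0) x = (phi (bm c) x : ℕ) := by
  have h := imWords_check
  simp only [Bool.and_eq_true, List.all_eq_true, List.mem_range, Nat.beq_eq, Nat.blt_eq] at h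
  have hgi : ∀ j < 2, RepN (phi (mgen j))⁻¹ (Known.U43Mult.ginv.getD j 0) := fun j hj =>
    RepN.inv (Known.U43Mult.rep_mgen j hj) (forallLt_elim Known.U43Mult.ginv_check.1 hj)
  rw [← (h.2 c hc).2 x x.2, wordImgN_spec phi Known.U43Mult.rep_mgen hgi _ (h.2 c hc).1 x, bm,
    show Nat.blt c 6 = true from Nat.blt_eq.mpr hc, cond_true]

theorem phi_prod : ∀ {w : List ℕ}, (∀ c ∈ w, c < 6) → ∀ x : Fin 126, imgW w x = (phi ((w.map bm).prod) x : ℕ)
  | [], _, x => by simp [imgW]
  | c :: w, h, x => by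
    have ih := phi_prod (w := w) (fun d hd => h d (List.mem_cons_of_mem _ hd)) x
    rw [List.map_cons, List.prod_cons, map_mul, Equiv.Perm.mul_apply,
      ← phi_bm (h c List.mem_cons_self), ← ih]
    rfl

theorem bm_rel {r : List ℕ} (hr : r ∈ U43Top.cert.rels) : (r.map bm).prod = 1 := by
  have h := imRels_check
  simp only [List.all_eq_true, Bool.and_eq_true, List.mem_range, Nat.beq_eq, Nat.blt_eq] at h
  obtain ⟨h1, h2⟩ := h r hr
  refine Known.U43Mult.phi_injective (Equiv.ext fun x => Fin.ext ?_)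
  rw [← phi_prod h1 x, h2 x x.2]
  simp

theorem bm_eq : bm eqLetter = 1 := rfl

theorem bm_sq (c : ℕ) : bm c * bm c = 1 := by
  by_cases hc : c < 6
  · have hm : [c, c] ∈ U43Top.cert.rels := by
      have : ∀ c < 6, U43Top.cert.rels.contains [c, c] = true := by decide +kernel
      exact List.contains_iff_mem.1 (this c hc)
    simpa using bm_rel hm
  · rw [bm, show Nat.blt c 6 = false by rw [← Bool.not_eq_true]; simpa using hc, cond_false, one_mul]

theorem bm_gen : Subgroup.closure {b | ∃ c < 6, b = bm c} = ⊤ := by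
  rw [eq_top_iff, ← Known.U43Mult.chain_facts.1, Subgroup.closure_le]
  rintro _ ⟨j, hj, rfl⟩
  have hj' : j < 2 := hj
  have h := genWords_check
  simp only [List.all_eq_true, Bool.and_eq_true, List.mem_range, Nat.beq_eq, Nat.blt_eq] at h
  obtain ⟨h1, h2⟩ := h j hj'
  have he : ((genWords.getD j []).map bm).prod = mgen j := by
    refine Known.U43Mult.phi_injective (Equiv.ext fun x => Fin.ext ?_)
    rw [← phi_prod h1 x, h2 x x.2, Known.U43Mult.rep_mgen j hj' x]
  rw [← he]
  refine list_prod_mem fun b hb => ?_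
  obtain ⟨c, hc, rfl⟩ := List.mem_map.1 hb
  exact Subgroup.subset_closure ⟨c, h1 c hc, rfl⟩

namespace Adj

variable {G : Type*} [Group G] [Finite G] (D : Adj G)

/-- the pairs -/
noncomputable def pa (c : ℕ) : G × Mdl := (D.a c, bm c)

theorem pa_sq (c : ℕ) : D.pa c * D.pa c = 1 := Prod.ext (D.a_sq c) (bm_sq c)

theorem pa_eq : D.pa eqLetter = 1 := Prod.ext D.a_eq bm_eq

theorem pa_prod (w : List ℕ) : (w.map D.pa).prod = (D.val w, (w.map bm).prod) := by
  induction w with
  | nil => rfl
  | cons c w ih => rw [List.map_cons, List.prod_cons, ih, List.map_cons, List.prod_cons, D.val_cons]; rfl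

theorem pa_rel {r : List ℕ} (hr : r ∈ U43Top.cert.rels) : (r.map D.pa).prod = 1 := by
  rw [D.pa_prod, D.rels_one hr, bm_rel hr]; rfl

/-- the group generated by the pairs -/
noncomputable def graph : Subgroup (G × Mdl) := Subgroup.closure {g | ∃ c ∈ U43Top.cert.kl, g = D.pa c}

theorem card_graph : Finite D.graph ∧ Nat.card D.graph ≤ 3265920 := by
  have hs := cert_shape
  simp only [Bool.and_eq_true, beq_iff_eq, Nat.beq_eq] at hs
  obtain ⟨⟨⟨⟨⟨hsub, hkl⟩, hcsub⟩, hckl⟩, hn⟩, hcn⟩ := hs
  have hcr : ∀ r ∈ U43C.cert.rels, (r.map D.pa).prod = 1 := fun r hr => by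
    have h := crels_check
    simp only [List.all_eq_true, List.contains_iff_mem] at h
    exact D.pa_rel (h r hr)
  obtain ⟨hfin, hle⟩ := Cert.card_le (C := U43C.cert) D.pa_sq D.pa_eq U43C.ok ⊥
    (Subgroup.closure {g | ∃ c ∈ U43C.cert.kl, g = D.pa c}) hcr (fun w hw => by simp [hcsub] at hw) le_rfl
  haveI := hfin
  rw [Subgroup.card_bot, mul_one, hcn] at hle
  obtain ⟨hfin', hle'⟩ := Cert.card_le (C := U43Top.cert) D.pa_sq D.pa_eq U43Top.ok
    (Subgroup.closure {g | ∃ c ∈ U43C.cert.kl, g = D.pa c}) D.graph (fun r hr => D.pa_rel hr) (fun w hw => by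
      rw [hsub] at hw
      simp only [List.mem_cons, List.not_mem_nil, or_false] at hw
      rcases hw with rfl | rfl | rfl | rfl | rfl
      all_goals
        simp only [List.map_cons, List.map_nil, List.prod_singleton]
        exact Subgroup.subset_closure ⟨_, by rw [hckl]; simp, rfl⟩) le_rfl
  refine ⟨hfin', hle'.trans ?_⟩
  rw [hn]
  calc 2835 * _ ≤ 2835 * 1152 := Nat.mul_le_mul_left _ hle
    _ = 3265920 := by norm_num

theorem exists_embedding : ∃ ι : Mdl →* G, Function.Injective ι ∧ (∀ c < 6, D.a c = ι (bm c)) ∧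
    ∀ x < 1152, D.psi x ∈ ι.range := by
  obtain ⟨hfin, hle⟩ := D.card_graph
  haveI := hfin
  have hkl : ∀ c, c ∈ U43Top.cert.kl ↔ c < 6 := fun c => by
    rw [show U43Top.cert.kl = [0, 1, 2, 3, 4, 5] from rfl]
    simp only [List.mem_cons, List.not_mem_nil, or_false]
    omega
  let π : D.graph →* Mdl := (MonoidHom.snd G Mdl).comp D.graph.subtype
  have hsurj : Function.Surjective π := by
    rw [← MonoidHom.range_eq_top, eq_top_iff, ← bm_gen, Subgroup.closure_le]
    rintro _ ⟨c, hc, rfl⟩
    exact ⟨⟨D.pa c, Subgroup.subset_closure ⟨c, (hkl c).2 hc, rfl⟩⟩, rfl⟩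
  haveI : Finite Mdl := Finite.of_surjective π hsurj
  have hcard : Nat.card D.graph = Nat.card Mdl := by
    refine le_antisymm (by rw [Known.U43Mult.mdl_spec.2]; exact hle) (Nat.card_le_card_of_surjective π hsurj)
  have hbij : Function.Bijective π := (Nat.bijective_iff_surjective_and_card π).2 ⟨hsurj, hcard⟩
  let e := MulEquiv.ofBijective π hbij
  let ι : Mdl →* G := ((MonoidHom.fst G Mdl).comp D.graph.subtype).comp e.symm.toMonoidHom
  have hι : ∀ c < 6, D.a c = ι (bm c) := by
    intro c hc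
    have he : e.symm (bm c) = ⟨D.pa c, Subgroup.subset_closure ⟨c, (hkl c).2 hc, rfl⟩⟩ :=
      e.symm_apply_eq.2 rfl
    show D.a c = ((e.symm (bm c)).1).1
    rw [he]
    rfl
  refine ⟨ι, ?_, hι, fun x hx => ?_⟩
  · haveI := Known.U43Mult.mdl_spec.1
    refine (MonoidHom.ker_eq_bot_iff ι).1 ((ι.normal_ker).eq_bot_or_eq_top.resolve_right fun h => ?_)
    have h5 : ι (bm 5) = 1 := MonoidHom.mem_ker.1 (h ▸ Subgroup.mem_top _)
    have h1 := D.g_z
    rw [show D.g = 1 from (hι 5 (by norm_num)).trans h5, one_mul, inv_one, mul_one] at h1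
    exact absurd (D.psi_inj (by norm_num) iu_isK.1 h1) (by decide +kernel)
  · refine cent_induction (P := fun x => D.psi x ∈ ι.range) ?_ (fun p j hp hj hP => ?_) x hx
    · rw [Ctx.psi_zero D.toCtx]; exact one_mem _
    · obtain ⟨e1, e2⟩ := D.a_gen hj
      rw [D.psi_mul hp e2, ← e1, hι j (by omega)]
      exact mul_mem hP ⟨_, rfl⟩

end Adj

end CfsgLib.Recog.UFourThree
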