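import Cfsg.Agent.Lib.TwoGroups.StrongEmbedding
import Cfsg.Agent.Lib.Recog.UFourThree.Image
import Cfsg.Agent.Lib.Recog.UFourThree.FusionCheck
import Cfsg.Agent.S5513

set_option autoImplicit false
set_option maxRecDepth 100000
set_option Elab.async false

/-!
# The embedded copy is the whole group

All involutions of the copy are conjugate and their centralisers lie in it; a proper strongly embedded copy would need a
subgroup of odd order transitive on its 2835 involutions, which has no room for the normaliser of a Sylow 7-subgroup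
(owner: helper22).
-/

namespace CfsgLib.Recog.UFourThree

open Known.U43Mult (Mdl)
open CfsgLib.TwoGroups

/-- the normaliser of a subgroup of order seven in the model has order 21 -/
theorem card_normalizer_seven {X : Subgroup Mdl} (hX : Nat.card X = 7) :
    Nat.card ↥(Subgroup.normalizer (X : Set Mdl)) = 21 := by
  let K := GaloisField 3 2
  haveI : Fintype K := Fintype.ofFinite K
  have hK : Fintype.card K = 9 := by rw [Fintype.card_eq_nat_card, GaloisField.card 3 2 (by norm_num)]; rfl
  obtain ⟨e⟩ := Known.U43Mult.nonempty_equiv hK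
  have hX' : Nat.card (X.map e.toMonoidHom) = 7 := by
    rw [Subgroup.card_map_of_injective (f := e.toMonoidHom) e.injective, hX]
  have h := (Cfsg.Agent.S5513.result K hK _ hX').1
  have hn : Subgroup.normalizer ((X.map e.toMonoidHom : Subgroup (Cfsg.PSU 4 K 3)) : Set (Cfsg.PSU 4 K 3)) =
      (Subgroup.normalizer (X : Set Mdl)).map e.toMonoidHom :=
    (Subgroup.map_equiv_normalizer_eq X e).symm
  rwa [hn, Subgroup.card_map_of_injective (f := e.toMonoidHom) e.injective] at h

theorem factorization_once {p n m : ℕ} (hp : p.Prime) (h : n = p * m) (hm : m ≠ 0) (hd : ¬ p ∣ m) :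
    n.factorization p = 1 := by
  rw [h, Nat.factorization_mul hp.ne_zero hm, Finsupp.add_apply, hp.factorization_self,
    Nat.factorization_eq_zero_of_not_dvd hd]

/-- no subgroup of these orders -/
theorem no_odd_subgroup (D : Subgroup Mdl) [Finite Mdl]
    (h : Nat.card D = 2835 ∨ Nat.card D = 8505 ∨ Nat.card D = 25515) : False := by
  haveI := Fact.mk (by norm_num : Nat.Prime 7)
  let P : Sylow 7 D := Classical.arbitrary _
  have hP : Nat.card (P : Subgroup D) = 7 := by
    rw [P.card_eq_multiplicity]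
    have hf : (Nat.card D).factorization 7 = 1 := by
      rcases h with h | h | h
      · exact factorization_once (m := 405) (by norm_num) (h.trans (by norm_num)) (by norm_num) (by norm_num)
      · exact factorization_once (m := 1215) (by norm_num) (h.trans (by norm_num)) (by norm_num) (by norm_num)
      · exact factorization_once (m := 3645) (by norm_num) (h.trans (by norm_num)) (by norm_num) (by norm_num)
    rw [hf, pow_one]
  set N := Subgroup.normalizer ((P : Subgroup D) : Set D) with hN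
  have h7 : 7 ∣ Nat.card N := hP ▸ Subgroup.card_dvd_of_le Subgroup.le_normalizer
  have hle : N.map D.subtype ≤ Subgroup.normalizer (((P : Subgroup D).map D.subtype : Subgroup Mdl) : Set Mdl) :=
    Subgroup.le_normalizer_map D.subtype
  have h21 : Nat.card N ∣ 21 := by
    rw [← card_normalizer_seven (X := (P : Subgroup D).map D.subtype)
        (by rw [Subgroup.card_map_of_injective D.subtype_injective, hP]),
      show Nat.card N = Nat.card (N.map D.subtype) from (Subgroup.card_map_of_injective D.subtype_injective).symm]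
    exact Subgroup.card_dvd_of_le hle
  have hmod : Nat.card (Sylow 7 D) % 7 = 1 := card_sylow_modEq_one 7 D
  rw [Sylow.card_eq_index_normalizer P] at hmod
  have hmul : N.index * Nat.card N = Nat.card D := Subgroup.index_mul_card N
  obtain ⟨k, hk⟩ := h7
  rw [hk] at h21 hmul
  have hk3 : k = 1 ∨ k = 3 :=
    (Nat.dvd_prime (by norm_num)).1 (Nat.dvd_of_mul_dvd_mul_left (by norm_num : 0 < 7) h21)
  change N.index % 7 = 1 at hmod
  generalize N.index = i at hmod hmul
  generalize Nat.card D = n at h hmul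
  rcases hk3 with rfl | rfl <;> omega

namespace Adj

variable {G : Type*} [Group G] [Finite G] (D : Adj G)

theorem psi_sq_iff {x : ℕ} (hx : x < 1152) : orderOf (D.psi x) = 2 ↔ x ≠ 0 ∧ mul x x = 0 := by
  rw [orderOf_eq_iff (by norm_num)]
  constructor
  · rintro ⟨h1, h2⟩
    refine ⟨fun h => h2 1 (by norm_num) (by norm_num) (by rw [pow_one, h, Ctx.psi_zero D.toCtx]), ?_⟩
    refine D.psi_inj (mul_lt hx hx) (by norm_num) ?_
    rw [D.psi_mul hx hx, ← pow_two, h1, Ctx.psi_zero D.toCtx]
  · rintro ⟨h1, h2⟩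
    refine ⟨by rw [pow_two, ← D.psi_mul hx hx, h2, Ctx.psi_zero D.toCtx], fun m hm hm0 => ?_⟩
    rw [show m = 1 by omega, pow_one]
    exact fun h => h1 (D.psi_inj hx (by norm_num) (h.trans (Ctx.psi_zero D.toCtx).symm))

/-- the group is the copy of PSU(4,3) -/
theorem exists_equiv : ∃ ι : Mdl ≃* G, ∀ t : G, orderOf t = 2 → IsConj (D.psi 48) t := by
  classical
  obtain ⟨ι, hinj, hia, hC⟩ := D.exists_embedding
  haveI : Finite Mdl := Finite.of_injective ι hinj
  have hz2 : orderOf (D.psi 48) = 2 :=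
    (D.psi_sq_iff (by norm_num)).2 ⟨by norm_num, by decide +kernel⟩
  obtain ⟨z', hz'⟩ := hC 48 (by norm_num)
  have hz'2 : orderOf z' = 2 := (orderOf_injective ι hinj z').symm.trans ((congrArg orderOf hz').trans hz2)
  -- fusion in the centraliser
  have hfus : ∀ x < 1152, x ≠ 0 → mul x x = 0 → ∃ h : Mdl, ι (h * z' * h⁻¹) = D.psi x := by
    refine involution_induction (P := fun x => ∃ h : Mdl, ι (h * z' * h⁻¹) = D.psi x) ⟨1, by simpa using hz'⟩ ?_ ?_
    · rintro p j hp hj ⟨h, hh⟩
      obtain ⟨e1, e2⟩ := D.a_gen hj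
      refine ⟨bm j * h, ?_⟩
      rw [Ctx.psi_cj D.toCtx e2 hp, ← e1, hia j (by omega), ← hh]
      simp only [map_mul, map_inv, mul_inv_rev]
      group
    · rintro p hp ⟨h, hh⟩
      refine ⟨bm 5 * h, ?_⟩
      rw [← D.g_sig p hp, show D.g = ι (bm 5) from hia 5 (by norm_num), ← hh]
      simp only [map_mul, map_inv, mul_inv_rev]
      group
  -- the centraliser in the model
  set C := Subgroup.centralizer ({z'} : Set Mdl) with hCdef
  have hCcard : Nat.card C = 1152 := by
    let f : Fin 1152 → C := fun x => ⟨(hC x x.2).choose, by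
      rw [hCdef, Subgroup.mem_centralizer_singleton_iff]
      apply hinj
      rw [map_mul, map_mul, (hC x x.2).choose_spec, hz', D.psi_comm]⟩
    have hf : Function.Bijective f := by
      refine ⟨fun a b h => Fin.ext (D.psi_inj a.2 b.2 ?_), ?_⟩
      · rw [← (hC a a.2).choose_spec, ← (hC b b.2).choose_spec]
        exact congrArg ι (congrArg Subtype.val h)
      · rintro ⟨c, hc⟩
        rw [hCdef, Subgroup.mem_centralizer_singleton_iff] at hc
        obtain ⟨x, hx, he⟩ := D.psi_surj (c := ι c) (by rw [← hz', ← map_mul, ← map_mul, hc])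
        exact ⟨⟨x, hx⟩, Subtype.ext (hinj ((hC x hx).choose_spec.trans he))⟩
    rw [← Nat.card_eq_of_bijective f hf, Nat.card_fin]
  have hClass : ∀ t : Mdl, orderOf t = 2 → IsConj z' t := by
    intro t ht
    haveI := Fact.mk Nat.prime_two
    obtain ⟨S₀, hS₀⟩ := Sylow.exists_subgroup_card_pow_prime 2 (G := C) (n := 7) (by rw [hCcard]; norm_num)
    have hcard : Nat.card (S₀.map C.subtype) = 2 ^ (Nat.card Mdl).factorization 2 := by
      rw [Subgroup.card_map_of_injective C.subtype_injective, hS₀, Known.U43Mult.mdl_spec.2]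
      congr 1
      rw [show (3265920 : ℕ) = 2 ^ 7 * 25515 by norm_num, Nat.factorization_mul (by norm_num) (by norm_num),
        Finsupp.add_apply, Nat.prime_two.factorization_pow, Finsupp.single_eq_same,
        Nat.factorization_eq_zero_of_not_dvd (by norm_num)]
    let P : Sylow 2 Mdl := Sylow.ofCard _ hcard
    have hp : IsPGroup 2 (Subgroup.zpowers t) := IsPGroup.of_card (n := 1) (by rw [Nat.card_zpowers, ht, pow_one])
    obtain ⟨S, hS⟩ := hp.exists_le_sylow
    obtain ⟨g, hg⟩ := MulAction.exists_smul_eq Mdl S P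
    have htP : g * t * g⁻¹ ∈ (P : Subgroup Mdl) := by
      rw [← hg]
      exact Subgroup.smul_mem_pointwise_smul t (MulAut.conj g) _ (hS (Subgroup.mem_zpowers t))
    obtain ⟨c, -, hc⟩ := Subgroup.mem_map.1 htP
    have hcz : g * t * g⁻¹ * z' = z' * (g * t * g⁻¹) := by
      rw [← hc]; exact Subgroup.mem_centralizer_singleton_iff.1 c.2
    obtain ⟨x, hx, he⟩ := D.psi_surj (c := ι (g * t * g⁻¹)) (by rw [← hz', ← map_mul, ← map_mul, hcz])
    have hx2 : orderOf (D.psi x) = 2 := by
      rw [he, orderOf_injective ι hinj, CfsgLib.Signalizer.orderOf_conj, ht]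
    obtain ⟨h1, h2⟩ := (D.psi_sq_iff hx).1 hx2
    obtain ⟨h, hh⟩ := hfus x hx h1 h2
    have := hinj (hh.trans he)
    refine isConj_iff.2 ⟨g⁻¹ * h, ?_⟩
    calc g⁻¹ * h * z' * (g⁻¹ * h)⁻¹ = g⁻¹ * (h * z' * h⁻¹) * g := by group
      _ = t := by rw [this]; group
  -- centralisers of involutions of the copy
  have hcent : ∀ t : Mdl, orderOf t = 2 → ∀ c : G, c * ι t = ι t * c → c ∈ ι.range := by
    intro t ht c hc
    obtain ⟨h, hh⟩ := isConj_iff.1 (hClass t ht)
    have hd : (ι h)⁻¹ * c * ι h * D.psi 48 = D.psi 48 * ((ι h)⁻¹ * c * ι h) := by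
      have e : D.psi 48 = (ι h)⁻¹ * ι t * ι h := by
        rw [← hz', ← hh, map_mul, map_mul, map_inv]; group
      calc (ι h)⁻¹ * c * ι h * D.psi 48 = (ι h)⁻¹ * (c * ι t) * ι h := by rw [e]; group
        _ = _ := by rw [hc, e]; group
    obtain ⟨x, hx, he⟩ := D.psi_surj hd
    have : c = ι h * D.psi x * (ι h)⁻¹ := by rw [he]; group
    rw [this]
    exact mul_mem (mul_mem ⟨h, rfl⟩ (hC x hx)) (inv_mem ⟨h, rfl⟩)
  by_cases htop : ι.range = ⊤
  · let e : Mdl ≃* G := MulEquiv.ofBijective ι ⟨hinj, MonoidHom.range_eq_top.1 htop⟩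
    refine ⟨e, fun t ht => ?_⟩
    obtain ⟨s, rfl⟩ := MonoidHom.range_eq_top.1 htop t
    rw [orderOf_injective ι hinj] at ht
    exact hz' ▸ MonoidHom.map_isConj ι (hClass s ht)
  exfalso
  have hE : Cfsg.IsStronglyEmbedded ι.range := by
    refine (CfsgLib.Signalizer.stronglyEmbedded_iff_conj _).2 ⟨htop, ?_, ?_⟩
    · refine even_iff_two_dvd.2 ?_
      have := Subgroup.orderOf_dvd_natCard ι.range (hC 48 (by norm_num))
      rwa [hz2] at this
    · intro t htm ht g hg
      obtain ⟨s, rfl⟩ := htm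
      obtain ⟨s', hs'⟩ := hg
      rw [orderOf_injective ι hinj] at ht
      have hs'2 : orderOf s' = 2 := by
        rw [← orderOf_injective ι hinj, hs', CfsgLib.Signalizer.orderOf_conj, orderOf_injective ι hinj, ht]
      obtain ⟨h, hh⟩ := isConj_iff.1 ((hClass s ht).symm.trans (hClass s' hs'2))
      have hc : (ι h)⁻¹ * g * ι s = ι s * ((ι h)⁻¹ * g) := by
        have e : g * ι s * g⁻¹ = ι h * ι s * (ι h)⁻¹ := by
          rw [← hs', ← hh, map_mul, map_mul, map_inv]
        calc (ι h)⁻¹ * g * ι s = (ι h)⁻¹ * (g * ι s * g⁻¹) * g := by group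
          _ = _ := by rw [e]; group
      have := mul_mem (show ι h ∈ ι.range from ⟨h, rfl⟩) (hcent s ht _ hc)
      rwa [mul_inv_cancel_left] at this
  obtain ⟨g, hg⟩ : ∃ g : G, g ∉ ι.range := by
    by_contra hne
    push Not at hne
    exact htop (eq_top_iff.2 fun x _ => hne x)
  let x₀ : G ⧸ ι.range := ((1 : G) : G ⧸ ι.range)
  let y₀ : G ⧸ ι.range := (g : G ⧸ ι.range)
  have hxy : x₀ ≠ y₀ := fun h => hg (by simpa using QuotientGroup.eq.1 h)
  have hfix : ∀ d : G, d • x₀ = x₀ ↔ d ∈ ι.range := fun d => by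
    rw [SE.smul_mk_eq_iff]; simp
  let S : Subgroup Mdl := (MulAction.stabilizer G y₀).comap ι
  have hSodd : Odd (Nat.card S) := by
    rw [← Nat.not_even_iff_odd, even_iff_two_dvd]
    intro h2
    haveI := Fact.mk Nat.prime_two
    obtain ⟨s, hs⟩ := exists_prime_orderOf_dvd_card' (G := S) 2 h2
    have ho : orderOf (ι (s : Mdl)) = 2 := by rw [orderOf_injective ι hinj, Subgroup.orderOf_coe, hs]
    have := SE.odd_orderOf_of_fixes hE hxy ((hfix _).2 ⟨s, rfl⟩) (MulAction.mem_stabilizer_iff.1 s.2)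
    rw [ho] at this
    exact absurd this (by decide)
  have htrans : ∀ t : Mdl, ∃ d ∈ S, ∃ c ∈ C, t = d * c := by
    intro t
    have h1 : orderOf (ι (t * z' * t⁻¹)) = 2 := by
      rw [orderOf_injective ι hinj, CfsgLib.Signalizer.orderOf_conj, hz'2]
    obtain ⟨d, hdx, hdy, hd⟩ := SE.exists_conj_fixing hE hxy hz2 ((hfix _).2 (hC 48 (by norm_num))) h1
      ((hfix _).2 ⟨_, rfl⟩)
    obtain ⟨d', rfl⟩ := (hfix d).1 hdx
    have he : d' * z' * d'⁻¹ = t * z' * t⁻¹ := hinj (by rw [← hd, map_mul, map_mul, map_inv, hz'])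
    refine ⟨d', MulAction.mem_stabilizer_iff.2 hdy, d'⁻¹ * t, ?_, by group⟩
    rw [hCdef, Subgroup.mem_centralizer_singleton_iff]
    calc d'⁻¹ * t * z' = d'⁻¹ * (t * z' * t⁻¹) * t := by group
      _ = _ := by rw [← he]; group
  -- orders
  have hprod : Nat.card S = 2835 * Nat.card ↥(S ⊓ C) := by
    let f : S ⧸ (C.subgroupOf S) → Mdl ⧸ C := Quotient.map' (fun s => (s : Mdl)) fun a b hab => by
      rw [QuotientGroup.leftRel_apply] at hab ⊢
      simpa [Subgroup.mem_subgroupOf] using hab
    have hf : Function.Bijective f := by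
      refine ⟨?_, ?_⟩
      · intro a b hab
        induction a using QuotientGroup.induction_on with | _ a =>
        induction b using QuotientGroup.induction_on with | _ b =>
        refine QuotientGroup.eq.2 ?_
        have := QuotientGroup.eq.1 hab
        simpa [Subgroup.mem_subgroupOf] using this
      · intro q
        induction q using QuotientGroup.induction_on with | _ t =>
        obtain ⟨d, hd, c, hc, rfl⟩ := htrans t
        exact ⟨((⟨d, hd⟩ : S) : S ⧸ C.subgroupOf S), QuotientGroup.eq.2 (by simpa using hc)⟩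
    have hidx : Nat.card (Mdl ⧸ C) = 2835 := by
      have := Subgroup.card_eq_card_quotient_mul_card_subgroup C
      rw [hCcard, Known.U43Mult.mdl_spec.2] at this
      omega
    have h1 := Subgroup.card_eq_card_quotient_mul_card_subgroup (C.subgroupOf S)
    rw [Nat.card_eq_of_bijective f hf, hidx] at h1
    have h2 : Nat.card ↥(C.subgroupOf S) = Nat.card ↥(S ⊓ C) := by
      rw [← Subgroup.inf_subgroupOf_right, Nat.card_congr (Subgroup.subgroupOfEquivOfLe inf_le_right).toEquiv, inf_comm]
    rw [h2] at h1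
    exact h1
  have hdvd : Nat.card ↥(S ⊓ C) ∣ 1152 := hCcard ▸ Subgroup.card_dvd_of_le inf_le_right
  have hodd : Odd (Nat.card ↥(S ⊓ C)) := (Nat.odd_mul.1 (hprod ▸ hSodd)).2
  refine no_odd_subgroup S ?_
  have hd9 : Nat.card ↥(S ⊓ C) ∣ 9 :=
    (Nat.Coprime.dvd_of_dvd_mul_left (Nat.Coprime.pow_right 7 ((Nat.coprime_two_right).2 hodd)))
      (show Nat.card ↥(S ⊓ C) ∣ 2 ^ 7 * 9 from hdvd)
  have h9 : Nat.card ↥(S ⊓ C) = 1 ∨ Nat.card ↥(S ⊓ C) = 3 ∨ Nat.card ↥(S ⊓ C) = 9 := by
    have := Nat.le_of_dvd (by norm_num) hd9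
    interval_cases hk : Nat.card ↥(S ⊓ C) <;> omega
  rcases h9 with h | h | h <;> rw [h] at hprod <;> simp only [hprod] <;> norm_num

end Adj

end CfsgLib.Recog.UFourThree
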