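import Mathlib
import Cfsg.Agent.Lib.Recog.UFourThree.Model

set_option autoImplicit false
set_option maxRecDepth 100000

/-!
# Groups with a centralised central product of two copies of SL(2,3) and a swapped four group

The hypotheses on an involution of unitary U4(3) type in the form in which they are used (owner: helper22).
-/

namespace CfsgLib.Recog.UFourThree

open CfsgLib.Sporadic

variable {G : Type*} [Group G]

/-- The element of the product of the two factors with a given index. -/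
def kx' (φ : SL23 × SL23 →* G) (x : ℕ) : G := φ (sl (xa x), sl (xb x))

/-- A centraliser of an involution together with an element swapping a four group of its core. -/
structure Base (G : Type*) [Group G] where
  /-- the involution -/
  z : G
  /-- the two factors -/
  φ : SL23 × SL23 →* G
  hz : orderOf z = 2
  phi_z : φ (1, -1) = z
  phi_neg : φ (-1, -1) = 1
  phi_ker : ∀ p, φ p = 1 → p = 1 ∨ p = (-1, -1)
  phi_comm : ∀ p, φ p * z = z * φ p
  phi_normal : ∀ c, c * z = z * c → ∀ p, ∃ p', c * φ p * c⁻¹ = φ p'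
  phi_cent : ∀ c, c * z = z * c → (∀ p, c * φ p = φ p * c) → c = 1 ∨ c = z
  card_cent : Nat.card (Subgroup.centralizer ({z} : Set G)) = 1152
  /-- the swapping element -/
  g : G
  g_z : g * z * g⁻¹ = kx' φ iu
  g_u : g * kx' φ iu * g⁻¹ = z
  inter : ∀ x ∈ qList, ∀ y ∈ qList, g * kx' φ x * g⁻¹ = kx' φ y → y = 0 ∨ y = 48 ∨ y = iu ∨ y = mul 48 iu

/-- indices in the product of the two factors -/
def IsK (x : ℕ) : Prop := x < 1152 ∧ xw x = 0

theorem isK_check : ((kgens.all fun x => Nat.blt x 1152 && Nat.beq (xw x) 0) &&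
    (qList.all fun x => Nat.blt x 1152 && Nat.beq (xw x) 0) &&
    (rList.all fun x => qList.contains x && Nat.beq (kmul x iu) (kmul iu x)) && Nat.beq (kmul iu iu) 0 &&
    (qList.all fun x => Bool.not (Nat.beq (kmul x iu) (kmul iu x)) || rList.contains x) &&
    rList.contains iu && rList.contains 48 && rList.contains 0) = true := by decide +kernel

theorem q_isK {x : ℕ} (h : x ∈ qList) : IsK x := by
  have hc := isK_check
  simp only [Bool.and_eq_true, List.all_eq_true, Nat.blt_eq, Nat.beq_eq] at hc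
  exact hc.1.1.1.1.1.1.2 x h

theorem r_mem_q {x : ℕ} (h : x ∈ rList) : x ∈ qList ∧ kmul x iu = kmul iu x := by
  have hc := isK_check
  simp only [Bool.and_eq_true, List.all_eq_true, Nat.beq_eq, List.contains_iff_mem] at hc
  exact hc.1.1.1.1.1.2 x h

theorem r_isK {x : ℕ} (h : x ∈ rList) : IsK x := q_isK (r_mem_q h).1

theorem kgens_isK {x : ℕ} (h : x ∈ kgens) : IsK x := by
  have hc := isK_check
  simp only [Bool.and_eq_true, List.all_eq_true, Nat.blt_eq, Nat.beq_eq] at hc
  exact hc.1.1.1.1.1.1.1 x h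

theorem iu_isK : IsK iu := ⟨by decide +kernel, by decide +kernel⟩

theorem iu_mem : iu ∈ rList := by decide +kernel

theorem forty_mem : 48 ∈ rList := by decide +kernel

theorem isK_can {a b : ℕ} (ha : a < 24) (hb : b < 24) : IsK (can a b 0) :=
  ⟨(can_spec ha hb (by norm_num)).1, (can_spec ha hb (by norm_num)).2.1⟩

theorem isK_kmul {x y : ℕ} (hx : IsK x) (hy : IsK y) : IsK (kmul x y) := by
  refine ⟨mulE_lt _ _ _ hx.1 hy.1, ?_⟩
  have h := actP_lt ((xa_lt hy.1).trans (by norm_num)) (xb_lt y) (xw x)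
  rw [kmul, mulE, (can_spec (sl_mul ((xa_lt hx.1).trans (by norm_num)) h.1).1 ?_ (wx_lt _ _)).2.1]
  · rw [hx.2, hy.2]; rfl
  · cases coc false false false (xw x) (xw y)
    · exact (sl_mul (xb_lt x) h.2).1
    · exact ng_lt _

theorem isK_kinv {x : ℕ} (hx : IsK x) : IsK (kinv x) :=
  isK_can (sl_iv ((xa_lt hx.1).trans (by norm_num))).1 (sl_iv (xb_lt x)).1

theorem isK_act {x : ℕ} (hx : x < 1152) (w : ℕ) : IsK (act w x) := act_lt hx w

theorem isK_zero : IsK 0 := ⟨by norm_num, rfl⟩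

theorem isK_z : IsK 48 := ⟨by norm_num, rfl⟩

namespace Base

variable (B : Base G)

/-- the element with a given index -/
def kx (x : ℕ) : G := kx' B.φ x

/-- the involution in the core -/
def u : G := B.kx iu

theorem kx_def (x : ℕ) : B.kx x = B.φ (sl (xa x), sl (xb x)) := rfl

theorem z_sq : B.z * B.z = 1 := by
  rw [← pow_two]
  have h := pow_orderOf_eq_one B.z
  rwa [B.hz] at h

theorem z_ne : B.z ≠ 1 := fun h => by
  have := B.hz
  rw [h, orderOf_one] at this
  norm_num at this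

theorem z_inv : B.z⁻¹ = B.z := inv_eq_of_mul_eq_one_right B.z_sq

theorem kx_one : B.kx 0 = 1 := by
  rw [kx_def, show xa 0 = 0 from rfl, show xb 0 = 0 from rfl, sl_zero]
  exact map_one B.φ

theorem kx_z : B.kx 48 = B.z := by
  rw [kx_def, show xa 48 = 0 from rfl, show xb 48 = 12 from rfl, show (12 : ℕ) = ng 0 from rfl,
    sl_ng (by norm_num), sl_zero]
  exact B.phi_z

theorem kx_can {a b : ℕ} (ha : a < 24) (hb : b < 24) (w : ℕ) (hw : w < 4) :
    B.kx (can a b w) = B.φ (sl a, sl b) := by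
  rw [kx_def]
  rcases (can_spec ha hb hw).2.2 with ⟨h1, h2⟩ | ⟨h1, h2, h3⟩
  · rw [h1, h2]
  · rw [h1, h2, sl_ng hb]
    have hn : sl a = -sl (a - 12) := by
      rw [← sl_ng (by omega : a - 12 < 24)]
      exact congrArg sl (by simp only [ng]; omega)
    rw [hn]
    have : ((sl (a - 12), -sl b) : SL23 × SL23) = (-sl (a - 12), sl b) * (-1, -1) := by
      simp
    rw [this, map_mul, B.phi_neg, mul_one]

theorem kx_mul {x y : ℕ} (hx : IsK x) (hy : IsK y) : B.kx (kmul x y) = B.kx x * B.kx y := by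
  have ha : xa x < 24 := (xa_lt hx.1).trans (by norm_num)
  have hc : xa y < 24 := (xa_lt hy.1).trans (by norm_num)
  have he : actP 0 (xa y) (xb y) = (xa y, xb y) := rfl
  have hf : coc false false false 0 0 = false := rfl
  rw [kmul, mulE, hx.2, hy.2, hf, he, cond_false,
    B.kx_can (sl_mul ha hc).1 (sl_mul (xb_lt x) (xb_lt y)).1 _ (wx_lt _ _), (sl_mul ha hc).2,
    (sl_mul (xb_lt x) (xb_lt y)).2, kx_def, kx_def, ← map_mul]
  rfl

theorem kx_inv {x : ℕ} (hx : IsK x) : B.kx (kinv x) = (B.kx x)⁻¹ := by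
  have ha : xa x < 24 := (xa_lt hx.1).trans (by norm_num)
  rw [kinv, B.kx_can (sl_iv ha).1 (sl_iv (xb_lt x)).1 0 (by norm_num), (sl_iv ha).2, (sl_iv (xb_lt x)).2,
    kx_def, ← map_inv]
  rfl

theorem kx_inj {x y : ℕ} (hx : IsK x) (hy : IsK y) (h : B.kx x = B.kx y) : x = y := by
  rw [kx_def, kx_def, ← inv_mul_eq_one, ← map_inv, ← map_mul] at h
  have hxa := xa_lt hx.1
  have hya := xa_lt hy.1
  have hp : sl (xa y) = sl (xa x) ∧ sl (xb y) = sl (xb x) ∨ sl (xa y) = -sl (xa x) := by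
    rcases B.phi_ker _ h with h' | h'
    · simp only [Prod.ext_iff, Prod.fst_mul, Prod.snd_mul, Prod.fst_inv, Prod.snd_inv, Prod.fst_one, Prod.snd_one,
        inv_mul_eq_one] at h'
      exact Or.inl ⟨h'.1.symm, h'.2.symm⟩
    · simp only [Prod.ext_iff, Prod.fst_mul, Prod.fst_inv, inv_mul_eq_iff_eq_mul] at h'
      exact Or.inr (by rw [h'.1, mul_neg, mul_one])
  rcases hp with ⟨ha, hb⟩ | ha
  · have h1 := sl_inj (by omega) (by omega) ha
    have h2 := sl_inj (xb_lt y) (xb_lt x) hb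
    rw [← parts x, ← parts y, h1, h2, hx.2, hy.2]
  · rw [← sl_ng (by omega : xa x < 24)] at ha
    have h1 := sl_inj (by omega) (ng_lt _) ha
    simp only [ng] at h1
    omega

theorem exists_kx (p : SL23 × SL23) : ∃ x, IsK x ∧ B.φ p = B.kx x := by
  obtain ⟨a, ha⟩ := sl_surj p.1
  obtain ⟨b, hb⟩ := sl_surj p.2
  refine ⟨can a b 0, isK_can a.2 b.2, ?_⟩
  rw [B.kx_can a.2 b.2 0 (by norm_num), ha, hb]

theorem kx_comm_z (x : ℕ) : B.kx x * B.z = B.z * B.kx x := B.phi_comm _

theorem conj_kx {c : G} (hc : c * B.z = B.z * c) (x : ℕ) : ∃ y, IsK y ∧ c * B.kx x * c⁻¹ = B.kx y := by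
  obtain ⟨p, hp⟩ := B.phi_normal c hc (sl (xa x), sl (xb x))
  obtain ⟨y, hy, he⟩ := B.exists_kx p
  exact ⟨y, hy, hp.trans he⟩

theorem u_sq : B.u * B.u = 1 := by
  rw [u, ← B.kx_mul iu_isK iu_isK, show kmul iu iu = 0 by decide +kernel, B.kx_one]

theorem g_z_eq : B.g * B.z * B.g⁻¹ = B.u := B.g_z

theorem g_u_eq : B.g * B.u * B.g⁻¹ = B.z := B.g_u

end Base

end CfsgLib.Recog.UFourThree
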