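import Mathlib
import Cfsg.Prelude
import Cfsg.Agent.Lib.Components.FStar
import Cfsg.Agent.Lib.Components.Radicals
import Cfsg.Agent.Lib.Recog.UFourThree.Setup

set_option autoImplicit false
set_option maxRecDepth 100000
set_option Elab.async false

/-!
# The data from a centraliser of unitary U4(3) type

The two factors commute, the core is the product of the two quaternion groups, and an element swapping the involution
with a conjugate in the core exists (owner: helper22).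
-/

namespace CfsgLib.Recog.UFourThree

open CfsgLib.Sporadic

theorem three_gen : ((List.range 24).all fun g =>
    ((List.range 24).filter fun a => Nat.beq (m24 a (m24 a a)) 0).any fun a =>
      ((List.range 24).filter fun a => Nat.beq (m24 a (m24 a a)) 0).any fun b =>
        ((List.range 24).filter fun a => Nat.beq (m24 a (m24 a a)) 0).any fun c => Nat.beq (m24 (m24 a b) c) g) = true := by
  decide +kernel

theorem sl_facts : ((List.range 24).all fun a =>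
    -- centre
    (((List.range 24).any fun x => Bool.not (Nat.beq (m24 a x) (m24 x a))) || (Nat.beq a 0 || Nat.beq a 12)) &&
    -- conjugacy of elements of order four
    (Bool.not (Nat.beq (m24 a a) 12) || (List.range 24).any fun x => Nat.beq (m24 (m24 x a) (iv24 x)) 1) &&
    -- square roots of the identity
    (Bool.not (Nat.beq (m24 a a) 0) || (Nat.beq a 0 || Nat.beq a 12)) &&
    -- elements of two-power order
    (Bool.not (Nat.beq (m24 (m24 (m24 a a) (m24 a a)) (m24 (m24 a a) (m24 a a))) 0) || Nat.beq (m24 (m24 a a) (m24 a a)) 0) &&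
    -- the quaternion group is a normal subgroup
    ((List.range 24).all fun x => Bool.not (Nat.beq (m24 (m24 a a) (m24 a a)) 0) ||
      (Nat.beq (m24 (m24 (m24 (m24 x a) (iv24 x)) (m24 (m24 x a) (iv24 x))) (m24 (m24 (m24 x a) (iv24 x)) (m24 (m24 x a) (iv24 x)))) 0 &&
        (Bool.not (Nat.beq (m24 (m24 x x) (m24 x x)) 0) ||
          Nat.beq (m24 (m24 (m24 a x) (m24 a x)) (m24 (m24 a x) (m24 a x))) 0)))) = true := by
  decide +kernel

theorem q_check : ((List.range 24).all fun a => (List.range 24).all fun b =>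
    (Nat.beq (m24 (m24 a a) (m24 a a)) 0 && Nat.beq (m24 (m24 b b) (m24 b b)) 0) == qList.contains (can a b 0)) = true := by
  decide +kernel

theorem iu_check : (Nat.beq (xa iu) 1 && Nat.beq (xb iu) 1 && qList.contains iu && qList.contains 48 && qList.contains 0 &&
    qList.contains (kmul 48 iu) && Nat.beq (mul 48 iu) (kmul 48 iu) &&
    decide [0, 48, iu, kmul 48 iu].Nodup) = true := by
  decide +kernel

theorem sl_twelve : sl 12 = -1 := by
  rw [show (12 : ℕ) = ng 0 from rfl, sl_ng (by norm_num), sl_zero]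

theorem sl_eq_one {a : ℕ} (ha : a < 24) : sl a = 1 ↔ a = 0 :=
  ⟨fun h => sl_inj ha (by norm_num) (h.trans sl_zero.symm), fun h => h ▸ sl_zero⟩

theorem sl_eq_neg {a : ℕ} (ha : a < 24) : sl a = -1 ↔ a = 12 :=
  ⟨fun h => sl_inj ha (by norm_num) (h.trans sl_twelve.symm), fun h => h ▸ sl_twelve⟩

theorem exists_sl (g : SL23) : ∃ a < 24, sl a = g := by
  obtain ⟨k, hk⟩ := sl_surj g
  exact ⟨k, k.2, hk⟩

theorem sl_pow4 {a : ℕ} (ha : a < 24) : sl a ^ 4 = 1 ↔ m24 (m24 a a) (m24 a a) = 0 := by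
  rw [show sl a ^ 4 = sl (m24 (m24 a a) (m24 a a)) by
    rw [(sl_mul (sl_mul ha ha).1 (sl_mul ha ha).1).2, (sl_mul ha ha).2]; simp only [pow_succ, pow_zero, one_mul, mul_assoc],
    sl_eq_one (sl_mul (sl_mul ha ha).1 (sl_mul ha ha).1).1]

theorem sl_three (g : SL23) : ∃ a b c : SL23, a * a * a = 1 ∧ b * b * b = 1 ∧ c * c * c = 1 ∧ g = a * b * c := by
  obtain ⟨k, hk, rfl⟩ := exists_sl g
  have h := three_gen
  simp only [List.all_eq_true, List.any_eq_true, List.mem_filter, List.mem_range, Nat.beq_eq] at h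
  obtain ⟨a, ⟨ha, ha3⟩, b, ⟨hb, hb3⟩, c, ⟨hc, hc3⟩, he⟩ := h k hk
  have hcube : ∀ a < 24, m24 a (m24 a a) = 0 → sl a * sl a * sl a = 1 := fun a ha h3 => by
    rw [mul_assoc, ← (sl_mul ha ha).2, ← (sl_mul ha (sl_mul ha ha).1).2, h3, sl_zero]
  exact ⟨sl a, sl b, sl c, hcube a ha ha3, hcube b hb hb3, hcube c hc hc3,
    by rw [← (sl_mul ha hb).2, ← (sl_mul (sl_mul ha hb).1 hc).2, he]⟩

theorem sl_center {g : SL23} (h : ∀ x, g * x = x * g) : g = 1 ∨ g = -1 := by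
  obtain ⟨k, hk, rfl⟩ := exists_sl g
  have hf := sl_facts
  simp only [List.all_eq_true, List.any_eq_true, List.mem_range, Bool.and_eq_true, Bool.or_eq_true, Bool.not_eq_true',
    Nat.beq_eq] at hf
  rcases (hf k hk).1.1.1.1 with ⟨x, hx, hne⟩ | h0
  · have := congrArg (Nat.beq · (m24 x k)) (sl_inj (sl_mul hk hx).1 (sl_mul hx hk).1
      (by rw [(sl_mul hk hx).2, (sl_mul hx hk).2, h]))
    simp only [hne] at this
    exact absurd (this.trans (Nat.beq_refl _)) (by decide)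
  · rcases h0 with rfl | rfl
    · exact Or.inl sl_zero
    · exact Or.inr sl_twelve

theorem sl_four_conj {g : SL23} (h : g * g = -1) : ∃ x, x * g * x⁻¹ = sl 1 := by
  obtain ⟨k, hk, rfl⟩ := exists_sl g
  have hf := sl_facts
  simp only [List.all_eq_true, List.any_eq_true, List.mem_range, Bool.and_eq_true, Bool.or_eq_true, Bool.not_eq_true',
    Nat.beq_eq] at hf
  rw [← (sl_mul hk hk).2, sl_eq_neg (sl_mul hk hk).1] at h
  rcases (hf k hk).1.1.1.2 with h' | ⟨x, hx, he⟩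
  · rw [h] at h'; exact absurd h' (by decide)
  · exact ⟨sl x, by rw [← (sl_iv hx).2, ← (sl_mul hx hk).2, ← (sl_mul (sl_mul hx hk).1 (sl_iv hx).1).2, he]⟩

theorem sl_sq_one {g : SL23} (h : g * g = 1) : g = 1 ∨ g = -1 := by
  obtain ⟨k, hk, rfl⟩ := exists_sl g
  have hf := sl_facts
  simp only [List.all_eq_true, List.any_eq_true, List.mem_range, Bool.and_eq_true, Bool.or_eq_true, Bool.not_eq_true',
    Nat.beq_eq] at hf
  rw [← (sl_mul hk hk).2, sl_eq_one (sl_mul hk hk).1] at h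
  rcases (hf k hk).1.1.2 with h' | h' | h'
  · rw [h] at h'; exact absurd h' (by decide)
  · exact Or.inl (h' ▸ sl_zero)
  · exact Or.inr (h' ▸ sl_twelve)

theorem sl_two_power {g : SL23} (h : g ^ 8 = 1) : g ^ 4 = 1 := by
  obtain ⟨k, hk, rfl⟩ := exists_sl g
  have hf := sl_facts
  simp only [List.all_eq_true, List.any_eq_true, List.mem_range, Bool.and_eq_true, Bool.or_eq_true, Bool.not_eq_true',
    Nat.beq_eq] at hf
  have h2 := (sl_mul hk hk).1
  have h4 := (sl_mul h2 h2).1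
  rw [sl_pow4 hk]
  have h8 : sl (m24 (m24 (m24 k k) (m24 k k)) (m24 (m24 k k) (m24 k k))) = 1 := by
    rw [(sl_mul h4 h4).2, (sl_mul h2 h2).2, (sl_mul hk hk).2, ← h]; simp only [pow_succ, pow_zero, one_mul, mul_assoc]
  rcases (hf k hk).1.2 with h' | h'
  · rw [(sl_eq_one (sl_mul h4 h4).1).1 h8] at h'; exact absurd h' (by decide)
  · exact h'

theorem sl_pow_two_pow {g : SL23} : ∀ n : ℕ, g ^ 2 ^ n = 1 → g ^ 4 = 1
  | 0, h => by rw [pow_zero, pow_one] at h; rw [h, one_pow]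
  | 1, h => by rw [show (4 : ℕ) = 2 ^ 1 * 2 from rfl, pow_mul, h, one_pow]
  | 2, h => by simpa using h
  | n + 3, h => by
    refine sl_pow_two_pow (n + 2) ?_
    have h8 : (g ^ 2 ^ n) ^ 8 = 1 := by rw [← pow_mul, ← h]; congr 1; ring
    have := sl_two_power h8
    rw [← pow_mul] at this
    rw [← this]; congr 1; ring

theorem sl_quat {a x : SL23} (ha : a ^ 4 = 1) : (x * a * x⁻¹) ^ 4 = 1 ∧ (x ^ 4 = 1 → (a * x) ^ 4 = 1) := by
  refine ⟨by rw [conj_pow, ha]; group, fun hx => ?_⟩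
  obtain ⟨k, hk, rfl⟩ := exists_sl a
  obtain ⟨l, hl, rfl⟩ := exists_sl x
  have hf := sl_facts
  simp only [List.all_eq_true, List.any_eq_true, List.mem_range, Bool.and_eq_true, Bool.or_eq_true, Bool.not_eq_true',
    Nat.beq_eq] at hf
  rw [sl_pow4 hk] at ha
  rw [sl_pow4 hl] at hx
  rw [← (sl_mul hk hl).2, sl_pow4 (sl_mul hk hl).1]
  rcases (hf k hk).2 l hl with h' | ⟨-, h'⟩
  · rw [ha] at h'; exact absurd h' (by decide)
  · rcases h' with h' | h'
    · rw [hx] at h'; exact absurd h' (by decide)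
    · exact h'

theorem exists_anticomm : ∃ j : SL23, sl 1 * j = -(j * sl 1) ∧ sl 1 * sl 1 = -1 := by decide +kernel

theorem neg_one_ne : (-1 : SL23) ≠ 1 := by decide +kernel

theorem card_sl : Nat.card SL23 = 24 := by
  rw [Nat.card_eq_fintype_card]; decide +kernel

theorem can_parts {i : ℕ} (hi : IsK i) : can (xa i) (xb i) 0 = i := by
  rw [can, show Nat.blt (xa i) 12 = true from Nat.blt_eq.mpr (xa_lt hi.1), cond_true]
  have := parts i
  rwa [hi.2] at this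

theorem q_pow4 {i : ℕ} (hi : i ∈ qList) : sl (xa i) ^ 4 = 1 ∧ sl (xb i) ^ 4 = 1 := by
  have ha : xa i < 24 := (xa_lt (q_isK hi).1).trans (by norm_num)
  have h := q_check
  simp only [List.all_eq_true, List.mem_range] at h
  have h' := h _ ha _ (xb_lt i)
  rw [can_parts (q_isK hi), List.contains_iff_mem.2 hi] at h'
  simp only [beq_iff_eq, Bool.and_eq_true, Nat.beq_eq] at h'
  exact ⟨(sl_pow4 ha).2 h'.1, (sl_pow4 (xb_lt i)).2 h'.2⟩

theorem prod_pow4 {p : SL23 × SL23} (h : p * p = 1 ∨ p * p = (-1, -1)) : p.1 ^ 4 = 1 ∧ p.2 ^ 4 = 1 := by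
  have h4 : p * p * (p * p) = 1 := by rcases h with h | h <;> rw [h] <;> simp
  constructor
  · have := congrArg Prod.fst h4
    simpa [pow_succ, mul_assoc] using this
  · have := congrArg Prod.snd h4
    simpa [pow_succ, mul_assoc] using this

section

variable {G : Type*} [Group G] {z : G} {H : Subgroup G}

/-- two factors with central meet of order two commute -/
theorem factors_commute (f₁ f₂ : SL23 →* G) (hz : z * z = 1) (hne : z ≠ 1) (h2 : ∀ b, f₂ b * z = z * f₂ b)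
    (hc : ∀ a b, f₁ a * f₂ b * (f₁ a)⁻¹ * (f₂ b)⁻¹ = 1 ∨ f₁ a * f₂ b * (f₁ a)⁻¹ * (f₂ b)⁻¹ = z) :
    ∀ a b, f₁ a * f₂ b = f₂ b * f₁ a := by
  intro a
  have hcl : ∀ b b', f₁ a * f₂ b = f₂ b * f₁ a → f₁ a * f₂ b' = f₂ b' * f₁ a →
      f₁ a * f₂ (b * b') = f₂ (b * b') * f₁ a := fun b b' h h' => by
    rw [map_mul, ← mul_assoc, h, mul_assoc, h', mul_assoc]
  have h3 : ∀ b, b * b * b = 1 → f₁ a * f₂ b = f₂ b * f₁ a := by
    intro b hb
    rcases hc a b with h | h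
    · calc f₁ a * f₂ b = f₁ a * f₂ b * (f₁ a)⁻¹ * (f₂ b)⁻¹ * (f₂ b * f₁ a) := by group
        _ = _ := by rw [h, one_mul]
    · exfalso
      have hconj : f₁ a * f₂ b * (f₁ a)⁻¹ = z * f₂ b := by
        calc f₁ a * f₂ b * (f₁ a)⁻¹ = f₁ a * f₂ b * (f₁ a)⁻¹ * (f₂ b)⁻¹ * f₂ b := by group
          _ = _ := by rw [h]
      have hb3 : (f₂ b) ^ 3 = 1 := by rw [← map_pow, pow_succ, pow_two, hb, map_one]
      have hcz : Commute z (f₂ b) := (h2 b).symm
      have h1 : (z * f₂ b) ^ 3 = 1 := by rw [← hconj, conj_pow, hb3]; group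
      rw [hcz.mul_pow, hb3, mul_one, pow_succ, pow_two, hz, one_mul] at h1
      exact hne h1
  intro b
  obtain ⟨x, y, w, hx, hy, hw, rfl⟩ := sl_three b
  exact hcl _ _ (hcl _ _ (h3 x hx) (h3 y hy)) (h3 w hw)

/-- the map from the product -/
theorem exists_product [Finite G] (hz : z * z = 1) (hne : z ≠ 1) (memH : ∀ c, c ∈ H ↔ c * z = z * c)
    (H₁ H₂ : Subgroup H) (hn₁ : (H₁.subgroupOf (H₁ ⊔ H₂)).Normal) (hn₂ : (H₂.subgroupOf (H₁ ⊔ H₂)).Normal)
    (e₁ : H₁ ≃* SL23) (e₂ : H₂ ≃* SL23) (hmeet : (H₁ ⊓ H₂).map H.subtype = Subgroup.zpowers z) :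
    ∃ φ : SL23 × SL23 →* G, φ (1, -1) = z ∧ φ (-1, 1) = z ∧ φ (-1, -1) = 1 ∧
      (∀ p, φ p = 1 → p = 1 ∨ p = (-1, -1)) ∧ (∀ p, φ p * z = z * φ p) ∧
      φ.range = (H₁ ⊔ H₂).map H.subtype := by
  have hmem : ∀ x : H, x ∈ H₁ → x ∈ H₂ → (x : G) = 1 ∨ (x : G) = z := by
    intro x h1 h2
    have hx : (x : G) ∈ Subgroup.zpowers z :=
      hmeet ▸ Subgroup.mem_map_of_mem H.subtype (Subgroup.mem_inf.2 ⟨h1, h2⟩)
    obtain ⟨n, hn⟩ := Subgroup.mem_zpowers_iff.1 hx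
    rcases Int.even_or_odd' n with ⟨m, rfl | rfl⟩
    · exact Or.inl (by rw [← hn, zpow_mul, zpow_two, hz, one_zpow])
    · exact Or.inr (by rw [← hn, zpow_add, zpow_mul, zpow_two, hz, one_zpow, one_mul, zpow_one])
  obtain ⟨zH, hzH, hzHz⟩ := Subgroup.mem_map.1 (hmeet ▸ Subgroup.mem_zpowers z : z ∈ (H₁ ⊓ H₂).map H.subtype)
  obtain ⟨hz1, hz2⟩ := Subgroup.mem_inf.1 hzH
  let f₁ : SL23 →* G := (H.subtype.comp H₁.subtype).comp e₁.symm.toMonoidHom
  let f₂ : SL23 →* G := (H.subtype.comp H₂.subtype).comp e₂.symm.toMonoidHom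
  have m1 : ∀ a, f₁ a * z = z * f₁ a := fun a => (memH _).1 ((e₁.symm a).1).2
  have m2 : ∀ a, f₂ a * z = z * f₂ a := fun a => (memH _).1 ((e₂.symm a).1).2
  have i1 : Function.Injective f₁ := fun a b h => e₁.symm.injective (Subtype.ext (Subtype.ext h))
  have i2 : Function.Injective f₂ := fun a b h => e₂.symm.injective (Subtype.ext (Subtype.ext h))
  have n1 : f₁ (-1) = z := by
    obtain ⟨a, ha⟩ : ∃ a, f₁ a = z := ⟨e₁ ⟨zH, hz1⟩, by simpa [f₁] using hzHz⟩
    rcases sl_sq_one (g := a) (i1 (by rw [map_mul, ha, hz, map_one])) with rfl | rfl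
    · exact absurd (ha.symm.trans (map_one f₁)) hne
    · exact ha
  have n2 : f₂ (-1) = z := by
    obtain ⟨a, ha⟩ : ∃ a, f₂ a = z := ⟨e₂ ⟨zH, hz2⟩, by simpa [f₂] using hzHz⟩
    rcases sl_sq_one (g := a) (i2 (by rw [map_mul, ha, hz, map_one])) with rfl | rfl
    · exact absurd (ha.symm.trans (map_one f₂)) hne
    · exact ha
  have hcomm : ∀ a b, f₁ a * f₂ b = f₂ b * f₁ a := by
    refine factors_commute f₁ f₂ hz hne m2 fun a b => ?_
    have hA : (e₁.symm a).1 ∈ H₁ ⊔ H₂ := Subgroup.mem_sup_left (e₁.symm a).2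
    have hB : (e₂.symm b).1 ∈ H₁ ⊔ H₂ := Subgroup.mem_sup_right (e₂.symm b).2
    refine hmem ((e₁.symm a).1 * (e₂.symm b).1 * (e₁.symm a).1⁻¹ * (e₂.symm b).1⁻¹) ?_ ?_
    · have h := hn₁.conj_mem ⟨_, inv_mem hA⟩ (Subgroup.mem_subgroupOf.2 (inv_mem (e₁.symm a).2)) ⟨_, hB⟩
      rw [Subgroup.mem_subgroupOf] at h
      simpa [mul_assoc] using mul_mem (e₁.symm a).2 h
    · have h := hn₂.conj_mem ⟨_, hB⟩ (Subgroup.mem_subgroupOf.2 (e₂.symm b).2) ⟨_, hA⟩
      rw [Subgroup.mem_subgroupOf] at h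
      simpa [mul_assoc] using mul_mem h (inv_mem (e₂.symm b).2)
  refine ⟨f₁.noncommCoprod f₂ fun a b => hcomm a b, ?_, ?_, ?_, ?_, ?_, ?_⟩
  · show f₁ 1 * f₂ (-1) = z
    rw [map_one, one_mul, n2]
  · show f₁ (-1) * f₂ 1 = z
    rw [map_one, mul_one, n1]
  · show f₁ (-1) * f₂ (-1) = 1
    rw [n1, n2, hz]
  · rintro ⟨a, b⟩ h
    change f₁ a * f₂ b = 1 at h
    rw [mul_eq_one_iff_eq_inv] at h
    have he : ((e₁.symm a).1 : H) = ((e₂.symm b).1)⁻¹ := Subtype.ext h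
    have hi : ((e₁.symm a).1 : H) ∈ H₂ := he ▸ inv_mem (e₂.symm b).2
    rcases hmem _ (e₁.symm a).2 hi with h1 | h1
    · have ha : a = 1 := i1 (h1.trans (map_one f₁).symm)
      subst ha
      rw [map_one] at h
      exact Or.inl (Prod.ext rfl (i2 (by rw [← inv_inv (f₂ b), ← h, inv_one]; exact (map_one f₂).symm)))
    · have ha : a = -1 := i1 (h1.trans n1.symm)
      subst ha
      rw [n1] at h
      exact Or.inr (Prod.ext rfl (i2 (by rw [← inv_inv (f₂ b), ← h, n2]; exact inv_eq_of_mul_eq_one_right hz)))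
  · rintro ⟨a, b⟩
    show f₁ a * f₂ b * z = z * (f₁ a * f₂ b)
    rw [mul_assoc, m2, ← mul_assoc, m1, mul_assoc]
  · refine le_antisymm ?_ ?_
    · rintro x ⟨⟨a, b⟩, rfl⟩
      exact Subgroup.mem_map.2 ⟨(e₁.symm a).1 * (e₂.symm b).1,
        mul_mem (Subgroup.mem_sup_left (e₁.symm a).2) (Subgroup.mem_sup_right (e₂.symm b).2), rfl⟩
    · rw [Subgroup.map_sup]
      refine sup_le ?_ ?_
      · rintro x ⟨h, hh, rfl⟩
        exact ⟨(e₁ ⟨h, hh⟩, 1), by simp [MonoidHom.noncommCoprod_apply, f₁, f₂]⟩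
      · rintro x ⟨h, hh, rfl⟩
        exact ⟨(1, e₂ ⟨h, hh⟩), by simp [MonoidHom.noncommCoprod_apply, f₁, f₂]⟩

variable {φ : SL23 × SL23 →* G}

/-- the core is the product of the quaternion groups -/
theorem core_mem [Finite G] (K : Subgroup H) (hr : φ.range = K.map H.subtype)
    (hker : ∀ p, φ p = 1 → p = 1 ∨ p = (-1, -1)) (x : H) :
    x ∈ (Cfsg.pCore 2 ↥K).map K.subtype ↔ ∃ p : SL23 × SL23, φ p = x ∧ p.1 ^ 4 = 1 ∧ p.2 ^ 4 = 1 := by
  have memK : ∀ c : H, c ∈ K ↔ ∃ p, φ p = c := fun c => by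
    rw [← MonoidHom.mem_range, hr, Subgroup.mem_map]
    exact ⟨fun h => ⟨c, h, rfl⟩, fun ⟨d, hd, he⟩ => Subtype.coe_injective he ▸ hd⟩
  constructor
  · rintro ⟨k, hk, rfl⟩
    obtain ⟨⟨a, b⟩, hp⟩ := (memK k.1).1 k.2
    obtain ⟨n, hn⟩ := CfsgLib.Components.pCore_isPGroup 2 ⟨k, hk⟩
    refine ⟨(a, b), hp, ?_⟩
    have hk1 : φ ((a, b) ^ 2 ^ n) = 1 := by
      rw [map_pow, hp]
      have := congrArg (fun t : Cfsg.pCore 2 ↥K => (((t : ↥K) : H) : G)) hn
      simpa using this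
    have hpow : (a, b) ^ 2 ^ (n + 1) = 1 := by
      rw [pow_succ, pow_mul]
      rcases hker _ hk1 with h | h <;> rw [h]
      · exact one_pow 2
      · simp [pow_two]
    exact ⟨sl_pow_two_pow (n + 1) (congrArg Prod.fst hpow), sl_pow_two_pow (n + 1) (congrArg Prod.snd hpow)⟩
  · rintro ⟨p, hp, hpq⟩
    let N : Subgroup ↥K :=
      { carrier := {k | ∃ p : SL23 × SL23, φ p = ((k : H) : G) ∧ p.1 ^ 4 = 1 ∧ p.2 ^ 4 = 1}
        one_mem' := ⟨1, by simp, by simp, by simp⟩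
        mul_mem' := by
          rintro k l ⟨p, hp, hp1, hp2⟩ ⟨q, hq, hq1, hq2⟩
          exact ⟨p * q, by rw [map_mul, hp, hq]; rfl, (sl_quat (x := q.1) hp1).2 hq1, (sl_quat (x := q.2) hp2).2 hq2⟩
        inv_mem' := by
          rintro k ⟨p, hp, hp1, hp2⟩
          exact ⟨p⁻¹, by rw [map_inv, hp]; rfl, by rw [Prod.fst_inv, inv_pow, hp1, inv_one],
            by rw [Prod.snd_inv, inv_pow, hp2, inv_one]⟩ }
    have hN : N.Normal := by
      refine ⟨?_⟩
      rintro k ⟨q, hq, hq1, hq2⟩ l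
      obtain ⟨r, hr'⟩ := (memK l.1).1 l.2
      exact ⟨r * q * r⁻¹, by rw [map_mul, map_mul, map_inv, hr', hq]; rfl, (sl_quat (x := r.1) hq1).1,
        (sl_quat (x := r.2) hq2).1⟩
    have hNp : IsPGroup 2 N := by
      rintro ⟨k, q, hq, hq1, hq2⟩
      refine ⟨2, Subtype.ext (Subtype.ext (Subtype.ext ?_))⟩
      show ((k : H) : G) ^ 2 ^ 2 = 1
      rw [← hq, ← map_pow, show q ^ 2 ^ 2 = 1 from Prod.ext hq1 hq2, map_one]
    exact ⟨⟨x, (memK x).2 ⟨p, hp⟩⟩, CfsgLib.Components.le_pCore hN hNp ⟨p, hp, hpq⟩, rfl⟩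

/-- elements centralising the whole product -/
theorem product_center (hker : ∀ p, φ p = 1 → p = 1 ∨ p = (-1, -1)) {p : SL23 × SL23}
    (h : ∀ q, φ p * φ q = φ q * φ p) : (p.1 = 1 ∨ p.1 = -1) ∧ (p.2 = 1 ∨ p.2 = -1) := by
  have key : ∀ q, φ ((p * q)⁻¹ * (q * p)) = 1 := fun q => by
    rw [map_mul, map_inv, map_mul, map_mul, h, inv_mul_cancel]
  refine ⟨sl_center fun x => ?_, sl_center fun y => ?_⟩
  · rcases hker _ (key (x, 1)) with e | e
    · have := congrArg Prod.fst e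
      simp only [Prod.fst_mul, Prod.fst_inv, Prod.fst_one, inv_mul_eq_one] at this
      exact this
    · exact absurd (by simpa using (congrArg Prod.snd e).symm) neg_one_ne
  · rcases hker _ (key (1, y)) with e | e
    · have := congrArg Prod.snd e
      simp only [Prod.snd_mul, Prod.snd_inv, Prod.snd_one, inv_mul_eq_one] at this
      exact this
    · exact absurd (by simpa using (congrArg Prod.fst e).symm) neg_one_ne

/-- involutions of the product outside the centre are conjugate to the standard one -/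
theorem involution_conj (hz1 : φ (1, -1) = z) (hz2 : φ (-1, 1) = z) (hneg : φ (-1, -1) = 1)
    (hker : ∀ p, φ p = 1 → p = 1 ∨ p = (-1, -1)) {p : SL23 × SL23} (hsq : φ (p * p) = 1) (h1 : φ p ≠ 1) (h2 : φ p ≠ z) :
    ∃ q, φ q * φ p * (φ q)⁻¹ = kx' φ iu := by
  obtain ⟨a, b⟩ := p
  rcases hker _ hsq with h | h
  · exfalso
    rcases sl_sq_one (congrArg Prod.fst h) with rfl | rfl <;> rcases sl_sq_one (congrArg Prod.snd h) with rfl | rfl
    · exact h1 (map_one φ)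
    · exact h2 hz1
    · exact h2 hz2
    · exact h1 hneg
  · obtain ⟨x, hx⟩ := sl_four_conj (congrArg Prod.fst h)
    obtain ⟨y, hy⟩ := sl_four_conj (congrArg Prod.snd h)
    refine ⟨(x, y), ?_⟩
    rw [← map_mul, ← map_inv, ← map_mul, kx', show xa iu = 1 by decide +kernel, show xb iu = 1 by decide +kernel]
    exact congrArg φ (Prod.ext hx hy)

/-- The data from the centraliser. -/
theorem exists_base_aux [Finite G] (hz : orderOf z = 2) (memH : ∀ c, c ∈ H ↔ c * z = z * c)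
    (hHc : Subgroup.centralizer ({z} : Set G) = H)
    (H₁ H₂ : Subgroup H) (hK : H₁ ⊔ H₂ = Subgroup.closure {x : H | Odd (orderOf x)})
    (hn₁ : (H₁.subgroupOf (H₁ ⊔ H₂)).Normal) (hn₂ : (H₂.subgroupOf (H₁ ⊔ H₂)).Normal)
    (e₁ : H₁ ≃* SL23) (e₂ : H₂ ≃* SL23) (hmeet : (H₁ ⊓ H₂).map H.subtype = Subgroup.zpowers z)
    (Q : Subgroup H) (hQ : Q = (Cfsg.pCore 2 ↥(H₁ ⊔ H₂)).map (Subgroup.subtype (H₁ ⊔ H₂)))
    (hF : Cfsg.generalizedFittingSubgroup H = Q)
    (hnwc : ∃ g : G, (∃ hq : g * z * g⁻¹ ∈ H, (⟨g * z * g⁻¹, hq⟩ : H) ∈ Q) ∧ g * z * g⁻¹ ≠ z)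
    (hH : Nat.card H = 2 ^ 7 * 3 ^ 2)
    (hQQg : ∀ g : G, g * z * g⁻¹ ∈ Q.map H.subtype → g * z * g⁻¹ ≠ z →
      Nat.card ↥((Q.map H.subtype) ⊓ (Q.map H.subtype).map (MulAut.conj g).toMonoidHom) = 4) :
    Nonempty (Base G) := by
  classical
  have hzz : z * z = 1 := by rw [← pow_two, ← hz, pow_orderOf_eq_one]
  have hzne : z ≠ 1 := fun h => by rw [h, orderOf_one] at hz; norm_num at hz
  obtain ⟨φ, hz1, hz2, hneg, hker, hφz, hr⟩ := exists_product hzz hzne memH H₁ H₂ hn₁ hn₂ e₁ e₂ hmeet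
  have memK : ∀ c : H, c ∈ H₁ ⊔ H₂ ↔ ∃ p, φ p = c := fun c => by
    rw [← MonoidHom.mem_range, hr, Subgroup.mem_map]
    exact ⟨fun h => ⟨c, h, rfl⟩, fun ⟨d, hd, he⟩ => Subtype.coe_injective he ▸ hd⟩
  have hQmem : ∀ x : H, x ∈ Q ↔ ∃ p : SL23 × SL23, φ p = x ∧ p.1 ^ 4 = 1 ∧ p.2 ^ 4 = 1 := fun x => by
    rw [hQ]; exact core_mem (H₁ ⊔ H₂) hr hker x
  have hKn : ∀ (c h : H), h ∈ H₁ ⊔ H₂ → c * h * c⁻¹ ∈ H₁ ⊔ H₂ := by
    intro c h hh
    rw [hK] at hh ⊢
    have hle : (Subgroup.closure {x : H | Odd (orderOf x)}).map (MulAut.conj c).toMonoidHom ≤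
        Subgroup.closure {x : H | Odd (orderOf x)} := by
      rw [MonoidHom.map_closure, Subgroup.closure_le]
      rintro y ⟨x, hx, rfl⟩
      refine Subgroup.subset_closure ?_
      show Odd (orderOf ((MulAut.conj c).toMonoidHom x))
      rw [orderOf_injective (MulAut.conj c).toMonoidHom (MulAut.conj c).injective x]
      exact hx
    exact hle ⟨h, hh, rfl⟩
  have hcent : ∀ c, c * z = z * c → (∀ p, c * φ p = φ p * c) → c = 1 ∨ c = z := by
    intro c hc hall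
    have hcQ : (⟨c, (memH c).2 hc⟩ : H) ∈ Q := by
      rw [← hF]
      refine CfsgLib.Components.centralizer_gFitting_le (Subgroup.mem_centralizer_iff.2 fun y hy => ?_)
      rw [SetLike.mem_coe, hF] at hy
      obtain ⟨p, hp, -⟩ := (hQmem y).1 hy
      refine Subtype.ext ?_
      simp only [Subgroup.coe_mul]
      rw [← hp]
      exact (hall p).symm
    obtain ⟨⟨a, b⟩, hp, -⟩ := (hQmem _).1 hcQ
    obtain ⟨ha, hb⟩ := product_center hker (p := (a, b)) fun q => by rw [hp]; exact hall q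
    simp only at hp ha hb
    rcases ha with rfl | rfl <;> rcases hb with rfl | rfl
    · exact Or.inl (hp.symm.trans (map_one φ))
    · exact Or.inr (hp.symm.trans hz1)
    · exact Or.inr (hp.symm.trans hz2)
    · exact Or.inl (hp.symm.trans hneg)
  -- a conjugate in the core
  have hconjsq : ∀ g : G, g * z * g⁻¹ * (g * z * g⁻¹) = 1 := fun g => by
    calc g * z * g⁻¹ * (g * z * g⁻¹) = g * (z * z) * g⁻¹ := by group
      _ = 1 := by rw [hzz]; group
  have hconjne : ∀ g : G, g * z * g⁻¹ ≠ 1 := fun g h => hzne (by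
    calc z = g⁻¹ * (g * z * g⁻¹) * g := by group
      _ = 1 := by rw [h]; group)
  have hfix : ∀ g : G, ∀ p, φ p = g * z * g⁻¹ → g * z * g⁻¹ ≠ z → ∃ q, φ q * (g * z * g⁻¹) * (φ q)⁻¹ = kx' φ iu := by
    intro g p hp hne
    rw [← hp] at hne ⊢
    exact involution_conj hz1 hz2 hneg hker (by rw [map_mul, hp, hconjsq]) (by rw [hp]; exact hconjne g) hne
  obtain ⟨g₀, ⟨hg₀, hg₀Q⟩, hg₀ne⟩ := hnwc
  obtain ⟨p₀, hp₀, -⟩ := (hQmem _).1 hg₀Q
  obtain ⟨q₀, hq₀⟩ := hfix g₀ p₀ hp₀ hg₀ne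
  set g₁ := φ q₀ * g₀ with hg₁
  have hg₁z : g₁ * z * g₁⁻¹ = kx' φ iu := by rw [← hq₀, hg₁]; group
  have hz' : z = g₁⁻¹ * kx' φ iu * g₁ := by rw [← hg₁z]; group
  have hiu : kx' φ iu = φ (sl 1, sl 1) := by
    rw [kx', show xa iu = 1 by decide +kernel, show xb iu = 1 by decide +kernel]
  have hune : kx' φ iu ≠ z := fun h => by
    rw [hiu, ← hz1, ← inv_mul_eq_one, ← map_inv, ← map_mul] at h
    rcases hker _ h with e | e
    · have := congrArg Prod.fst e
      simp only [Prod.fst_mul, Prod.fst_inv, Prod.fst_one, mul_one, inv_eq_one] at this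
      exact absurd this (by decide +kernel)
    · have := congrArg Prod.fst e
      simp only [Prod.fst_mul, Prod.fst_inv, mul_one] at this
      exact absurd this (by decide +kernel)
  -- the involution lies in the conjugate core
  obtain ⟨j, hj, hi2⟩ := exists_anticomm
  have hcr : ∀ p, φ p * φ (sl 1, sl 1) = φ (sl 1, sl 1) * φ p → g₁⁻¹ * φ p * g₁ ∈ H := by
    intro p hp
    rw [memH, hz', hiu]
    calc g₁⁻¹ * φ p * g₁ * (g₁⁻¹ * φ (sl 1, sl 1) * g₁) = g₁⁻¹ * (φ p * φ (sl 1, sl 1)) * g₁ := by group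
      _ = _ := by rw [hp]; group
  have hX : φ (sl 1, 1) * φ (sl 1, sl 1) = φ (sl 1, sl 1) * φ (sl 1, 1) := by
    rw [← map_mul, ← map_mul]; simp
  have hY : φ (j, j) * φ (sl 1, sl 1) = φ (sl 1, sl 1) * φ (j, j) := by
    rw [← map_mul, ← map_mul, Prod.mk_mul_mk, Prod.mk_mul_mk, hj,
      show ((-(j * sl 1), -(j * sl 1)) : SL23 × SL23) = (j * sl 1, j * sl 1) * (-1, -1) by simp, map_mul φ _ (-1, -1),
      hneg, mul_one]
  have hcm : φ (sl 1, 1) * φ (j, j) * (φ (sl 1, 1))⁻¹ * (φ (j, j))⁻¹ = z := by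
    rw [← hz2, ← map_inv, ← map_inv, ← map_mul, ← map_mul, ← map_mul]
    refine congrArg φ (Prod.ext ?_ ?_)
    · simp only [Prod.fst_mul, Prod.fst_inv]
      rw [hj]
      simp [mul_assoc]
    · simp
  set A : H := ⟨_, hcr _ hX⟩ with hAdef
  set B : H := ⟨_, hcr _ hY⟩ with hBdef
  have hcomK : A * B * A⁻¹ * B⁻¹ ∈ H₁ ⊔ H₂ := by
    haveI : (H₁ ⊔ H₂).Normal := ⟨fun h hh c => hKn c h hh⟩
    have hcard : Nat.card (H ⧸ (H₁ ⊔ H₂)) = 2 ^ 2 := by
      have h288 : Nat.card ↥(H₁ ⊔ H₂) = 288 := by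
        rw [← Subgroup.card_map_of_injective H.subtype_injective, ← hr]
        have hk := Subgroup.card_mul_index φ.ker
        rw [Subgroup.index_ker] at hk
        have hk2 : Nat.card φ.ker = 2 := by
          rw [Nat.card_eq_two_iff]
          refine ⟨⟨1, map_one φ⟩, ⟨(-1, -1), hneg⟩, ?_, ?_⟩
          · intro h
            have := congrArg (fun t : φ.ker => t.1.1) h
            exact absurd this neg_one_ne.symm
          · refine Set.eq_univ_of_forall ?_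
            rintro ⟨p, hp⟩
            rcases hker p hp with rfl | rfl
            · exact Or.inl rfl
            · exact Or.inr rfl
        rw [hk2, Nat.card_prod, card_sl] at hk
        omega
      have := Subgroup.card_eq_card_quotient_mul_card_subgroup (H₁ ⊔ H₂)
      rw [h288, hH] at this
      omega
    haveI := Fact.mk Nat.prime_two
    have hab := IsPGroup.commutative_of_card_eq_prime_sq hcard
    rw [← QuotientGroup.eq_one_iff]
    simp only [QuotientGroup.mk_mul, QuotientGroup.mk_inv]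
    rw [hab (A : H ⧸ (H₁ ⊔ H₂)) B]
    group
  have hAB : ((A * B * A⁻¹ * B⁻¹ : H) : G) = g₁⁻¹ * z * g₁ := by
    simp only [hAdef, hBdef, Subgroup.coe_mul, Subgroup.coe_inv]
    rw [← hcm]
    group
  obtain ⟨p₁, hp₁⟩ := (memK _).1 hcomK
  rw [hAB] at hp₁
  have hne1 : g₁⁻¹ * z * g₁⁻¹⁻¹ ≠ z := by
    intro h
    rw [inv_inv] at h
    refine hune (hg₁z.symm.trans ?_)
    conv_lhs => rw [← h]
    group
  obtain ⟨q₁, hq₁⟩ := hfix g₁⁻¹ p₁ (by rw [inv_inv]; exact hp₁) hne1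
  set g := g₁ * (φ q₁)⁻¹ with hgdef
  have hgz : g * z * g⁻¹ = kx' φ iu := by
    rw [← hg₁z, hgdef]
    calc g₁ * (φ q₁)⁻¹ * z * (g₁ * (φ q₁)⁻¹)⁻¹ = g₁ * ((φ q₁)⁻¹ * (z * φ q₁)) * g₁⁻¹ := by group
      _ = _ := by rw [← hφz q₁]; group
  have hgu : g * kx' φ iu * g⁻¹ = z := by rw [← hq₁, hgdef, inv_inv]; group
  refine ⟨{ z := z, φ := φ, hz := hz, phi_z := hz1, phi_neg := hneg, phi_ker := hker, phi_comm := hφz
            phi_normal := ?_, phi_cent := hcent, card_cent := by rw [hHc, hH]; norm_num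
            g := g, g_z := hgz, g_u := hgu, inter := ?_ }⟩
  · intro c hc p
    have hpK : (⟨φ p, (memH _).2 (hφz p)⟩ : H) ∈ H₁ ⊔ H₂ := (memK _).2 ⟨p, rfl⟩
    obtain ⟨p', hp'⟩ := (memK _).1 (hKn ⟨c, (memH c).2 hc⟩ _ hpK)
    exact ⟨p', hp'.symm⟩
  · intro i hi k hk he
    set QG := Q.map H.subtype with hQG
    have hmQ : ∀ i ∈ qList, kx' φ i ∈ QG := fun i hi => by
      have hm : φ (sl (xa i), sl (xb i)) ∈ H := (memH _).2 (hφz _)
      have hq : (⟨φ (sl (xa i), sl (xb i)), hm⟩ : H) ∈ Q :=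
        (hQmem _).2 ⟨(sl (xa i), sl (xb i)), rfl, q_pow4 hi⟩
      exact Subgroup.mem_map_of_mem H.subtype hq
    have hV : iu ∈ qList ∧ 48 ∈ qList ∧ 0 ∈ qList ∧ kmul 48 iu ∈ qList ∧ mul 48 iu = kmul 48 iu := by decide +kernel
    have h4 := hQQg g (by rw [hgz]; exact hmQ _ hV.1) (by rw [hgz]; exact hune)
    set W := QG ⊓ QG.map (MulAut.conj g).toMonoidHom with hW
    have hk48 : kx' φ 48 = z := by
      rw [kx', show xa 48 = 0 from rfl, show xb 48 = 12 from rfl, sl_zero, sl_twelve, hz1]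
    have hk0 : kx' φ 0 = 1 := by
      rw [kx', show xa 0 = 0 from rfl, show xb 0 = 0 from rfl, sl_zero]; exact map_one φ
    have hkv : kx' φ (kmul 48 iu) = z * kx' φ iu := by
      rw [hiu, ← hz1, ← map_mul, kx', show xa (kmul 48 iu) = 1 by decide +kernel,
        show xb (kmul 48 iu) = ng 1 by decide +kernel, sl_ng (by norm_num)]
      simp
    have mW : ∀ a ∈ qList, (∃ b ∈ qList, g * kx' φ b * g⁻¹ = kx' φ a) → kx' φ a ∈ W := fun a ha ⟨b, hb, hab⟩ =>
      Subgroup.mem_inf.2 ⟨hmQ a ha, Subgroup.mem_map.2 ⟨_, hmQ b hb, by simpa using hab⟩⟩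
    have hinj : ∀ a ∈ qList, ∀ b ∈ qList, kx' φ a = kx' φ b → a = b := by
      intro a ha b hb h
      rw [kx', kx', ← inv_mul_eq_one, ← map_inv, ← map_mul] at h
      have h1 := (q_isK ha)
      have h2 := (q_isK hb)
      have la := xa_lt h1.1
      have lb := xa_lt h2.1
      rcases hker _ h with e | e
      · rw [inv_mul_eq_one, Prod.mk.injEq] at e
        rw [← can_parts h1, ← can_parts h2, sl_inj (by omega) (by omega) e.1, sl_inj (xb_lt a) (xb_lt b) e.2]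
      · exfalso
        have e' := congrArg Prod.fst e
        simp only [Prod.fst_mul, Prod.fst_inv, inv_mul_eq_iff_eq_mul, mul_neg, mul_one] at e'
        rw [← sl_ng (by omega)] at e'
        have := sl_inj (by omega) (ng_lt _) e'
        simp only [ng] at this
        omega
    haveI := Fintype.ofFinite W
    let T : Finset W :=
      {⟨1, one_mem W⟩, ⟨z, hk48 ▸ mW 48 hV.2.1 ⟨iu, hV.1, by rw [hgu, hk48]⟩⟩,
        ⟨kx' φ iu, mW iu hV.1 ⟨48, hV.2.1, by rw [hk48, hgz]⟩⟩,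
        ⟨z * kx' φ iu, hkv ▸ mW _ hV.2.2.2.1 ⟨kmul 48 iu, hV.2.2.2.1, by
          have hcz : kx' φ iu * z = z * kx' φ iu := hφz _
          rw [hkv]
          calc g * (z * kx' φ iu) * g⁻¹ = g * z * g⁻¹ * (g * kx' φ iu * g⁻¹) := by group
            _ = _ := by rw [hgz, hgu, hcz]⟩⟩}
    have hT : T = Finset.univ := by
      refine Finset.eq_univ_of_card _ ?_
      rw [← Nat.card_eq_fintype_card, h4]
      have hune1 : kx' φ iu ≠ 1 := fun h => hconjne g (hgz.trans h)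
      have hm : z * kx' φ iu ≠ 1 ∧ z * kx' φ iu ≠ z ∧ z * kx' φ iu ≠ kx' φ iu :=
        ⟨fun h => hune (by rw [eq_inv_of_mul_eq_one_right h, inv_eq_of_mul_eq_one_right hzz]),
          fun h => hune1 (mul_eq_left.1 h), fun h => hzne (mul_eq_right.1 h)⟩
      simp only [T]
      rw [Finset.card_insert_of_notMem, Finset.card_insert_of_notMem, Finset.card_insert_of_notMem,
        Finset.card_singleton]
      all_goals simp [Subtype.ext_iff, hzne, hzne.symm, hune, hune.symm, hune1, hune1.symm, hm.1, hm.1.symm, hm.2.1,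
        hm.2.1.symm, hm.2.2, hm.2.2.symm]
    have hmem : (⟨_, mW k hk ⟨i, hi, he⟩⟩ : W) ∈ T := hT ▸ Finset.mem_univ _
    simp only [T, Finset.mem_insert, Finset.mem_singleton, Subtype.ext_iff] at hmem
    rcases hmem with e | e | e | e
    · exact Or.inl (hinj _ hk _ hV.2.2.1 (e.trans hk0.symm))
    · exact Or.inr (Or.inl (hinj _ hk _ hV.2.1 (e.trans hk48.symm)))
    · exact Or.inr (Or.inr (Or.inl (hinj _ hk _ hV.1 e)))
    · exact Or.inr (Or.inr (Or.inr ((hinj _ hk _ hV.2.2.2.1 (e.trans hkv.symm)).trans hV.2.2.2.2.symm)))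

end

/-- The data from the hypotheses as stated. -/
theorem exists_base {G : Type*} [Group G] [Finite G] (z : G) (hz : orderOf z = 2)
    (H₁ H₂ : Subgroup (Subgroup.centralizer ({z} : Set G)))
    (hK : H₁ ⊔ H₂ = Subgroup.closure {x : Subgroup.centralizer ({z} : Set G) | Odd (orderOf x)})
    (hn₁ : (H₁.subgroupOf (H₁ ⊔ H₂)).Normal) (hn₂ : (H₂.subgroupOf (H₁ ⊔ H₂)).Normal)
    (e₁ : H₁ ≃* SL23) (e₂ : H₂ ≃* SL23)
    (hmeet : (H₁ ⊓ H₂).map (Subgroup.subtype (Subgroup.centralizer ({z} : Set G))) = Subgroup.zpowers z)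
    (Q : Subgroup (Subgroup.centralizer ({z} : Set G)))
    (hQ : Q = (Cfsg.pCore 2 ↥(H₁ ⊔ H₂)).map (Subgroup.subtype (H₁ ⊔ H₂)))
    (hF : Cfsg.generalizedFittingSubgroup (Subgroup.centralizer ({z} : Set G)) = Q)
    (hnwc : ∃ g : G, (∃ hq : g * z * g⁻¹ ∈ Subgroup.centralizer ({z} : Set G),
      (⟨g * z * g⁻¹, hq⟩ : Subgroup.centralizer ({z} : Set G)) ∈ Q) ∧ g * z * g⁻¹ ≠ z)
    (hH : Nat.card ↥(Subgroup.centralizer ({z} : Set G)) = 2 ^ 7 * 3 ^ 2)
    (hQQg : ∀ g : G, g * z * g⁻¹ ∈ Q.map (Subgroup.subtype (Subgroup.centralizer ({z} : Set G))) → g * z * g⁻¹ ≠ z →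
      Nat.card ↥((Q.map (Subgroup.subtype (Subgroup.centralizer ({z} : Set G)))) ⊓
        (Q.map (Subgroup.subtype (Subgroup.centralizer ({z} : Set G)))).map (MulAut.conj g).toMonoidHom) = 4) :
    Nonempty (Base G) :=
  exists_base_aux hz (fun _ => Subgroup.mem_centralizer_singleton_iff) rfl H₁ H₂ hK hn₁ hn₂ e₁ e₂ hmeet Q hQ hF hnwc hH
    hQQg

end CfsgLib.Recog.UFourThree
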