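import Mathlib
import Cfsg.Agent.Lib.Recog.UFourThree.Setup

set_option autoImplicit false
set_option maxRecDepth 100000

/-!
# The four group outside the product of the two factors

The group generated by the two conjugate subgroups of order 16 induces all 32 admissible automorphisms; so two
elements act as the standard outer automorphisms (owner: helper22).
-/

namespace CfsgLib.Recog.UFourThree

open CfsgLib.Sporadic

/-- Every vertex hangs below an earlier one. -/
def treeClosed : List (ℕ × ℕ × ℕ) → List ℕ → Bool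
  | [], _ => true
  | (y, p, _) :: t, seen => seen.contains p && treeClosed t (y :: seen)

theorem tree_induction {P : ℕ → Prop} {T : List (ℕ × ℕ × ℕ)} :
    ∀ {seen : List ℕ}, treeClosed T seen = true → (∀ x ∈ seen, P x) →
      (∀ y p j, (y, p, j) ∈ T → P p → P y) → ∀ x ∈ seen ++ T.map Prod.fst, P x := by
  induction T with
  | nil => intro seen _ hs _ x hx; exact hs x (by simpa using hx)
  | cons e T ih =>
    obtain ⟨y, p, j⟩ := e
    intro seen hc hs hstep x hx
    simp only [treeClosed, Bool.and_eq_true, List.contains_iff_mem] at hc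
    refine ih hc.2 (fun a ha => ?_) (fun a b c h => hstep a b c (List.mem_cons_of_mem _ h)) x ?_
    · rcases List.mem_cons.1 ha with rfl | ha
      · exact hstep a p j List.mem_cons_self (hs p hc.1)
      · exact hs a ha
    · simp only [List.map_cons, List.mem_append, List.mem_cons] at hx ⊢
      tauto

/-- the four group in the core -/
def vList : List ℕ := [0, 48, iu, mul 48 iu]

/-- the standard element of the first coset -/
def jElt (q : List ℕ) : ℕ :=
  kmul (kmul (kmul (q.getD 0 0) (q.getD 2 0)) (kmul (q.getD 0 0) (q.getD 0 0)))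
    (kmul (kmul (q.getD 1 0) (q.getD 3 0)) (kmul (q.getD 1 0) (q.getD 1 0)))

/-- the relations for images of the first and third generators -/
def relA (a i j : ℕ) : Bool :=
  Nat.beq (kmul a (kmul a a)) 0 && (Nat.beq (kmul (kmul a i) (kmul (kmul a i) (kmul a i))) 0 &&
    Nat.beq (kmul a j) (kmul j a))

/-- `x` lies in a coset of the four group -/
def inCoset (x r : ℕ) : Bool := vList.any fun v => Nat.beq x (kmul r v)

theorem cands_check :
    (vList.all fun v₁ => vList.all fun v₂ =>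
      let i := kmul (kgens.getD 2 0) v₁
      let j := kmul (kgens.getD 3 0) v₂
      Bool.not (Nat.beq (kmul i j) iu) || (List.range 288).all fun a => Bool.not (relA (4 * a) i j) ||
        (List.range 288).all fun b => Bool.not (relA (4 * b) j i) ||
          (Bool.not (Nat.beq (kmul (4 * a) (4 * b)) (kmul (4 * b) (4 * a))) ||
            (Bool.not (inCoset (jElt [4 * a, 4 * b, i, j]) (jElt kgens)) ||
              cands.contains [4 * a, 4 * b, i, j]))) = true := by decide +kernel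

theorem base_checks : ((vList.all fun v => rList.contains v) &&
    (rList.all fun r => rList.all fun x => inCoset (kmul (kmul r x) (kinv r)) x) &&
    (rList.all fun x => rList.contains (kinv x)) &&
    (rList.all fun r => rList.all fun x => rList.contains (kmul r x)) &&
    ((List.range 288).all fun k => Bool.not (Nat.beq (kmul (kmul (4 * k) (4 * k)) (kmul (4 * k) (4 * k))) 0) ||
      qList.contains (4 * k)) &&
    (qList.all fun x => Nat.beq (kmul (kmul x x) (kmul x x)) 0) &&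
    rList.contains (kgens.getD 2 0) && rList.contains (kgens.getD 3 0) && rList.contains (jElt kgens) &&
    relA (kgens.getD 0 0) (kgens.getD 2 0) (kgens.getD 3 0) &&
    relA (kgens.getD 1 0) (kgens.getD 3 0) (kgens.getD 2 0) &&
    Nat.beq (kmul (kgens.getD 0 0) (kgens.getD 1 0)) (kmul (kgens.getD 1 0) (kgens.getD 0 0)) &&
    Nat.beq (kmul (kgens.getD 2 0) (kgens.getD 3 0)) iu) = true := by decide +kernel

theorem tree_check : (treeClosed kTree [0] && ((List.range 288).all fun k => (0 :: kTree.map Prod.fst).contains (4 * k)) &&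
    (kTree.all fun e => Nat.blt e.2.1 1152 && Nat.beq (xw e.2.1) 0 && Nat.blt e.2.2 4 &&
      Nat.beq (kmul e.2.1 (kgens.getD e.2.2 0)) e.1 &&
      ((List.range 4).all fun w => Nat.beq (act w e.1) (kmul (act w e.2.1) (act w (kgens.getD e.2.2 0))))) &&
    ((List.range 4).all fun w => Nat.beq (act w 0) 0 && cands.contains (kgens.map (act w)) &&
      Nat.beq (act w 48) 48) && Nat.beq cands.length 32 && Nat.beq rList.length 16 && decide rList.Nodup) = true := by
  decide +kernel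

theorem kgens_mem {j : ℕ} (hj : j < 4) : kgens.getD j 0 ∈ kgens := by
  have : j < kgens.length := hj
  rw [List.getD_eq_getElem _ _ this]
  exact List.getElem_mem this

theorem v_mem_r {v : ℕ} (hv : v ∈ vList) : v ∈ rList := by
  have h := base_checks
  simp only [Bool.and_eq_true, List.all_eq_true, List.contains_iff_mem] at h
  exact h.1.1.1.1.1.1.1.1.1.1.1.1 v hv

theorem isK_range {k : ℕ} (hk : k < 288) : IsK (4 * k) := ⟨by omega, by simp [xw]⟩

theorem isK_eq {x : ℕ} (hx : IsK x) : ∃ k < 288, x = 4 * k := by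
  refine ⟨x / 4, ?_, ?_⟩ <;> obtain ⟨h1, h2⟩ := hx <;> simp only [xw] at h2 <;> omega

namespace Base

variable {G : Type*} [Group G] (B : Base G)

theorem kx_induction {P : ℕ → Prop} (h0 : P 0)
    (hs : ∀ p j, IsK p → j < 4 → P p → P (kmul p (kgens.getD j 0))) {x : ℕ} (hx : IsK x) : P x := by
  have h := tree_check
  simp only [Bool.and_eq_true, List.all_eq_true, List.mem_range, List.contains_iff_mem, Nat.blt_eq, Nat.beq_eq] at h
  obtain ⟨⟨⟨⟨⟨⟨h1, h2⟩, h3⟩, -⟩, -⟩, -⟩, -⟩ := h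
  obtain ⟨k, hk, rfl⟩ := isK_eq hx
  refine tree_induction h1 (by simpa using h0) ?_ (4 * k) (by simpa using h2 k hk)
  intro y p j he hp
  obtain ⟨⟨⟨⟨h4, h5⟩, h6⟩, h7⟩, -⟩ := h3 _ he
  dsimp only at h4 h5 h6 h7
  rw [← h7]
  exact hs p j ⟨h4, h5⟩ h6 hp

theorem cent_of_gens {c : G} (hc : c * B.z = B.z * c)
    (h : ∀ j < 4, c * B.kx (kgens.getD j 0) = B.kx (kgens.getD j 0) * c) : c = 1 ∨ c = B.z := by
  refine B.phi_cent c hc fun p => ?_
  obtain ⟨x, hx, hp⟩ := B.exists_kx p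
  rw [hp]
  refine kx_induction (P := fun x => c * B.kx x = B.kx x * c) (by simp [B.kx_one]) ?_ hx
  intro p j hp hj hP
  rw [B.kx_mul hp (kgens_isK (kgens_mem hj)), ← mul_assoc, hP, mul_assoc, h j hj, mul_assoc]

theorem conj_q {c : G} (hc : c * B.z = B.z * c) {x : ℕ} (hx : x ∈ qList) :
    ∃ y ∈ qList, c * B.kx x * c⁻¹ = B.kx y := by
  obtain ⟨y, hy, he⟩ := B.conj_kx hc x
  refine ⟨y, ?_, he⟩
  have h := base_checks
  simp only [Bool.and_eq_true, List.all_eq_true, List.mem_range, Bool.or_eq_true, Bool.not_eq_true',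
    List.contains_iff_mem, Nat.beq_eq] at h
  obtain ⟨⟨⟨⟨⟨⟨⟨⟨⟨-, hq⟩, hq4⟩, -⟩, -⟩, -⟩, -⟩, -⟩, -⟩, -⟩ := h
  obtain ⟨k, hk, rfl⟩ := isK_eq hy
  refine (hq k hk).resolve_left fun hne => ?_
  have h4 : B.kx (kmul (kmul (4 * k) (4 * k)) (kmul (4 * k) (4 * k))) = B.kx 0 := by
    have hxK := q_isK hx
    rw [B.kx_mul (isK_kmul hy hy) (isK_kmul hy hy), B.kx_mul hy hy, ← he]
    have := congrArg B.kx (hq4 x hx)
    rw [B.kx_mul (isK_kmul hxK hxK) (isK_kmul hxK hxK), B.kx_mul hxK hxK] at this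
    rw [show c * B.kx x * c⁻¹ * (c * B.kx x * c⁻¹) * (c * B.kx x * c⁻¹ * (c * B.kx x * c⁻¹)) =
      c * (B.kx x * B.kx x * (B.kx x * B.kx x)) * c⁻¹ by group, this, B.kx_one]
    group
  rw [B.kx_inj (isK_kmul (isK_kmul hy hy) (isK_kmul hy hy)) isK_zero h4] at hne
  simp at hne

/-- the conjugate subgroup -/
def kg (x : ℕ) : G := B.g * B.kx x * B.g⁻¹

theorem r_comm_u {x : ℕ} (hx : x ∈ rList) : B.kx x * B.u = B.u * B.kx x := by
  rw [u, ← B.kx_mul (r_isK hx) iu_isK, ← B.kx_mul iu_isK (r_isK hx), (r_mem_q hx).2]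

theorem kg_comm_z {x : ℕ} (hx : x ∈ rList) : B.kg x * B.z = B.z * B.kg x := by
  rw [kg, ← B.g_u_eq]
  calc B.g * B.kx x * B.g⁻¹ * (B.g * B.u * B.g⁻¹) = B.g * (B.kx x * B.u) * B.g⁻¹ := by group
    _ = _ := by rw [B.r_comm_u hx]; group

theorem kg_comm_u (x : ℕ) : B.kg x * B.u = B.u * B.kg x := by
  rw [kg, ← B.g_z_eq]
  calc B.g * B.kx x * B.g⁻¹ * (B.g * B.z * B.g⁻¹) = B.g * (B.kx x * B.z) * B.g⁻¹ := by group
    _ = _ := by rw [B.kx_comm_z x]; group

theorem g_inv_comm_z {c : G} (hc : c * B.u = B.u * c) :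
    B.g⁻¹ * c * B.g * B.z = B.z * (B.g⁻¹ * c * B.g) := by
  calc B.g⁻¹ * c * B.g * B.z = B.g⁻¹ * (c * (B.g * B.z * B.g⁻¹)) * B.g := by group
    _ = B.g⁻¹ * (B.g * B.z * B.g⁻¹ * c) * B.g := by rw [B.g_z_eq, hc]
    _ = _ := by group

theorem commutator_mem {r s : ℕ} (hr : r ∈ rList) (hs : s ∈ rList) :
    ∃ v ∈ vList, B.kx r * B.kg s * (B.kx r)⁻¹ * (B.kg s)⁻¹ = B.kx v := by
  have hrK := r_isK hr
  have hsK := r_isK hs
  obtain ⟨y, hy, hye⟩ := B.conj_q (B.kg_comm_z hs) (r_mem_q (show kinv r ∈ rList by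
    have h := base_checks
    simp only [Bool.and_eq_true, List.all_eq_true, List.contains_iff_mem] at h
    exact h.1.1.1.1.1.1.1.1.1.1.2 r hr)).1
  have hd : B.g⁻¹ * B.kx r * B.g * B.z = B.z * (B.g⁻¹ * B.kx r * B.g) := B.g_inv_comm_z (B.r_comm_u hr)
  obtain ⟨x, hx, hxe⟩ := B.conj_q hd (r_mem_q hs).1
  have hm : B.kx r * B.kg s * (B.kx r)⁻¹ * (B.kg s)⁻¹ = B.kx (kmul r y) := by
    rw [B.kx_mul hrK (q_isK hy), ← hye, B.kx_inv hrK]
    group
  have hn : B.kx r * B.kg s * (B.kx r)⁻¹ * (B.kg s)⁻¹ = B.kg (kmul x (kinv s)) := by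
    rw [kg, kg, B.kx_mul (q_isK hx) (isK_kinv hsK), B.kx_inv hsK, ← hxe]
    group
  have hq : ∀ a ∈ qList, ∀ b ∈ qList, kmul a b ∈ qList ∧ kinv b ∈ qList := by decide +kernel
  refine ⟨kmul r y, ?_, hm⟩
  have h := B.inter (kmul x (kinv s)) (hq x hx _ (hq x hx s (r_mem_q hs).1).2).1 (kmul r y)
    (hq r (r_mem_q hr).1 y hy).1 (hn.symm.trans hm)
  simpa [vList] using h

theorem coset_kg {x s : ℕ} (hx : x ∈ rList) (hs : s ∈ rList) :
    ∃ v ∈ vList, B.kg s * B.kx x * (B.kg s)⁻¹ = B.kx (kmul x v) := by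
  have hi : kinv x ∈ rList := by
    have h := base_checks
    simp only [Bool.and_eq_true, List.all_eq_true, List.contains_iff_mem] at h
    exact h.1.1.1.1.1.1.1.1.1.1.2 x hx
  obtain ⟨v, hv, he⟩ := B.commutator_mem hi hs
  refine ⟨v, hv, ?_⟩
  rw [B.kx_mul (r_isK hx) (r_isK (v_mem_r hv)), ← he, B.kx_inv (r_isK hx)]
  group

/-- the products -/
noncomputable def prodSet : Finset G :=
  letI := Classical.decEq G
  (rList.toFinset ×ˢ rList.toFinset).image fun p => B.kx p.1 * B.kg p.2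

theorem mem_prodSet {c : G} : c ∈ B.prodSet ↔ ∃ r ∈ rList, ∃ s ∈ rList, c = B.kx r * B.kg s := by
  classical
  simp only [prodSet, Finset.mem_image, Finset.mem_product, List.mem_toFinset, Prod.exists]
  exact ⟨fun ⟨r, s, ⟨h1, h2⟩, h⟩ => ⟨r, h1, s, h2, h.symm⟩, fun ⟨r, h1, s, h2, h⟩ => ⟨r, s, ⟨h1, h2⟩, h.symm⟩⟩

theorem prod_comm_z {c : G} (hc : c ∈ B.prodSet) : c * B.z = B.z * c := by
  obtain ⟨r, _, s, hs, rfl⟩ := B.mem_prodSet.1 hc
  rw [mul_assoc, B.kg_comm_z hs, ← mul_assoc, B.kx_comm_z, mul_assoc]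

theorem prod_coset {c : G} (hc : c ∈ B.prodSet) {x : ℕ} (hx : x ∈ rList) :
    ∃ v ∈ vList, c * B.kx x * c⁻¹ = B.kx (kmul x v) := by
  obtain ⟨r, hr, s, hs, rfl⟩ := B.mem_prodSet.1 hc
  obtain ⟨v, hv, he⟩ := B.coset_kg hx hs
  have hv' := r_isK (v_mem_r hv)
  have hxv := isK_kmul (r_isK hx) hv'
  have hcl : kmul x v ∈ rList ∧ ∀ y ∈ rList, inCoset (kmul (kmul r y) (kinv r)) y = true := by
    have h := base_checks
    simp only [Bool.and_eq_true, List.all_eq_true, List.contains_iff_mem] at h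
    exact ⟨h.1.1.1.1.1.1.1.1.1.2 x hx v (v_mem_r hv), fun y hy => h.1.1.1.1.1.1.1.1.1.1.1.2 r hr y hy⟩
  have hc2 := hcl.2 _ hcl.1
  simp only [inCoset, List.any_eq_true, Nat.beq_eq] at hc2
  obtain ⟨w, hw, hwe⟩ := hc2
  have hcomb : ∀ a ∈ vList, ∀ b ∈ vList, ∃ d ∈ vList, ∀ y ∈ rList, kmul (kmul y a) b = kmul y d := by
    decide +kernel
  obtain ⟨d, hd, hde⟩ := hcomb v hv w hw
  refine ⟨d, hd, ?_⟩
  have h2 := congrArg B.kx hwe
  rw [B.kx_mul (isK_kmul (r_isK hr) hxv) (isK_kinv (r_isK hr)), B.kx_mul (r_isK hr) hxv, B.kx_inv (r_isK hr),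
    hde x hx, ← he] at h2
  rw [← h2]
  group

theorem card_prodSet : 64 ≤ B.prodSet.card := by
  classical
  have hf : ∀ c ∈ B.prodSet, ((rList.toFinset ×ˢ rList.toFinset).filter
      fun p => B.kx p.1 * B.kg p.2 = c).card ≤ 4 := by
    intro c hc
    obtain ⟨r0, hr0, s0, hs0, rfl⟩ := B.mem_prodSet.1 hc
    have h4 : vList.toFinset.card ≤ 4 := (List.toFinset_card_le _).trans (by rfl)
    refine le_trans (Finset.card_le_card_of_injOn (fun p => kmul (kinv r0) p.1) ?_ ?_) h4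
    · intro p hp
      simp only [Finset.mem_coe, Finset.mem_filter, Finset.mem_product, List.mem_toFinset] at hp
      obtain ⟨⟨hr, hs⟩, he⟩ := hp
      simp only [Finset.mem_coe, List.mem_toFinset]
      have hrr : ∀ a ∈ rList, ∀ b ∈ rList, kmul (kinv a) b ∈ qList ∧ kmul a (kinv b) ∈ qList := by decide +kernel
      have h := B.inter (kmul s0 (kinv p.2)) (hrr s0 hs0 p.2 hs).2 (kmul (kinv r0) p.1) (hrr r0 hr0 p.1 hr).1 (by
        show B.g * B.kx _ * B.g⁻¹ = B.kx _
        rw [B.kx_mul (r_isK hs0) (isK_kinv (r_isK hs)), B.kx_inv (r_isK hs),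
          B.kx_mul (isK_kinv (r_isK hr0)) (r_isK hr), B.kx_inv (r_isK hr0)]
        have e : B.kx p.1 = B.kx r0 * B.kg s0 * (B.kg p.2)⁻¹ := eq_mul_inv_of_mul_eq he
        rw [e, kg, kg]
        group)
      simpa [vList] using h
    · intro p hp q hq he
      simp only [Finset.mem_coe, Finset.mem_filter, Finset.mem_product, List.mem_toFinset] at hp hq
      obtain ⟨⟨hr, hs⟩, hpe⟩ := hp
      obtain ⟨⟨hr', hs'⟩, hqe⟩ := hq
      have h1 := congrArg B.kx he
      dsimp only at h1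
      rw [B.kx_mul (isK_kinv (r_isK hr0)) (r_isK hr), B.kx_mul (isK_kinv (r_isK hr0)) (r_isK hr'),
        mul_left_cancel_iff] at h1
      rw [h1] at hpe
      have h2 := mul_left_cancel (hpe.trans hqe.symm)
      rw [kg, kg] at h2
      exact Prod.ext (B.kx_inj (r_isK hr) (r_isK hr') h1)
        (B.kx_inj (r_isK hs) (r_isK hs') (mul_left_cancel (mul_right_cancel h2)))
  have h := Finset.card_le_mul_card_image (f := fun p : ℕ × ℕ => B.kx p.1 * B.kg p.2)
    (rList.toFinset ×ˢ rList.toFinset) 4 hf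
  have hl := tree_check
  simp only [Bool.and_eq_true, Nat.beq_eq, decide_eq_true_eq] at hl
  rw [Finset.card_product, List.toFinset_card_of_nodup hl.2, hl.1.2] at h
  have e : B.prodSet = (rList.toFinset ×ˢ rList.toFinset).image fun p => B.kx p.1 * B.kg p.2 := by
    rw [prodSet]
  rw [e]
  omega

theorem exists_outer : ∃ t s : G, (t * B.z = B.z * t ∧ s * B.z = B.z * s) ∧
    ∀ x, IsK x → t * B.kx x * t⁻¹ = B.kx (act 1 x) ∧ s * B.kx x * s⁻¹ = B.kx (act 2 x) := by
  classical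
  have hgen : ∀ c ∈ B.prodSet, ∀ j < 4, ∃ y, IsK y ∧ c * B.kx (kgens.getD j 0) * c⁻¹ = B.kx y :=
    fun c hc j _ => B.conj_kx (B.prod_comm_z hc) _
  let Φ : G → List ℕ := fun c => (List.range 4).map fun j =>
    if h : ∃ y, IsK y ∧ c * B.kx (kgens.getD j 0) * c⁻¹ = B.kx y then h.choose else 0
  have hΦ : ∀ c ∈ B.prodSet, ∀ j < 4, IsK ((Φ c).getD j 0) ∧
      c * B.kx (kgens.getD j 0) * c⁻¹ = B.kx ((Φ c).getD j 0) := by
    intro c hc j hj
    rw [List.getD_eq_getElem _ _ (by simpa [Φ] using hj)]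
    simp only [Φ, List.getElem_map, List.getElem_range, dif_pos (hgen c hc j hj)]
    exact (hgen c hc j hj).choose_spec
  have hmem : B.prodSet.image Φ ⊆ cands.toFinset := by
    intro l hl
    obtain ⟨c, hc, rfl⟩ := Finset.mem_image.1 hl
    have hb := base_checks
    simp only [Bool.and_eq_true, List.contains_iff_mem, Nat.beq_eq, List.all_eq_true] at hb
    obtain ⟨⟨⟨⟨⟨⟨⟨-, hk2⟩, hk3⟩, hkj⟩, hr0⟩, hr1⟩, h01⟩, h23⟩ := hb
    simp only [relA, Bool.and_eq_true, Nat.beq_eq] at hr0 hr1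
    obtain ⟨kg0, e0⟩ := hΦ c hc 0 (by norm_num)
    obtain ⟨kg1, e1⟩ := hΦ c hc 1 (by norm_num)
    obtain ⟨kg2, e2⟩ := hΦ c hc 2 (by norm_num)
    obtain ⟨kg3, e3⟩ := hΦ c hc 3 (by norm_num)
    obtain ⟨v2, hv2, f2⟩ := B.prod_coset hc hk2
    obtain ⟨v3, hv3, f3⟩ := B.prod_coset hc hk3
    obtain ⟨vj, hvj, fj⟩ := B.prod_coset hc hkj
    have hg : ∀ j < 4, IsK (kgens.getD j 0) := fun j hj => kgens_isK (kgens_mem hj)
    have k0 := hg 0 (by norm_num); have k1 := hg 1 (by norm_num)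
    have k2 := hg 2 (by norm_num); have k3 := hg 3 (by norm_num)
    have hi : (Φ c).getD 2 0 = kmul (kgens.getD 2 0) v2 :=
      B.kx_inj kg2 (isK_kmul k2 (r_isK (v_mem_r hv2))) (e2.symm.trans f2)
    have hj : (Φ c).getD 3 0 = kmul (kgens.getD 3 0) v3 :=
      B.kx_inj kg3 (isK_kmul k3 (r_isK (v_mem_r hv3))) (e3.symm.trans f3)
    let f : G →* G := (MulAut.conj c).toMonoidHom
    have hfz : f (B.kx iu) = B.kx iu := by
      show c * B.u * c⁻¹ = B.u
      obtain ⟨r, hr, s, hs, rfl⟩ := B.mem_prodSet.1 hc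
      rw [mul_inv_eq_iff_eq_mul, mul_assoc, B.kg_comm_u, ← mul_assoc, B.r_comm_u hr, mul_assoc]
    have hA : ∀ {a i j A I J : ℕ}, IsK a → IsK i → IsK j → IsK A → IsK I → IsK J → f (B.kx a) = B.kx A →
        f (B.kx i) = B.kx I → f (B.kx j) = B.kx J → relA a i j = true → relA A I J = true := by
      intro a i j A I J ha hi hj hA hI hJ fa fi fj h
      simp only [relA, Bool.and_eq_true, Nat.beq_eq] at h ⊢
      obtain ⟨h1, h2, h3⟩ := h
      refine ⟨B.kx_inj (isK_kmul hA (isK_kmul hA hA)) isK_zero ?_,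
        B.kx_inj (isK_kmul (isK_kmul hA hI) (isK_kmul (isK_kmul hA hI) (isK_kmul hA hI))) isK_zero ?_,
        B.kx_inj (isK_kmul hA hJ) (isK_kmul hJ hA) ?_⟩
      · have := congrArg (fun x => f (B.kx x)) h1
        simpa [B.kx_mul, isK_kmul, ha, hA, B.kx_one, fa] using this
      · have := congrArg (fun x => f (B.kx x)) h2
        simp only [B.kx_mul (isK_kmul ha hi) (isK_kmul (isK_kmul ha hi) (isK_kmul ha hi)),
          B.kx_mul (isK_kmul ha hi) (isK_kmul ha hi), B.kx_mul ha hi, map_mul, B.kx_one, map_one, fa, fi] at this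
        rw [B.kx_mul (isK_kmul hA hI) (isK_kmul (isK_kmul hA hI) (isK_kmul hA hI)),
          B.kx_mul (isK_kmul hA hI) (isK_kmul hA hI), B.kx_mul hA hI, B.kx_one]
        exact this
      · have := congrArg (fun x => f (B.kx x)) h3
        simpa [B.kx_mul, ha, hA, hj, hJ, fa, fj] using this
    have r0 : relA ((Φ c).getD 0 0) ((Φ c).getD 2 0) ((Φ c).getD 3 0) = true :=
      hA k0 k2 k3 kg0 kg2 kg3 e0 e2 e3 (by simp only [relA, Bool.and_eq_true, Nat.beq_eq]; exact hr0)
    have r1 : relA ((Φ c).getD 1 0) ((Φ c).getD 3 0) ((Φ c).getD 2 0) = true :=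
      hA k1 k3 k2 kg1 kg3 kg2 e1 e3 e2 (by simp only [relA, Bool.and_eq_true, Nat.beq_eq]; exact hr1)
    have c01 : kmul ((Φ c).getD 0 0) ((Φ c).getD 1 0) = kmul ((Φ c).getD 1 0) ((Φ c).getD 0 0) := by
      refine B.kx_inj (isK_kmul kg0 kg1) (isK_kmul kg1 kg0) ?_
      have := congrArg (fun x => f (B.kx x)) h01
      simp only [B.kx_mul k0 k1, B.kx_mul k1 k0, map_mul] at this
      rw [B.kx_mul kg0 kg1, B.kx_mul kg1 kg0, ← e0, ← e1]
      exact this
    have c23 : kmul ((Φ c).getD 2 0) ((Φ c).getD 3 0) = iu := by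
      refine B.kx_inj (isK_kmul kg2 kg3) iu_isK ?_
      have := congrArg (fun x => f (B.kx x)) h23
      simp only [B.kx_mul k2 k3, map_mul] at this
      rw [B.kx_mul kg2 kg3, ← e2, ← e3]
      exact this.trans hfz
    have cj : inCoset (jElt (Φ c)) (jElt kgens) = true := by
      simp only [inCoset, List.any_eq_true, Nat.beq_eq]
      refine ⟨vj, hvj, ?_⟩
      refine B.kx_inj ?_ (isK_kmul (r_isK hkj) (r_isK (v_mem_r hvj))) ?_
      · unfold jElt
        exact isK_kmul (isK_kmul (isK_kmul kg0 kg2) (isK_kmul kg0 kg0))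
          (isK_kmul (isK_kmul kg1 kg3) (isK_kmul kg1 kg1))
      · rw [← fj]
        rw [jElt, jElt, B.kx_mul (isK_kmul (isK_kmul kg0 kg2) (isK_kmul kg0 kg0))
            (isK_kmul (isK_kmul kg1 kg3) (isK_kmul kg1 kg1)),
          B.kx_mul (isK_kmul kg0 kg2) (isK_kmul kg0 kg0), B.kx_mul (isK_kmul kg1 kg3) (isK_kmul kg1 kg1),
          B.kx_mul kg0 kg2, B.kx_mul kg0 kg0, B.kx_mul kg1 kg3, B.kx_mul kg1 kg1,
          B.kx_mul (isK_kmul (isK_kmul k0 k2) (isK_kmul k0 k0)) (isK_kmul (isK_kmul k1 k3) (isK_kmul k1 k1)),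
          B.kx_mul (isK_kmul k0 k2) (isK_kmul k0 k0), B.kx_mul (isK_kmul k1 k3) (isK_kmul k1 k1),
          B.kx_mul k0 k2, B.kx_mul k0 k0, B.kx_mul k1 k3, B.kx_mul k1 k1, ← e0, ← e1, ← e2, ← e3]
        group
    obtain ⟨a, ha, ea⟩ := isK_eq kg0
    obtain ⟨b, hb', eb⟩ := isK_eq kg1
    have h := cands_check
    simp only [List.all_eq_true, List.mem_range, Bool.or_eq_true, Bool.not_eq_true', List.contains_iff_mem] at h
    have hl4 : Φ c = [(Φ c).getD 0 0, (Φ c).getD 1 0, (Φ c).getD 2 0, (Φ c).getD 3 0] := by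
      simp [Φ, List.range_succ]
    rw [List.mem_toFinset, hl4]
    rw [ea, hi, hj] at r0
    rw [eb, hi, hj] at r1
    rw [ea, eb] at c01
    rw [hi, hj] at c23
    rw [hl4, ea, eb, hi, hj] at cj
    rw [ea, eb, hi, hj]
    have hbeq : ∀ n : ℕ, Nat.beq n n = true := fun n => by simp
    rcases h v2 hv2 v3 hv3 with h | h
    · rw [c23, hbeq] at h; exact absurd h (by decide)
    rcases h a ha with h | h
    · rw [r0] at h; exact absurd h (by decide)
    rcases h b hb' with h | h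
    · rw [r1] at h; exact absurd h (by decide)
    rcases h with h | h
    · rw [c01, hbeq] at h; exact absurd h (by decide)
    rcases h with h | h
    · rw [cj] at h; exact absurd h (by decide)
    exact h
  have hfib : ∀ l ∈ B.prodSet.image Φ, (B.prodSet.filter fun c => Φ c = l).card ≤ 2 := by
    intro l hl
    obtain ⟨d, hd, rfl⟩ := Finset.mem_image.1 hl
    refine (Finset.card_le_card (t := {d, d * B.z}) fun c hc => ?_).trans Finset.card_le_two
    rw [Finset.mem_filter] at hc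
    have hz : d⁻¹ * c * B.z = B.z * (d⁻¹ * c) := by
      rw [mul_assoc, B.prod_comm_z hc.1, ← mul_assoc]
      have := B.prod_comm_z hd
      rw [← mul_assoc]
      congr 1
      exact (Commute.inv_left this).eq
    have h := B.cent_of_gens hz fun j hj => by
      have h1 := (hΦ c hc.1 j hj).2
      rw [hc.2, ← (hΦ d hd j hj).2, mul_inv_eq_iff_eq_mul] at h1
      rw [mul_assoc, h1]
      group
    rcases h with h | h
    · rw [inv_mul_eq_one] at h
      simp [h]
    · rw [inv_mul_eq_iff_eq_mul] at h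
      simp [h]
  have himg : B.prodSet.image Φ = cands.toFinset := by
    refine Finset.eq_of_subset_of_card_le hmem ?_
    have h1 := Finset.card_le_mul_card_image (f := Φ) B.prodSet 2 hfib
    have h2 := B.card_prodSet
    have h3 : cands.toFinset.card ≤ 32 := (List.toFinset_card_le _).trans (le_of_eq rfl)
    omega
  have ht := tree_check
  simp only [Bool.and_eq_true, List.all_eq_true, List.mem_range, List.contains_iff_mem, Nat.beq_eq] at ht
  obtain ⟨⟨⟨⟨-, ht4⟩, -⟩, -⟩, -⟩ := ht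
  have key : ∀ w < 4, ∃ c, c * B.z = B.z * c ∧ ∀ x, IsK x → c * B.kx x * c⁻¹ = B.kx (act w x) := by
    intro w hw
    have hm : kgens.map (act w) ∈ cands.toFinset := by simpa using (ht4 w hw).1.2
    rw [← himg, Finset.mem_image] at hm
    obtain ⟨c, hc, he⟩ := hm
    refine ⟨c, B.prod_comm_z hc, fun x hx => ?_⟩
    have hP : ∀ j < 4, c * B.kx (kgens.getD j 0) * c⁻¹ = B.kx (act w (kgens.getD j 0)) := by
      intro j hj
      rw [(hΦ c hc j hj).2, he]
      congr 1
      have : j < kgens.length := hj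
      rw [List.getD_eq_getElem _ _ (by simpa using this), List.getElem_map, List.getD_eq_getElem _ _ this]
    have step : ∀ p j, IsK p → j < 4 →
        act w (kmul p (kgens.getD j 0)) = kmul (act w p) (act w (kgens.getD j 0)) →
        c * B.kx p * c⁻¹ = B.kx (act w p) →
        c * B.kx (kmul p (kgens.getD j 0)) * c⁻¹ = B.kx (act w (kmul p (kgens.getD j 0))) := by
      intro p j hp hj heq hPp
      rw [heq, B.kx_mul hp (kgens_isK (kgens_mem hj)),
        B.kx_mul (isK_act hp.1 w) (isK_act (kgens_isK (kgens_mem hj)).1 w), ← hPp, ← hP j hj]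
      group
    have h := tree_check
    simp only [Bool.and_eq_true, List.all_eq_true, List.mem_range, List.contains_iff_mem, Nat.blt_eq,
      Nat.beq_eq] at h
    obtain ⟨⟨⟨⟨⟨⟨h1, h2⟩, h3⟩, h4⟩, -⟩, -⟩, -⟩ := h
    obtain ⟨k, hk, rfl⟩ := isK_eq hx
    refine tree_induction (P := fun x => c * B.kx x * c⁻¹ = B.kx (act w x)) h1 ?_ ?_ (4 * k)
      (by simpa using h2 k hk)
    · simp [(h4 w hw).1.1, B.kx_one]
    · intro y p j hmem hp
      obtain ⟨⟨⟨⟨p1, p2⟩, p3⟩, p4⟩, p5⟩ := h3 _ hmem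
      dsimp only at p1 p2 p3 p4 p5
      rw [← p4]
      exact step p j ⟨p1, p2⟩ p3 (by rw [p4]; exact p5 w hw) hp
  obtain ⟨t, ht1, ht2⟩ := key 1 (by norm_num)
  obtain ⟨s, hs1, hs2⟩ := key 2 (by norm_num)
  exact ⟨t, s, ⟨ht1, hs1⟩, fun x hx => ⟨ht2 x hx, hs2 x hx⟩⟩

end Base

end CfsgLib.Recog.UFourThree
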