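import Mathlib
import Cfsg.Agent.Lib.Recog.UFourThree.Autom

set_option autoImplicit false
set_option maxRecDepth 100000

/-! Tests on the eight candidate extensions (owner: helper22). -/

namespace CfsgLib.Recog.UFourThree

open CfsgLib.Sporadic

/-- the sign -/
def zp (b : Bool) : ℕ := cond b 48 0

/-- pairs with given squares and commutator -/
def pairsB (e₁ e₂ e₃ : Bool) (p q r x y : ℕ) : Bool :=
  Nat.beq (mulE e₁ e₂ e₃ x x) p && (Nat.beq (mulE e₁ e₂ e₃ y y) q &&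
    Nat.beq (mulE e₁ e₂ e₃ x y) (mulE e₁ e₂ e₃ r (mulE e₁ e₂ e₃ y x)))

/-- counting pairs -/
def countB (e₁ e₂ e₃ : Bool) (L : List ℕ) (p q r : ℕ) : ℕ :=
  (rList.flatMap fun x => L.map fun y => (x, y)).countP fun e => pairsB e₁ e₂ e₃ p q r e.1 e.2

/-- the candidate for the conjugate subgroup -/
def sList' (e₁ e₂ e₃ : Bool) (a b : ℕ) : List ℕ :=
  vList.flatMap fun v => [0, a, b, mulE e₁ e₂ e₃ a b].map fun w => mulE e₁ e₂ e₃ v w

/-- a candidate passes -/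
def passB (e₁ e₂ e₃ : Bool) (a b : ℕ) : Bool :=
  (sList' e₁ e₂ e₃ a b).all (fun y => Nat.beq (mulE e₁ e₂ e₃ y y) 0 || Nat.beq (mulE e₁ e₂ e₃ y y) iu) &&
    (Nat.beq (countB e₁ e₂ e₃ (sList' e₁ e₂ e₃ a b) 0 0 iu) (countB e₁ e₂ e₃ (sList' e₁ e₂ e₃ a b) 0 0 48) &&
      Nat.beq (countB e₁ e₂ e₃ (sList' e₁ e₂ e₃ a b) 48 0 iu) (countB e₁ e₂ e₃ (sList' e₁ e₂ e₃ a b) 0 iu 48))

/-- the outer candidates -/
def outerB (e₁ e₂ e₃ : Bool) (w a : ℕ) : Bool :=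
  Nat.beq (xw a) w && (Nat.beq (mulE e₁ e₂ e₃ a iu) (mulE e₁ e₂ e₃ iu a) &&
    (Nat.beq (mulE e₁ e₂ e₃ a a) 0 || Nat.beq (mulE e₁ e₂ e₃ a a) iu))

/-- all candidates fail -/
def excludeB (e₁ e₂ e₃ : Bool) : Bool :=
  ((List.range 288).filter fun k => outerB e₁ e₂ e₃ 1 (4 * k + 1)).all fun k =>
    ((List.range 288).filter fun l => outerB e₁ e₂ e₃ 2 (4 * l + 2)).all fun l =>
      Bool.not (passB e₁ e₂ e₃ (4 * k + 1) (4 * l + 2))

/-- elements centralising the four group with a given square -/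
def sqCount (e₁ e₂ e₃ : Bool) (p : ℕ) : ℕ :=
  (List.range 1152).countP fun x =>
    Nat.beq (mulE e₁ e₂ e₃ x iu) (mulE e₁ e₂ e₃ iu x) && Nat.beq (mulE e₁ e₂ e₃ x x) p

end CfsgLib.Recog.UFourThree
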