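import Mathlib
import Cfsg.Agent.Lib.Recog.UFourThree.Autom

set_option autoImplicit false
set_option maxRecDepth 100000
set_option Elab.async false

/-! Definitions for the swapping element (owner: helper22). -/

namespace CfsgLib.Recog.UFourThree

/-- image of a vector under a linear map given on a basis -/
def appM (M : List ℕ) (m : ℕ) : ℕ :=
  Nat.xor (Nat.xor (cond (Nat.testBit m 0) (M.getD 0 0) 0) (cond (Nat.testBit m 1) (M.getD 1 0) 0))
    (Nat.xor (cond (Nat.testBit m 2) (M.getD 2 0) 0) (cond (Nat.testBit m 3) (M.getD 3 0) 0))

/-- composition -/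
def compM (M N : List ℕ) : List ℕ := [appM M (N.getD 0 0), appM M (N.getD 1 0), appM M (N.getD 2 0), appM M (N.getD 3 0)]

/-- a basis vector -/
def ev (A : List ℕ) (m : ℕ) : ℕ := A.getD m 0

/-- action of an element on a subgroup -/
def actM (A : List ℕ) (c : ℕ) : List ℕ :=
  [A.idxOf (cj c (ev A 1)), A.idxOf (cj c (ev A 2)), A.idxOf (cj c (ev A 4)), A.idxOf (cj c (ev A 8))]

/-- the element keeps the basis in the subgroup -/
def normB (A : List ℕ) (c : ℕ) : Bool :=
  A.contains (cj c (ev A 1)) && A.contains (cj c (ev A 2)) && A.contains (cj c (ev A 4)) && A.contains (cj c (ev A 8))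

/-- action of a word alternating with the swapping element -/
def wordM (A M : List ℕ) : List ℕ → List ℕ
  | [] => [1, 2, 4, 8]
  | c :: t => compM (compM M (actM A c)) (wordM A M t)

/-- a linear map passes the conditions -/
def okM (A aut autT : List ℕ) (k : Bool) (M : List ℕ) : Bool :=
  ((List.range 16).all fun m => Nat.beq m 0 || Bool.not (Nat.beq (appM M m) 0)) &&
    ((autT.map (actM A)).contains (compM M M) &&
      ((autT.all fun p => ((autT.map (actM A)).map fun Q => compM Q M).contains (compM M (actM A p))) &&
        Bool.not (witness.any fun e => (e.1 == k) && (Nat.beq e.2.1 (M.getD 2 0) && (Nat.beq e.2.2.1 (M.getD 3 0) &&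
          (Nat.beq (appM (wordM A M e.2.2.2) 1) 1 && Bool.not ((aut.map (actM A)).contains (wordM A M e.2.2.2))))))))

/-- candidates -/
def candM : List (List ℕ) := (List.range 256).map fun c => [2, 1, c / 16, c % 16]

/-- consistency of two actions -/
def consB (A B M N : List ℕ) : Bool :=
  [1, 2, 4, 8].all fun i => [1, 2, 4, 8].all fun j =>
    Nat.beq (ev A (appM M (A.idxOf (cj (ev B j) (ev A i))))) (cj (ev B (appM N j)) (ev A (appM M i)))

/-- conditions on a subgroup -/
def subB (A aut autT : List ℕ) : Bool :=
  Nat.beq A.length 16 &&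
    (((List.range 16).all fun m => (List.range 16).all fun n => Nat.beq (ev A (Nat.xor m n)) (mul (ev A m) (ev A n)) &&
        Nat.beq (A.idxOf (ev A m)) m) &&
      ((A.all fun a => tList.contains a && Nat.beq (mul a a) 0) &&
        ((tList.all fun t => normB A t && (autT.map (actM A)).contains (actM A t)) &&
          (((List.range 1152).all fun m => Bool.not (normB A m) || (aut.map (actM A)).contains (actM A m)) &&
            ((aut.all fun c => Nat.blt c 1152 && normB A c) && (autT.all fun c => tList.contains c) &&
              ([0, 1, 2, 3].all fun i => Nat.beq (ev A i) (vList.getD i 0)))))))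

/-- the automorphism of the centraliser of the four group -/
def sig (t : ℕ) : ℕ := Nat.land (Nat.shiftRight sigP (11 * t)) 2047

end CfsgLib.Recog.UFourThree
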